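import Mathlib

/-!
Three elementary subgroups over a common four-group, each inside the product of the other two: all their
commutators lie in one line.
-/

set_option autoImplicit false
set_option linter.unusedSectionVars false
set_option linter.style.haveILetI false

namespace Cfsg.Lib.M23Nse

universe u

variable {G : Type u} [Group G]

/-- the commutator of two involutions -/
def cc (a b : G) : G := a * b * a * b

theorem cc_conj (g a b : G) : cc (g * a * g⁻¹) (g * b * g⁻¹) = g * cc a b * g⁻¹ := by simp only [cc]; group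

/-- all commutators of two subgroups lie in one line -/
def Line (A B : Subgroup G) (w : G) : Prop := ∀ a ∈ A, ∀ b ∈ B, cc a b = 1 ∨ cc a b = w

/-- a subgroup with two independent elements over a four-group fills a group of order sixteen -/
theorem fill [Finite G] {E V K : Subgroup G} (hE : Nat.card ↥E = 16) (hV : Nat.card ↥V = 4) (hK : K ≤ E) (hVK : V ≤ K)
    {a b : G} (ha : a ∈ K) (hb : b ∈ K) (haV : a ∉ V) (hbV : b ∉ V) (hab : a⁻¹ * b ∉ V) : K = E := by
  have hsub : (V : Set G) ∪ ((fun v => a * v) '' (V : Set G)) ∪ ((fun v => b * v) '' (V : Set G)) ⊆ (K : Set G) := by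
    rintro z ((hz | ⟨v, hv, rfl⟩) | ⟨v, hv, rfl⟩)
    · exact hVK hz
    · exact mul_mem ha (hVK hv)
    · exact mul_mem hb (hVK hv)
  have hle := Set.ncard_le_ncard hsub (Set.toFinite _)
  have hd1 : Disjoint (V : Set G) ((fun v => a * v) '' (V : Set G)) := Set.disjoint_left.2 fun z hz ⟨v, hv, hvz⟩ =>
    haV (by rw [show a = z * v⁻¹ by rw [← hvz]; group]; exact mul_mem hz (inv_mem hv))
  have hd2 : Disjoint ((V : Set G) ∪ ((fun v => a * v) '' (V : Set G))) ((fun v => b * v) '' (V : Set G)) := by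
    refine Set.disjoint_left.2 ?_
    rintro z (hz | ⟨v, hv, hvz⟩) ⟨v', hv', hvz'⟩
    · exact hbV (by rw [show b = z * v'⁻¹ by rw [← hvz']; group]; exact mul_mem hz (inv_mem hv'))
    · refine hab ?_
      have e' : a * v = b * v' := hvz.trans hvz'.symm
      rw [show b = a * v * v'⁻¹ by rw [e', mul_inv_cancel_right],
        show a⁻¹ * (a * v * v'⁻¹) = v * v'⁻¹ by group]
      exact mul_mem hv (inv_mem hv')
  rw [Set.ncard_union_eq hd2, Set.ncard_union_eq hd1, Set.ncard_image_of_injective _ (mul_right_injective a),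
    Set.ncard_image_of_injective _ (mul_right_injective b), ← Nat.card_coe_set_eq, ← Nat.card_coe_set_eq] at hle
  change Nat.card ↥V + Nat.card ↥V + Nat.card ↥V ≤ Nat.card ↥K at hle
  rw [hV] at hle
  have hd : Nat.card ↥K ∣ 16 := hE ▸ Subgroup.card_dvd_of_le hK
  have : ∀ d ∈ Nat.divisors 16, 12 ≤ d → 16 ≤ d := by decide +kernel
  have h16 := this _ (Nat.mem_divisors.2 ⟨hd, by norm_num⟩) hle
  exact Subgroup.eq_of_le_of_card_ge hK (by omega)

/-- the configuration -/
structure Triple (A B D V : Subgroup G) (x : G) : Prop where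
  sqA : ∀ a ∈ A, a * a = 1
  sqB : ∀ a ∈ B, a * a = 1
  sqD : ∀ a ∈ D, a * a = 1
  cardA : Nat.card ↥A = 16
  cardB : Nat.card ↥B = 16
  cardV : Nat.card ↥V = 4
  VA : V ≤ A
  VB : V ≤ B
  AD : A ⊓ D = V
  BD : B ⊓ D = V
  comm : ∀ a ∈ A, ∀ b ∈ B, cc a b ∈ V
  prod : ∀ b ∈ B, ∃ a ∈ A, a * b ∈ D
  covers : ∀ d ∈ D, ∃ a ∈ A, ∃ b ∈ B, d = a * b
  normA : ∀ a ∈ A, x * a * x⁻¹ ∈ A
  normB : ∀ a ∈ B, x * a * x⁻¹ ∈ B
  normD : ∀ a ∈ D, x * a * x⁻¹ ∈ D
  fixV : ∀ v ∈ V, x * v = v * x
  fixA : ∀ a ∈ A, x * a = a * x → a ∈ V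
  fixB : ∀ a ∈ B, x * a = a * x → a ∈ V
  cube : x ^ 3 = 1

namespace Triple

variable {A B D V : Subgroup G} {x : G} (T : Triple A B D V x)
include T

theorem inv_eq {a : G} (ha : a ∈ A ∨ a ∈ B ∨ a ∈ D) : a⁻¹ = a :=
  inv_eq_of_mul_eq_one_left (by rcases ha with h | h | h; exacts [T.sqA a h, T.sqB a h, T.sqD a h])

theorem commA {a b : G} (ha : a ∈ A) (hb : b ∈ A) : a * b = b * a := by
  have := T.inv_eq (Or.inl (mul_mem ha hb))
  rwa [mul_inv_rev, T.inv_eq (Or.inl ha), T.inv_eq (Or.inl hb), eq_comm] at this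

theorem commB {a b : G} (ha : a ∈ B) (hb : b ∈ B) : a * b = b * a := by
  have := T.inv_eq (Or.inr (Or.inl (mul_mem ha hb)))
  rwa [mul_inv_rev, T.inv_eq (Or.inr (Or.inl ha)), T.inv_eq (Or.inr (Or.inl hb)), eq_comm] at this

theorem mulL {a a' b : G} (ha : a ∈ A) (ha' : a' ∈ A) (hb : b ∈ B) : cc (a * a') b = cc a b * cc a' b := by
  have hv := T.comm a' ha' b hb
  have hw := T.comm a ha b hb
  simp only [cc] at hv hw ⊢
  calc a * a' * b * (a * a') * b = a * a' * b * (a' * a) * b := by rw [T.commA ha ha']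
    _ = a * (a' * b * a' * b) * (b⁻¹ * a * b) := by group
    _ = (a' * b * a' * b) * a * (b⁻¹ * a * b) := by rw [T.commA ha (T.VA hv)]
    _ = (a' * b * a' * b) * (a * b * a * b) := by rw [T.inv_eq (Or.inr (Or.inl hb))]; group
    _ = _ := T.commA (T.VA hv) (T.VA hw)

theorem mulR {a b b' : G} (ha : a ∈ A) (hb : b ∈ B) (hb' : b' ∈ B) : cc a (b * b') = cc a b * cc a b' := by
  have hv := T.comm a ha b' hb'
  simp only [cc] at hv ⊢
  calc a * (b * b') * a * (b * b') = a * (b * b') * a * (b' * b) := by rw [T.commB hb hb']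
    _ = a * b * a⁻¹ * (a * b' * a * b') * b := by group
    _ = a * b * a⁻¹ * ((a * b' * a * b') * b) := by group
    _ = a * b * a⁻¹ * (b * (a * b' * a * b')) := by rw [T.commB (T.VB hv) hb]
    _ = _ := by rw [T.inv_eq (Or.inl ha)]; group

theorem swap {a b : G} (ha : a ∈ A) (hb : b ∈ B) : cc b a = cc a b := by
  have h := T.inv_eq (Or.inl (T.VA (T.comm a ha b hb)))
  simp only [cc] at h ⊢
  rw [mul_inv_rev, mul_inv_rev, mul_inv_rev, T.inv_eq (Or.inl ha), T.inv_eq (Or.inr (Or.inl hb))] at h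
  rw [← h]; group

theorem diag {a b : G} (hab : a * b ∈ D) : cc a b = 1 := by
  have := T.sqD _ hab
  simpa [cc, mul_assoc] using this

theorem one_left {b : G} (hb : b ∈ B) : cc 1 b = 1 := by
  simp only [cc, one_mul, mul_one]; exact T.sqB b hb

theorem one_right {a : G} (ha : a ∈ A) : cc a 1 = 1 := by
  simp only [cc, mul_one]; exact T.sqA a ha

theorem leftV {v b : G} (hv : v ∈ V) (hb : b ∈ B) : cc v b = 1 := by
  simp only [cc]
  rw [T.commB (T.VB hv) hb, mul_assoc b v v, T.sqA v (T.VA hv), mul_one, T.sqB b hb]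

theorem rightV {a v : G} (ha : a ∈ A) (hv : v ∈ V) : cc a v = 1 := by
  simp only [cc]
  rw [T.commA ha (T.VA hv), mul_assoc v a a, T.sqA a ha, mul_one, T.sqA v (T.VA hv)]

theorem moved {K : Subgroup G} (hK : K = A ∨ K = B) {a : G} (ha : a ∈ K) (haV : a ∉ V) :
    x * a * x⁻¹ ∉ V ∧ a⁻¹ * (x * a * x⁻¹) ∉ V := by
  have hsq : a⁻¹ = a := by rcases hK with rfl | rfl; exacts [T.inv_eq (Or.inl ha), T.inv_eq (Or.inr (Or.inl ha))]
  refine ⟨fun h => haV ?_, fun h => haV ?_⟩
  · have h' := T.fixV _ h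
    have he : x * a * x⁻¹ = a := by
      have h2 : x * (x * a * x⁻¹) * x⁻¹ = x * a * x⁻¹ := by rw [h']; group
      have h3 : x * a * x⁻¹ = a := by
        have := congrArg (fun z => x⁻¹ * z * x) h2
        simpa [mul_assoc] using this
      exact h3
    rw [← he]; exact h
  · set v := a⁻¹ * (x * a * x⁻¹) with hv
    have e1 : x * a * x⁻¹ = a * v := by rw [hv, mul_inv_cancel_left]
    have hxv : x * v * x⁻¹ = v := by rw [T.fixV v h, mul_inv_cancel_right]
    have e2 : x * (x * a * x⁻¹) * x⁻¹ = a * v * v := by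
      rw [e1, show x * (a * v) * x⁻¹ = (x * a * x⁻¹) * (x * v * x⁻¹) by group, e1, hxv]
    have e3 : a = a * v * v * v := by
      calc a = x ^ 3 * a * (x ^ 3)⁻¹ := by rw [T.cube]; group
        _ = x * (x * (x * a * x⁻¹) * x⁻¹) * x⁻¹ := by simp [pow_succ, mul_assoc]
        _ = x * (a * v * v) * x⁻¹ := by rw [e2]
        _ = (x * a * x⁻¹) * (x * v * x⁻¹) * (x * v * x⁻¹) := by group
        _ = _ := by rw [e1, hxv]
    have hv1 : v = 1 := by
      rw [mul_assoc a v v, T.sqA v (T.VA h), mul_one] at e3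
      exact mul_eq_left.1 e3.symm
    have hc : x * a = a * x := by
      rw [← mul_inv_eq_iff_eq_mul, e1, hv1, mul_one]
    rcases hK with rfl | rfl
    · exact T.fixA a ha hc
    · exact T.fixB a ha hc

/-- all commutators of the first two, and of the last two subgroups lie in one line -/
theorem exists_line [Finite G] : ∃ w ∈ V, Line A B w ∧ Line B D w := by
  obtain ⟨h, hh, hhV⟩ : ∃ h ∈ B, h ∉ V := by
    by_contra! hall
    have := Subgroup.card_le_of_le (show B ≤ V from hall)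
    rw [T.cardB, T.cardV] at this
    omega
  obtain ⟨p, hp, hph⟩ := T.prod h hh
  set k := x * h * x⁻¹
  set q := x * p * x⁻¹
  have hk : k ∈ B := T.normB h hh
  have hq : q ∈ A := T.normA p hp
  have hqk : q * k ∈ D := by
    rw [show q * k = x * (p * h) * x⁻¹ by simp only [q, k]; group]
    exact T.normD _ hph
  have hpV : p ∉ V := fun hpV => by
    have hpD : p ∈ D := (Subgroup.mem_inf.1 (T.AD.symm ▸ hpV : p ∈ A ⊓ D)).2
    refine hhV (T.BD ▸ Subgroup.mem_inf.2 ⟨hh, ?_⟩)
    rw [show h = p⁻¹ * (p * h) by group]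
    exact mul_mem (inv_mem hpD) hph
  obtain ⟨hqV, hpq⟩ := T.moved (Or.inl rfl) hp hpV
  obtain ⟨hkV, hhk⟩ := T.moved (Or.inr rfl) hh hhV
  set w := cc p k with hw
  have hwV : w ∈ V := T.comm p hp k hk
  have hww : w * w = 1 := T.sqA w (T.VA hwV)
  have hcph : cc p h = 1 := T.diag hph
  have hcqk : cc q k = 1 := T.diag hqk
  have hclosed : ∀ {a b : G}, (a = 1 ∨ a = w) → (b = 1 ∨ b = w) → a * b = 1 ∨ a * b = w := by
    rintro a b (rfl | rfl) (rfl | rfl) <;> simp [hww]
  have hcqh : cc q h = w := by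
    have hv : cc q h ∈ V := T.comm q hq h hh
    -- the product of the two elements of the third subgroup
    have h1 : p * h * (q * k) ∈ D := mul_mem hph hqk
    have hvD : cc q h ∈ D := (Subgroup.mem_inf.1 (T.AD.symm ▸ hv : cc q h ∈ A ⊓ D)).2
    have hswap : h * q = q * h * cc q h := by
      have h2 := T.swap hq hh
      simp only [cc] at h2 ⊢
      calc h * q = q * h * (h⁻¹ * q⁻¹ * h * q) := by group
        _ = q * h * (h * q * h * q) := by rw [T.inv_eq (Or.inr (Or.inl hh)), T.inv_eq (Or.inl hq)]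
        _ = _ := by rw [h2]
    have h3 : p * q * (h * k) ∈ D := by
      have e : p * h * (q * k) = p * q * (h * k) * cc q h := by
        calc p * h * (q * k) = p * (h * q) * k := by group
          _ = p * q * h * (cc q h * k) := by rw [hswap]; group
          _ = p * q * h * (k * cc q h) := by rw [T.commB (T.VB hv) hk]
          _ = _ := by group
      rw [e] at h1
      simpa using mul_mem h1 (inv_mem hvD)
    have h2 : cc (p * q) (h * k) = 1 := T.diag h3
    rw [T.mulL hp hq (mul_mem hh hk), T.mulR hp hh hk, T.mulR hq hh hk, hcph, hcqk, one_mul, mul_one,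
      ← hw] at h2
    exact ((eq_inv_of_mul_eq_one_right h2).trans (inv_eq_of_mul_eq_one_left hww))
  have hline : Line A B w := by
    let U : Subgroup G :=
      { carrier := {a | a ∈ A ∧ (cc a h = 1 ∨ cc a h = w) ∧ (cc a k = 1 ∨ cc a k = w)}
        one_mem' := ⟨one_mem _, Or.inl (T.one_left hh), Or.inl (T.one_left hk)⟩
        mul_mem' := fun {a b} ha hb => ⟨mul_mem ha.1 hb.1,
          by rw [T.mulL ha.1 hb.1 hh]; exact hclosed ha.2.1 hb.2.1,
          by rw [T.mulL ha.1 hb.1 hk]; exact hclosed ha.2.2 hb.2.2⟩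
        inv_mem' := fun {a} ha => by
          show a⁻¹ ∈ {a | a ∈ A ∧ (cc a h = 1 ∨ cc a h = w) ∧ (cc a k = 1 ∨ cc a k = w)}
          rw [T.inv_eq (Or.inl ha.1)]; exact ha }
    have hU : U = A := fill T.cardA T.cardV (fun a ha => ha.1)
      (fun v hv => ⟨T.VA hv, Or.inl (T.leftV hv hh), Or.inl (T.leftV hv hk)⟩)
      (a := p) (b := q) ⟨hp, Or.inl hcph, Or.inr rfl⟩ ⟨hq, Or.inr hcqh, Or.inl hcqk⟩ hpV hqV hpq
    intro a ha b hb
    have haU : a ∈ U := hU.symm ▸ ha
    let W : Subgroup G :=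
      { carrier := {m | m ∈ B ∧ (cc a m = 1 ∨ cc a m = w)}
        one_mem' := ⟨one_mem _, Or.inl (T.one_right ha)⟩
        mul_mem' := fun {m n} hm hn => ⟨mul_mem hm.1 hn.1,
          by rw [T.mulR ha hm.1 hn.1]; exact hclosed hm.2 hn.2⟩
        inv_mem' := fun {m} hm => by
          show m⁻¹ ∈ {m | m ∈ B ∧ (cc a m = 1 ∨ cc a m = w)}
          rw [T.inv_eq (Or.inr (Or.inl hm.1))]; exact hm }
    have hW : W = B := fill T.cardB T.cardV (fun m hm => hm.1)
      (fun v hv => ⟨T.VB hv, Or.inl (T.rightV ha hv)⟩)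
      (a := h) (b := k) ⟨hh, haU.2.1⟩ ⟨hk, haU.2.2⟩ hhV hkV hhk
    exact ((hW.symm ▸ hb : b ∈ W)).2
  refine ⟨w, hwV, hline, fun b hb d hd => ?_⟩
  obtain ⟨e, he, m, hm, rfl⟩ := T.covers d hd
  have hbm : b * m = m * b := T.commB hb hm
  have hkey : cc b (e * m) = cc b e := by
    have hsq := T.sqD _ hd
    simp only [cc]
    calc b * (e * m) * b * (e * m) = b * e * (m * b) * e * m := by group
      _ = b * e * b * (e⁻¹ * ((e * m) * (e * m))) := by rw [← hbm]; group
      _ = _ := by rw [hsq, mul_one, T.inv_eq (Or.inl he)]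
  rw [hkey, T.swap he hb]
  exact hline e he b hb

end Triple

end Cfsg.Lib.M23Nse
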