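import Cfsg.Agent.M23Nse.Two
import Cfsg.Agent.M22Nse.CensusThree

/-!
The census: counts of the elements of orders two, five, seven, fourteen and fifteen, element orders divisible
by the large primes, and the first facts about the Sylow subgroups for three.
-/

set_option autoImplicit false
set_option linter.unusedSectionVars false
set_option linter.style.haveILetI false
set_option maxRecDepth 100000

namespace Cfsg.Lib.M23Nse

open Subgroup Cfsg.Lib.SameOrder Cfsg.Lib.Small Cfsg.Lib.MathieuEleven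

universe u

variable {G : Type u} [Group G] [Finite G]

local instance fact_two_cbs : Fact (Nat.Prime 2) := ⟨Nat.prime_two⟩
local instance fact_three_cbs : Fact (Nat.Prime 3) := ⟨Nat.prime_three⟩
local instance fact_five_cbs : Fact (Nat.Prime 5) := ⟨by norm_num⟩
local instance fact_seven_cbs : Fact (Nat.Prime 7) := ⟨by norm_num⟩

/-- in a centraliser of order a product of two primes one element has the product order -/
theorem cyclic_cent {v : G} {p q : ℕ} (hp : p.Prime) (hq : q.Prime) (hne : p ≠ q) (hv : orderOf v = p)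
    (hC : Nat.card ↥(centralizer ({v} : Set G)) = p * q) :
    IsCyclic ↥(centralizer ({v} : Set G)) ∧
      Nat.card {w : G // orderOf w = q ∧ w * v = v * w} = q - 1 := by
  classical
  haveI := Fact.mk hq
  set C := centralizer ({v} : Set G)
  obtain ⟨⟨w, hw⟩, hwo⟩ := exists_prime_orderOf_dvd_card' (G := ↥C) q (hC ▸ dvd_mul_left q p)
  rw [Subgroup.orderOf_mk] at hwo
  have hvC : v ∈ C := mem_centralizer_singleton_iff.2 rfl
  have hcyc : IsCyclic ↥C := isCyclic_of_orderOf_eq_card ⟨v * w, mul_mem hvC hw⟩ (by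
    rw [Subgroup.orderOf_mk, orderOf_mul_coprime (mem_centralizer_singleton_iff.1 hw).symm hv hwo
      ((Nat.coprime_primes hp hq).2 hne), hC])
  refine ⟨hcyc, ?_⟩
  have := Fintype.ofFinite ↥C
  let e : {w : G // orderOf w = q ∧ w * v = v * w} ≃ {c : ↥C // orderOf c = q} :=
    { toFun := fun w => ⟨⟨w.1, mem_centralizer_singleton_iff.2 w.2.2⟩, by rw [Subgroup.orderOf_mk]; exact w.2.1⟩
      invFun := fun c => ⟨c.1, by rw [Subgroup.orderOf_coe]; exact c.2, mem_centralizer_singleton_iff.1 c.1.2⟩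
      left_inv := fun _ => rfl
      right_inv := fun _ => rfl }
  rw [Nat.card_congr e, Nat.card_eq_fintype_card, Fintype.card_subtype,
    IsCyclic.card_orderOf_eq_totient (by rw [← Nat.card_eq_fintype_card, hC]; exact dvd_mul_left q p),
    Nat.totient_prime hq]

variable (H : Census G)

include H

theorem Census.sylow_five (P : Sylow 5 G) : Nat.card ↥(P : Subgroup G) = 5 := by
  simpa using card_sylow_of_factor P (a := 1) (m := 2040192) (by rw [H.card]; norm_num) (by norm_num)

theorem Census.sylow_seven (P : Sylow 7 G) : Nat.card ↥(P : Subgroup G) = 7 := by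
  simpa using card_sylow_of_factor P (a := 1) (m := 1457280) (by rw [H.card]; norm_num) (by norm_num)

theorem Census.cnt_five : cnt G 5 = 680064 := by rw [M12Nse.cnt_prime H.sylow_five, H.nFive]

theorem Census.cnt_seven : cnt G 7 = 1457280 := by rw [M12Nse.cnt_prime H.sylow_seven, H.nSeven]

theorem Census.cnt_two : cnt G 2 = 3795 := by
  obtain ⟨t, ht⟩ := exists_prime_orderOf_dvd_card' (G := G) 2 (by rw [H.card]; norm_num)
  have h := M12Nse.card_isConj_mul t
  rw [H.card, H.invol t ht] at h
  have e : cnt G 2 = Nat.card {x : G // IsConj t x} := Nat.card_congr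
    (Equiv.subtypeEquivRight fun x => ⟨fun hx => H.conj t x ht hx, fun hx => (M12Nse.conj_orderOf hx).trans ht⟩)
  rw [e]
  omega

theorem Census.cnt_fourteen : cnt G 14 = 1457280 := by
  classical
  have := Fintype.ofFinite G
  show Nat.card {g : G // orderOf g = 7 * 2} = 1457280
  rw [Nat.card_congr (pairEquiv (G := G) 7 2 8 7 (by norm_num) (by norm_num) (by norm_num) (by norm_num)
      (by norm_num) (by norm_num) (by norm_num) (by norm_num)), Nat.card_sigma,
    Finset.sum_congr rfl (g := fun _ => 1) fun v _ =>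
      (cyclic_cent (p := 7) (q := 2) (by norm_num) (by norm_num) (by norm_num) v.2 (H.seven v.1 v.2)).2,
    Finset.sum_const, Finset.card_univ, ← Nat.card_eq_fintype_card, smul_eq_mul, mul_one]
  exact H.cnt_seven

theorem Census.cnt_fifteen : cnt G 15 = 1360128 := by
  classical
  have := Fintype.ofFinite G
  show Nat.card {g : G // orderOf g = 5 * 3} = 1360128
  rw [Nat.card_congr (pairEquiv (G := G) 5 3 6 10 (by norm_num) (by norm_num) (by norm_num) (by norm_num)
      (by norm_num) (by norm_num) (by norm_num) (by norm_num)), Nat.card_sigma,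
    Finset.sum_congr rfl (g := fun _ => 2) fun v _ =>
      (cyclic_cent (p := 5) (q := 3) (by norm_num) (by norm_num) (by norm_num) v.2 (H.five v.1 v.2)).2,
    Finset.sum_const, Finset.card_univ, ← Nat.card_eq_fintype_card, smul_eq_mul]
  show cnt G 5 * 2 = _
  rw [H.cnt_five]

/-- a centraliser contains no prime whose own centraliser omits the element -/
theorem Census.prime_not_dvd {v : G} {p m : ℕ} (hp : p.Prime)
    (hC : ∀ x : G, orderOf x = p → Nat.card ↥(centralizer ({x} : Set G)) = m) (hv : ¬ orderOf v ∣ m) :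
    ¬ p ∣ Nat.card ↥(centralizer ({v} : Set G)) := by
  intro hd
  haveI := Fact.mk hp
  obtain ⟨⟨w, hw⟩, hwo⟩ := exists_prime_orderOf_dvd_card' (G := ↥(centralizer ({v} : Set G))) p hd
  rw [Subgroup.orderOf_mk] at hwo
  exact hv (hC w hwo ▸ M12Nse.dvd_centralizer_orderOf (mem_centralizer_singleton_iff.1 hw).symm)

/-- the order of the centraliser of an element of order three -/
theorem Census.cent_three_dvd {v : G} (hv : orderOf v = 3) :
    Nat.card ↥(centralizer ({v} : Set G)) ∣ 5760 := by
  refine Nat.Coprime.dvd_of_dvd_mul_right ?_ (show _ ∣ 5760 * 1771 by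
    simpa [H.card] using Subgroup.card_subgroup_dvd_card (centralizer ({v} : Set G)))
  rw [show (1771 : ℕ) = 7 * 11 * 23 by norm_num]
  exact Nat.Coprime.mul_right (Nat.Coprime.mul_right
    ((Nat.Prime.coprime_iff_not_dvd (by norm_num)).2
      (H.prime_not_dvd (by norm_num) H.seven (by rw [hv]; norm_num))).symm
    ((Nat.Prime.coprime_iff_not_dvd (by norm_num)).2
      (H.prime_not_dvd (by norm_num) H.eleven (by rw [hv]; norm_num))).symm)
    ((Nat.Prime.coprime_iff_not_dvd (by norm_num)).2
      (H.prime_not_dvd (by norm_num) H.twentyThree (by rw [hv]; norm_num))).symm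

/-- the orders divisible by a large prime -/
theorem Census.order_big (g : G) : orderOf g ∈ ([5, 7, 11, 14, 15, 23] : List ℕ) ∨ orderOf g ∣ 1152 := by
  have key : ∀ p m : ℕ, p.Prime → p ∣ orderOf g →
      (∀ x : G, orderOf x = p → Nat.card ↥(centralizer ({x} : Set G)) = m) → orderOf g ∣ m := fun p m hp hd hC =>
    hC _ (orderOf_pow_orderOf_div (orderOf_pos g).ne' hd) ▸
      M12Nse.dvd_centralizer_orderOf (Commute.self_pow g _).eq
  by_cases h5 : 5 ∣ orderOf g
  · have hd := key 5 15 (by norm_num) h5 H.five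
    have : ∀ d ∈ Nat.divisors 15, 5 ∣ d → d ∈ ([5, 7, 11, 14, 15, 23] : List ℕ) := by decide +kernel
    exact Or.inl (this _ (Nat.mem_divisors.2 ⟨hd, by norm_num⟩) h5)
  by_cases h7 : 7 ∣ orderOf g
  · have hd := key 7 14 (by norm_num) h7 H.seven
    have : ∀ d ∈ Nat.divisors 14, 7 ∣ d → d ∈ ([5, 7, 11, 14, 15, 23] : List ℕ) := by decide +kernel
    exact Or.inl (this _ (Nat.mem_divisors.2 ⟨hd, by norm_num⟩) h7)
  by_cases h11 : 11 ∣ orderOf g
  · have hd := key 11 11 (by norm_num) h11 H.eleven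
    have : ∀ d ∈ Nat.divisors 11, 11 ∣ d → d ∈ ([5, 7, 11, 14, 15, 23] : List ℕ) := by decide +kernel
    exact Or.inl (this _ (Nat.mem_divisors.2 ⟨hd, by norm_num⟩) h11)
  by_cases h23 : 23 ∣ orderOf g
  · have hd := key 23 23 (by norm_num) h23 H.twentyThree
    have : ∀ d ∈ Nat.divisors 23, 23 ∣ d → d ∈ ([5, 7, 11, 14, 15, 23] : List ℕ) := by decide +kernel
    exact Or.inl (this _ (Nat.mem_divisors.2 ⟨hd, by norm_num⟩) h23)
  refine Or.inr (Nat.Coprime.dvd_of_dvd_mul_right ?_ (show orderOf g ∣ 1152 * 8855 by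
    simpa [H.card] using orderOf_dvd_natCard g))
  rw [show (8855 : ℕ) = 5 * 7 * 11 * 23 by norm_num]
  exact Nat.Coprime.mul_right (Nat.Coprime.mul_right (Nat.Coprime.mul_right
    ((Nat.Prime.coprime_iff_not_dvd (by norm_num)).2 h5).symm ((Nat.Prime.coprime_iff_not_dvd (by norm_num)).2 h7).symm)
    ((Nat.Prime.coprime_iff_not_dvd (by norm_num)).2 h11).symm)
    ((Nat.Prime.coprime_iff_not_dvd (by norm_num)).2 h23).symm

theorem Census.card_sylow_three (S : Sylow 3 G) : Nat.card ↥(S : Subgroup G) = 9 := by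
  simpa using card_sylow_of_factor S (a := 2) (m := 1133440) (by rw [H.card]; norm_num) (by norm_num)

/-- no involution centralises a Sylow subgroup for three -/
theorem Census.sylow_no_invol {K : Subgroup G} (hK : 9 ∣ Nat.card ↥K) {t : G} (ht : orderOf t = 2)
    (hc : ∀ a ∈ K, a * t = t * a) : False := by
  have := hK.trans (Subgroup.card_dvd_of_le fun a ha => mem_centralizer_singleton_iff.2 (hc a ha))
  rw [H.invol t ht] at this
  norm_num at this

theorem Census.sylow_three_comm (S : Sylow 3 G) {a b : G} (ha : a ∈ (S : Subgroup G)) (hb : b ∈ (S : Subgroup G)) :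
    a * b = b * a := by
  haveI := IsPGroup.isMulCommutative_of_card_eq_prime_sq (p := 3) (G := ↥(S : Subgroup G))
    (by rw [H.card_sylow_three S]; norm_num)
  exact congrArg Subtype.val (IsMulCommutative.is_comm.comm (⟨a, ha⟩ : ↥(S : Subgroup G)) ⟨b, hb⟩)

theorem Census.sylow_le_cent (S : Sylow 3 G) {x : G} (hx : x ∈ (S : Subgroup G)) :
    (S : Subgroup G) ≤ centralizer ({x} : Set G) :=
  fun _ ha => mem_centralizer_singleton_iff.2 (H.sylow_three_comm S ha hx)

/-- the centraliser of an element of order three has order `2 ^ a * 9` or `2 ^ a * 45` -/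
theorem Census.cent_three_form {x : G} (hx : orderOf x = 3) :
    ∃ a c, a ≤ 7 ∧ c ≤ 1 ∧ Nat.card ↥(centralizer ({x} : Set G)) = 2 ^ a * 9 * 5 ^ c := by
  obtain ⟨S, hS⟩ := M22Nse.exists_sylow_three hx
  have h9 : 9 ∣ Nat.card ↥(centralizer ({x} : Set G)) :=
    H.card_sylow_three S ▸ Subgroup.card_dvd_of_le (H.sylow_le_cent S hS)
  have hall : ∀ d ∈ Nat.divisors 5760, 9 ∣ d → ∃ a : Fin 8, ∃ c : Fin 2, d = 2 ^ a.val * 9 * 5 ^ c.val := by
    decide +kernel
  obtain ⟨a, c, h⟩ := hall _ (Nat.mem_divisors.2 ⟨H.cent_three_dvd hx, by norm_num⟩) h9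
  exact ⟨a, c, by omega, by omega, h⟩

/-- an element centralising a Sylow subgroup for three lies in it -/
theorem Census.cent_sylow (S : Sylow 3 G) {g : G} (hg : ∀ a ∈ (S : Subgroup G), a * g = g * a) :
    g ∈ (S : Subgroup G) := by
  obtain ⟨x, hxS, hx1⟩ := (Subgroup.nontrivial_iff_exists_ne_one _).1
    (Finite.one_lt_card_iff_nontrivial.1 (by rw [H.card_sylow_three S]; norm_num) : Nontrivial ↥(S : Subgroup G))
  set C := centralizer ((S : Subgroup G) : Set G)
  have hle : (S : Subgroup G) ≤ C := fun a ha => mem_centralizer_iff.2 fun b hb => H.sylow_three_comm S hb ha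
  obtain ⟨y, hyS, hy⟩ : ∃ y ∈ (S : Subgroup G), orderOf y = 3 := by
    obtain ⟨⟨y, hyS⟩, hy⟩ := exists_prime_orderOf_dvd_card' (G := ↥(S : Subgroup G)) 3
      (by rw [H.card_sylow_three S]; norm_num)
    exact ⟨y, hyS, by rwa [Subgroup.orderOf_mk] at hy⟩
  have hCy : C ≤ centralizer ({y} : Set G) := fun c hc =>
    mem_centralizer_singleton_iff.2 (mem_centralizer_iff.1 hc y hyS).symm
  have hodd : ¬ 2 ∣ Nat.card ↥C := fun h2 => by
    obtain ⟨⟨t, ht⟩, hto⟩ := exists_prime_orderOf_dvd_card' (G := ↥C) 2 h2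
    rw [Subgroup.orderOf_mk] at hto
    exact H.sylow_no_invol (K := (S : Subgroup G)) (by rw [H.card_sylow_three S]) hto
      fun a ha => mem_centralizer_iff.1 ht a ha
  have h5 : ¬ 5 ∣ Nat.card ↥C := fun h5 => by
    obtain ⟨⟨w, hw⟩, hwo⟩ := exists_prime_orderOf_dvd_card' (G := ↥C) 5 h5
    rw [Subgroup.orderOf_mk] at hwo
    have := Subgroup.card_dvd_of_le (show (S : Subgroup G) ≤ centralizer ({w} : Set G) from fun a ha =>
      mem_centralizer_singleton_iff.2 (mem_centralizer_iff.1 hw a ha))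
    rw [H.card_sylow_three S, H.five w hwo] at this
    norm_num at this
  have h9 : 9 ∣ Nat.card ↥C := H.card_sylow_three S ▸ Subgroup.card_dvd_of_le hle
  have key : ∀ d ∈ Nat.divisors 5760, ¬ 2 ∣ d → ¬ 5 ∣ d → 9 ∣ d → d = 9 := by decide +kernel
  have hC : (S : Subgroup G) = C := Subgroup.eq_of_le_of_card_ge hle
    (by rw [key _ (Nat.mem_divisors.2 ⟨(Subgroup.card_dvd_of_le hCy).trans (H.cent_three_dvd hy), by norm_num⟩)
      hodd h5 h9, H.card_sylow_three S])
  rw [hC]
  exact mem_centralizer_iff.2 hg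

end Cfsg.Lib.M23Nse
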