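import Cfsg.Agent.M23Nse.Facts

/-!
The facts about counts and element orders from which the Mathieu group of degree twenty-three is recognised,
and the census from which these facts are derived.
-/

set_option autoImplicit false

namespace Cfsg.Lib.M23Nse

open Subgroup Cfsg.Lib.SameOrder Cfsg.Lib.Small

/-- the possible element orders, allowing all powers of two -/
def fieldOrders : List ℕ := [1, 2, 3, 4, 5, 6, 7, 8, 11, 14, 15, 16, 23, 32, 64, 128]

/-- the facts used by the local analysis -/
structure Fields (G : Type*) [Group G] : Prop where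
  card : Nat.card G = 10200960
  two : cnt G 2 = 3795
  three : cnt G 3 = 56672
  six : cnt G 6 = 850080
  fourteen : cnt G 14 = 1457280
  fifteen : cnt G 15 = 1360128
  nFive : Nat.card (Sylow 5 G) = 170016
  nSeven : Nat.card (Sylow 7 G) = 242880
  orders : ∀ g : G, orderOf g ∈ fieldOrders
  threeBound : ∀ x : G, orderOf x = 3 → ¬ 2 ^ 6 ∣ Nat.card ↥(centralizer ({x} : Set G))

/-- the census: centralisers of the elements of orders five, seven, eleven and twenty-three, two numbers of Sylow
subgroups, and one class of involutions with its centraliser order -/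
structure Census (G : Type*) [Group G] : Prop where
  card : Nat.card G = 10200960
  five : ∀ x : G, orderOf x = 5 → Nat.card ↥(centralizer ({x} : Set G)) = 15
  seven : ∀ x : G, orderOf x = 7 → Nat.card ↥(centralizer ({x} : Set G)) = 14
  eleven : ∀ x : G, orderOf x = 11 → Nat.card ↥(centralizer ({x} : Set G)) = 11
  twentyThree : ∀ x : G, orderOf x = 23 → Nat.card ↥(centralizer ({x} : Set G)) = 23
  nFive : Nat.card (Sylow 5 G) = 170016
  nSeven : Nat.card (Sylow 7 G) = 242880
  invol : ∀ t : G, orderOf t = 2 → Nat.card ↥(centralizer ({t} : Set G)) = 2688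
  conj : ∀ s t : G, orderOf s = 2 → orderOf t = 2 → IsConj s t

universe u

variable {G : Type u} [Group G] [Finite G] (H : Fields G)

local instance fact_five_fld : Fact (Nat.Prime 5) := ⟨by norm_num⟩
local instance fact_seven_fld : Fact (Nat.Prime 7) := ⟨by norm_num⟩

include H

theorem Fields.sylow_five (P : Sylow 5 G) : Nat.card ↥(P : Subgroup G) = 5 := by
  simpa using card_sylow_of_factor P (a := 1) (m := 2040192) (by rw [H.card]; norm_num) (by norm_num)

theorem Fields.sylow_seven (P : Sylow 7 G) : Nat.card ↥(P : Subgroup G) = 7 := by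
  simpa using card_sylow_of_factor P (a := 1) (m := 1457280) (by rw [H.card]; norm_num) (by norm_num)

theorem Fields.cnt_five : cnt G 5 = 680064 ∧ Nat.card (Sylow 5 G) = 170016 :=
  ⟨by rw [M12Nse.cnt_prime H.sylow_five, H.nFive], H.nFive⟩

theorem Fields.cnt_seven : cnt G 7 = 1457280 ∧ Nat.card (Sylow 7 G) = 242880 :=
  ⟨by rw [M12Nse.cnt_prime H.sylow_seven, H.nSeven], H.nSeven⟩

end Cfsg.Lib.M23Nse
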