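import Cfsg.Agent.M23Nse.Spectrum
import Cfsg.Agent.M23Nse.Fields

/-!
A group with the counts of the Mathieu group of degree twenty-three has the fields used by the local analysis.
-/

set_option autoImplicit false
set_option linter.unusedSectionVars false
set_option linter.style.haveILetI false
set_option maxRecDepth 100000

namespace Cfsg.Lib.M23Nse

open Subgroup Cfsg.Lib.SameOrder Cfsg.Lib.Small Cfsg.Lib.MathieuEleven

universe u

variable {G : Type u} [Group G] [Finite G] (H : Hyp G)

local instance fact_two_hf : Fact (Nat.Prime 2) := ⟨Nat.prime_two⟩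
local instance fact_three_hf : Fact (Nat.Prime 3) := ⟨Nat.prime_three⟩

include H

/-- the centraliser of an element of order three is not divisible by sixty-four -/
theorem three_bound {x : G} (hx : orderOf x = 3) : ¬ 2 ^ 6 ∣ Nat.card ↥(centralizer ({x} : Set G)) := by
  intro h6
  set C := centralizer ({x} : Set G) with hC
  obtain ⟨g, hg⟩ := (cnt_ne_zero_iff 8).1 (spectrum H).2.2.2.2.1
  obtain ⟨T, hT⟩ := Sylow.exists_subgroup_card_pow_prime (G := ↥C) 2 (n := 6)
    h6
  have hexp : ∀ w ∈ T.map C.subtype, w * w = 1 := by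
    rintro _ ⟨w, hw, rfl⟩
    obtain ⟨k, -, hk⟩ := (Nat.dvd_prime_pow Nat.prime_two).1 (hT ▸ Subgroup.orderOf_dvd_natCard T hw)
    rw [← Subgroup.orderOf_coe] at hk
    have hm := (spectrum H).2.2.2.2.2 (x * (w : G))
    rw [(show Commute x (w : G) from (mem_centralizer_singleton_iff.1 w.2).symm).orderOf_mul_eq_mul_orderOf_of_coprime
      (by rw [hx, hk]; exact Nat.Coprime.pow_right k (by norm_num)), hx, hk] at hm
    have hk1 : k ≤ 1 := by
      by_contra! hk2
      have h12 : 12 ∣ 3 * 2 ^ k := (show 3 * 2 ^ 2 ∣ 3 * 2 ^ k from Nat.mul_dvd_mul_left 3 (pow_dvd_pow 2 hk2))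
      have : ∀ m ∈ ords, ¬ 12 ∣ m := by decide +kernel
      exact this _ hm h12
    show (w : G) * w = 1
    rw [← pow_two, ← orderOf_dvd_iff_pow_eq_one, hk]
    exact pow_dvd_pow 2 hk1
  set T' := T.map C.subtype
  have hT' : Nat.card ↥T' = 2 ^ 6 := by
    rw [Subgroup.card_map_of_injective C.subtype_injective, hT]
  obtain ⟨P, hP⟩ := IsPGroup.exists_le_sylow (IsPGroup.of_card (p := 2) hT')
  obtain ⟨Q, hQ⟩ := IsPGroup.exists_le_sylow
    (IsPGroup.of_card (p := 2) (n := 3) (by rw [Nat.card_zpowers, hg]; norm_num) : IsPGroup 2 ↥(zpowers g))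
  obtain ⟨r, hr⟩ := MulAction.exists_smul_eq G Q P
  have hgP : r * g * r⁻¹ ∈ (P : Subgroup G) := by
    rw [← hr, Sylow.coe_subgroup_smul]
    exact Subgroup.smul_mem_pointwise_smul _ (MulAut.conj r) _ (hQ (mem_zpowers g))
  have hP7 : Nat.card ↥(P : Subgroup G) = 2 ^ 7 :=
    Cfsg.Lib.Small.card_sylow_of_factor P (a := 7) (m := 79695) (by rw [H.card]; norm_num) (by norm_num)
  have hidx : (T'.subgroupOf (P : Subgroup G)).index = 2 := by
    have := Subgroup.card_mul_index (T'.subgroupOf (P : Subgroup G))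
    rw [Nat.card_congr (Subgroup.subgroupOfEquivOfLe hP).toEquiv, hT', hP7] at this
    omega
  have hsq := Subgroup.sq_mem_of_index_two hidx (⟨r * g * r⁻¹, hgP⟩ : ↥(P : Subgroup G))
  rw [Subgroup.mem_subgroupOf, Subgroup.coe_pow] at hsq
  have h4 := hexp _ hsq
  change (r * g * r⁻¹) ^ 2 * (r * g * r⁻¹) ^ 2 = 1 at h4
  rw [← pow_add] at h4
  have := orderOf_dvd_of_pow_eq_one h4
  rw [← MulAut.conj_apply, MulEquiv.orderOf_eq, hg] at this
  norm_num at this

/-- the fields -/
theorem Hyp.fields : Fields G where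
  card := H.card
  two := M23Nse.cnt_two H
  three := M23Nse.cnt_three H
  six := (spectrum H).1
  fourteen := (spectrum H).2.1
  fifteen := (spectrum H).2.2.1
  nFive := (M23Nse.cnt_five H).2
  nSeven := (M23Nse.cnt_seven H).2
  orders g := (show ords ⊆ fieldOrders by decide +kernel) ((spectrum H).2.2.2.2.2 g)
  threeBound _ hx := three_bound H hx

end Cfsg.Lib.M23Nse
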