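import Cfsg.Agent.M23Nse.TopData

/-!
The certificate is valid.
-/

set_option autoImplicit false

namespace Cfsg.Lib.M23Nse.Top

open Cfsg.Lib.CosetCert

theorem steps0_ok : cert.stepsOK 0 steps0 = true ∧ ruleBound spec.length steps0 = true := by decide +kernel

theorem steps1_ok : cert.stepsOK 256 steps1 = true ∧ ruleBound spec.length steps1 = true := by decide +kernel

theorem steps2_ok : cert.stepsOK 512 steps2 = true ∧ ruleBound spec.length steps2 = true := by decide +kernel

theorem steps3_ok : cert.stepsOK 768 steps3 = true ∧ ruleBound spec.length steps3 = true := by decide +kernel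

theorem steps4_ok : cert.stepsOK 1024 steps4 = true ∧ ruleBound spec.length steps4 = true := by decide +kernel

theorem steps5_ok : cert.stepsOK 1280 steps5 = true ∧ ruleBound spec.length steps5 = true := by decide +kernel

theorem steps6_ok : cert.stepsOK 1536 steps6 = true ∧ ruleBound spec.length steps6 = true := by decide +kernel

theorem steps7_ok : cert.stepsOK 1792 steps7 = true ∧ ruleBound spec.length steps7 = true := by decide +kernel

theorem steps8_ok : cert.stepsOK 2048 steps8 = true ∧ ruleBound spec.length steps8 = true := by decide +kernel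

def cat0x0_0 : List (ℕ × ℕ) := steps0 ++ steps1

theorem cat0x0_0_ok : cert.stepsOK 0 cat0x0_0 = true ∧ ruleBound spec.length cat0x0_0 = true :=
  stepsOK_cat steps0_ok steps1_ok (by decide +kernel)

def cat0x0_1 : List (ℕ × ℕ) := steps2 ++ steps3

theorem cat0x0_1_ok : cert.stepsOK 512 cat0x0_1 = true ∧ ruleBound spec.length cat0x0_1 = true :=
  stepsOK_cat steps2_ok steps3_ok (by decide +kernel)

def cat0x0_2 : List (ℕ × ℕ) := steps4 ++ steps5

theorem cat0x0_2_ok : cert.stepsOK 1024 cat0x0_2 = true ∧ ruleBound spec.length cat0x0_2 = true :=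
  stepsOK_cat steps4_ok steps5_ok (by decide +kernel)

def cat0x0_3 : List (ℕ × ℕ) := steps6 ++ steps7

theorem cat0x0_3_ok : cert.stepsOK 1536 cat0x0_3 = true ∧ ruleBound spec.length cat0x0_3 = true :=
  stepsOK_cat steps6_ok steps7_ok (by decide +kernel)

def cat0x1_0 : List (ℕ × ℕ) := cat0x0_0 ++ cat0x0_1

theorem cat0x1_0_ok : cert.stepsOK 0 cat0x1_0 = true ∧ ruleBound spec.length cat0x1_0 = true :=
  stepsOK_cat cat0x0_0_ok cat0x0_1_ok (by decide +kernel)

def cat0x1_1 : List (ℕ × ℕ) := cat0x0_2 ++ cat0x0_3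

theorem cat0x1_1_ok : cert.stepsOK 1024 cat0x1_1 = true ∧ ruleBound spec.length cat0x1_1 = true :=
  stepsOK_cat cat0x0_2_ok cat0x0_3_ok (by decide +kernel)

def cat0x2_0 : List (ℕ × ℕ) := cat0x1_0 ++ cat0x1_1

theorem cat0x2_0_ok : cert.stepsOK 0 cat0x2_0 = true ∧ ruleBound spec.length cat0x2_0 = true :=
  stepsOK_cat cat0x1_0_ok cat0x1_1_ok (by decide +kernel)

def cat0x3_0 : List (ℕ × ℕ) := cat0x2_0 ++ steps8

theorem cat0x3_0_ok : cert.stepsOK 0 cat0x3_0 = true ∧ ruleBound spec.length cat0x3_0 = true :=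
  stepsOK_cat cat0x2_0_ok steps8_ok (by decide +kernel)

theorem spec_ok : cert.rotsOK rels spec = true := by decide +kernel

theorem tab_ok : cert.tabOK cat0x3_0.length = true := by decide +kernel

theorem valid : cert.Valid rels :=
  ⟨by decide, spec, cat0x3_0, spec_ok, cat0x3_0_ok.1, cat0x3_0_ok.2, tab_ok⟩

theorem fins_length : cert.fin.length = 253 := by rw [Cert.fin, List.length_map, List.length_range]; rfl

end Cfsg.Lib.M23Nse.Top
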