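import Cfsg.Agent.M23Nse.Glue
import Cfsg.Agent.M23Nse.Census
import Cfsg.Agent.M23Nse.HypFields
import Cfsg.Agent.M23Nse.TopCheck
import Cfsg.Agent.M23Nse.MidCheck

/-!
Two groups with the counts of the Mathieu group of degree twenty-three are isomorphic.
-/

set_option autoImplicit false
set_option linter.unusedSectionVars false
set_option linter.style.haveILetI false
set_option maxRecDepth 100000
set_option synthInstance.maxSize 4000

namespace Cfsg.Lib.M23Nse

open Subgroup Equiv Cfsg.Lib.SameOrder Cfsg.Lib.Small Cfsg.Lib.CosetCert Cfsg.Lib.MathieuEleven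

universe u v

/-- the five even involutions, as a sequence -/
def gl : ℕ → A7
  | 0 => k1
  | 1 => k2
  | 2 => k3
  | 3 => k4
  | 4 => t0
  | _ => 1

/-- the generators -/
def im {G : Type*} [Group G] (s : A7 →* G) (t z : G) : ℕ → G
  | 5 => t
  | 6 => z
  | l => s (gl l)

/-- the value of a word in the five involutions -/
def wv (w : List ℕ) : A7 := (w.map gl).prod

theorem wv_facts : k2 * k4 = v34 ∧ t0 * k2 = la⁻¹ ∧ k3 * k2 = lb⁻¹ ∧ k3 * t0 = la * lb⁻¹ ∧
    k1 * k2 * k3 * k4 * k3 * k2 * k1 = v01 ∧ wv [0, 2, 0, 2] = 1 ∧ wv [0, 3, 0, 3] = 1 ∧ wv [1, 3, 1, 3] = 1 ∧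
    wv [0, 1, 0, 1, 0, 1] = 1 ∧ wv [2, 3, 2, 3, 2, 3] = 1 ∧ wv [2, 4, 2, 4, 2, 4] = 1 ∧
    wv [1, 3, 4, 1, 3, 4] = 1 ∧ (∀ l < 5, gl l * gl l = 1) ∧ k0 = (t0 * k2)⁻¹ := by decide +kernel

/-- an element of order three with three fixed points -/
def ra : A7 := ⟨swap 1 2 * swap 2 5 * (swap 3 6 * swap 6 4), Perm.mem_alternatingGroup.2 (by decide +kernel)⟩
/-- an element of order three with three fixed points -/
def rb : A7 := ⟨swap 1 3 * swap 3 6 * (swap 2 5 * swap 5 4), Perm.mem_alternatingGroup.2 (by decide +kernel)⟩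
/-- an element of order three with three fixed points -/
def rc : A7 := ⟨swap 0 2 * swap 2 3 * (swap 4 6 * swap 6 5), Perm.mem_alternatingGroup.2 (by decide +kernel)⟩

theorem sum_data_a : ra * ra * ra = 1 ∧ ra ≠ 1 ∧
    (ra * 1 = 1 * wd [false, true, false, false, false, false, true, false, true] ∧
      ra * (t0 * k2) = t0 * k2 * wd [false, false, false, true, false, false] ∧
      ra * k2 = k2 * wd [true, false, false, false, true, false, true, false, true]) ∧
    Bad (((1 : A7)⁻¹ * (t0 * k2) * wd [false] : A7) : Perm (Fin 7)) ∧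
    Bad (((1 : A7)⁻¹ * k2 * wd [false, true] : A7) : Perm (Fin 7)) ∧
    Bad (((t0 * k2)⁻¹ * k2 * wd [false] : A7) : Perm (Fin 7)) := by decide +kernel

theorem sum_data_b : rb * rb * rb = 1 ∧ rb ≠ 1 ∧
    (rb * 1 = 1 * wd [true, false, true, false, true, false, false, false, true] ∧
      rb * k3 = k3 * wd [false, false, true, false, true, false, false] ∧
      rb * (k1 * k2 * k1) = k1 * k2 * k1 * wd [false, false, true, false, true, false, false]) ∧
    Bad (((1 : A7)⁻¹ * k3 * wd [false] : A7) : Perm (Fin 7)) ∧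
    Bad (((1 : A7)⁻¹ * (k1 * k2 * k1) * wd [true] : A7) : Perm (Fin 7)) ∧
    Bad ((k3⁻¹ * (k1 * k2 * k1) * wd [true] : A7) : Perm (Fin 7)) := by decide +kernel

theorem sum_data_c : rc * rc * rc = 1 ∧ rc ≠ 1 ∧
    (rc * 1 = 1 * wd [false, false, true, false, false, false, true, false, false, false, false] ∧
      rc * (k3 * k1) = k3 * k1 * wd [false, true, false, false, false, true, false, false, false] ∧
      rc * (k4 * k3) = k4 * k3 * wd [false, false, true, false, false, false, true, false, false, false, false]) ∧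
    Bad (((1 : A7)⁻¹ * (k3 * k1) * wd [false] : A7) : Perm (Fin 7)) ∧
    Bad (((1 : A7)⁻¹ * (k4 * k3) * wd [false, true] : A7) : Perm (Fin 7)) ∧
    Bad (((k3 * k1)⁻¹ * (k4 * k3) * wd [false] : A7) : Perm (Fin 7)) := by decide +kernel

theorem nine_facts : ∀ i j : Fin 3, ∀ i' j' : Fin 3, la ^ (i : ℕ) * lb ^ (j : ℕ) = la ^ (i' : ℕ) * lb ^ (j' : ℕ) → i = i' ∧ j = j' := by
  decide +kernel

section

variable {G : Type u} [Group G] (s : A7 →* G) (t z : G)

theorem wval_small : ∀ w : List ℕ, w.all (fun l => decide (l < 5)) = true → wval (im s t z) w = s (wv w)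
  | [], _ => by simp [wval, wv]
  | l :: w, h => by
    rw [List.all_cons, Bool.and_eq_true, decide_eq_true_eq] at h
    have ih := wval_small w h.2
    simp only [wval, wv, List.map_cons, List.prod_cons, map_mul] at ih ⊢
    rw [ih]
    congr 1
    obtain ⟨h1, -⟩ := h
    interval_cases l <;> rfl

theorem sq_small {w : List ℕ} (hw : w.all (fun l => decide (l < 5)) = true) (hv : wv w = 1) :
    wval (im s t z) w = 1 := by rw [wval_small s t z w hw, hv, map_one]

end

variable {G : Type u} [Group G] [Finite G]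

local instance fact_two_mn : Fact (Nat.Prime 2) := ⟨Nat.prime_two⟩
local instance fact_three_mn : Fact (Nat.Prime 3) := ⟨Nat.prime_three⟩
local instance fact_five_mn : Fact (Nat.Prime 5) := ⟨Nat.prime_five⟩

variable (H : Fields G)
include H

theorem closure_eq_top {t : G} {s : A7 →* G} (M : Model t s) {z : G} (hzA : z * s la = s la * z)
    (hzz : z * z = 1) (hzB : z * s lb * z = s la * (s lb)⁻¹) (hzN : z ∉ NE t) (L : Subgroup G) (hNL : NE t ≤ L) (hzL : z ∈ L) : L = ⊤ := by
  classical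
  obtain ⟨hab, ha3, hb3, ha1, hb1, -, -, ⟨c34, -⟩, -, -, ⟨ja, jb, -⟩, ⟨ia, ib, -⟩, -⟩ := label_facts
  have sinj := M.inj H
  set A := s la
  have hA : orderOf A = 3 := by
    rw [orderOf_injective s sinj]; exact orderOf_eq_prime (by simpa [pow_succ] using ha3) ha1
  have hsL : ∀ σ, s σ ∈ L := fun σ => hNL (M.mem H σ)
  -- the centraliser of the three-cycle lies in the subgroup
  have hC : centralizer ({A} : Set G) ≤ L := by
    set C := centralizer ({A} : Set G)
    have h180 : Nat.card ↥C = 180 := cent_three H hA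
    have h36 : 36 ≤ Nat.card ↥(NE t ⊓ C : Subgroup G) := by
      have hf : Function.Injective
          (fun p : {σ : A7 // σ * la = la * σ} =>
            (⟨s p.1, mem_inf.2 ⟨M.mem H p.1, mem_centralizer_singleton_iff.2 (by
              show s p.1 * s la = s la * s p.1
              rw [← map_mul, p.2, map_mul])⟩⟩ : ↥(NE t ⊓ C : Subgroup G))) :=
        fun p q e => Subtype.ext (sinj (congrArg Subtype.val e))
      refine le_trans ?_ (Nat.card_le_card_of_injective _ hf)
      -- the powers of the three-cycle times the alternating group on the other four letters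
      let g : Fin 3 × Fin 3 × Fin 2 × Fin 2 → {σ : A7 // σ * la = la * σ} := fun p =>
        ⟨la ^ (p.1 : ℕ) * (lb ^ (p.2.1 : ℕ) * (v34 ^ (p.2.2.1 : ℕ) * v35 ^ (p.2.2.2 : ℕ))), by
          obtain ⟨i, j, a, b⟩ := p
          have hv : Commute v34 la := c34
          have hw : Commute v35 la := (label_facts.2.2.2.2.2.2.2.1).2.1
          exact ((Commute.pow_left (Commute.refl la) _).mul_left ((Commute.pow_left hab.symm _).mul_left
            ((hv.pow_left _).mul_left (hw.pow_left _)))).eq⟩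
      have hg : Function.Injective g := fun p q e => by
        have h : ∀ p q : Fin 3 × Fin 3 × Fin 2 × Fin 2,
            la ^ (p.1 : ℕ) * (lb ^ (p.2.1 : ℕ) * (v34 ^ (p.2.2.1 : ℕ) * v35 ^ (p.2.2.2 : ℕ))) =
            la ^ (q.1 : ℕ) * (lb ^ (q.2.1 : ℕ) * (v34 ^ (q.2.2.1 : ℕ) * v35 ^ (q.2.2.2 : ℕ))) → p = q := by
          decide +kernel
        exact h p q (congrArg Subtype.val e)
      have := Nat.card_le_card_of_injective g hg
      simpa using this
    have h36' : Nat.card ↥(NE t ⊓ C : Subgroup G) ∣ 36 := by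
      obtain ⟨π, Q, hs⟩ := M.split
      have hd : Nat.card ↥(NE t ⊓ C : Subgroup G) ∣ 180 := h180 ▸ Subgroup.card_dvd_of_le inf_le_right
      refine Nat.Coprime.dvd_of_dvd_mul_right ?_ (show _ ∣ 36 * 5 from hd)
      refine ((Nat.Prime.coprime_iff_not_dvd Nat.prime_five).2 fun h5 => ?_).symm
      obtain ⟨r, hr, hro⟩ := exists_elt_prime H Nat.prime_five _ h5
      exact M.order_pair H (M.mem H la) hr.1 hA hro (mem_centralizer_singleton_iff.1 hr.2).symm
    have hX : Nat.card ↥(NE t ⊓ C : Subgroup G) = 36 := le_antisymm (Nat.le_of_dvd (by norm_num) h36') h36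
    set X := L ⊓ C
    have hle : NE t ⊓ C ≤ X := inf_le_inf_right _ hNL
    have hzX : z ∈ X := mem_inf.2 ⟨hzL, mem_centralizer_singleton_iff.2 hzA⟩
    have hd : Nat.card ↥X ∣ 180 := h180 ▸ Subgroup.card_dvd_of_le inf_le_right
    have hd36 : 36 ∣ Nat.card ↥X := hX ▸ Subgroup.card_dvd_of_le hle
    have hne : Nat.card ↥X ≠ 36 := fun e => hzN (by
      have := Subgroup.eq_of_le_of_card_ge hle (by rw [hX, e])
      exact (this ▸ hzX : z ∈ NE t ⊓ C).1)
    have : ∀ d ∈ Nat.divisors 180, 36 ∣ d → d ≠ 36 → d = 180 := by decide +kernel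
    have h := this _ (Nat.mem_divisors.2 ⟨hd, by norm_num⟩) hd36 hne
    intro g hg
    have e : X = C := Subgroup.eq_of_le_of_card_ge inf_le_right (by rw [h, h180])
    exact (e.symm ▸ hg : g ∈ X).1
  -- every element of order three of the subgroup is conjugate in it to the three-cycle
  have hLcard : Nat.card ↥L * L.index = 10200960 := by rw [Subgroup.card_mul_index, H.card]
  have hN : 40320 ∣ Nat.card ↥L := card_NE H M.ord ▸ Subgroup.card_dvd_of_le hNL
  have hidx : L.index ∣ 253 := by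
    obtain ⟨k, hk⟩ := hN
    refine ⟨k, Nat.eq_of_mul_eq_mul_left (by norm_num : 0 < 40320) ?_⟩
    rw [hk] at hLcard
    rw [mul_comm L.index k, ← mul_assoc, hLcard]
  have hne : L.index ≠ 253 := fun e => hzN (by
    have hc : Nat.card ↥L = 40320 := by rw [e] at hLcard; omega
    rw [Subgroup.eq_of_le_of_card_ge hNL (by rw [card_NE H M.ord, hc])]
    exact hzL)
  let P : Subgroup G := ((zpowers la ⊔ zpowers lb).map s)
  have hPmem : ∀ x ∈ P, ∃ i j : ℕ, x = s (la ^ i * lb ^ j) := by
    rintro _ ⟨σ, hσ, rfl⟩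
    have hn : zpowers lb ≤ normalizer (zpowers la : Set A7) := by
      refine zpowers_le.2 (mem_normalizer_of_conj _ fun w hw => ?_)
      obtain ⟨k, rfl⟩ := mem_zpowers_iff.1 hw
      rw [((show Commute lb la from hab.symm).zpow_right k).eq, mul_inv_cancel_right]
      exact zpow_mem (mem_zpowers la) k
    obtain ⟨a, ha, b, hb, rfl⟩ := mem_sup_norm hn hσ
    rw [← mem_powers_iff_mem_zpowers, Submonoid.mem_powers_iff] at ha hb
    obtain ⟨i, rfl⟩ := ha
    obtain ⟨j, rfl⟩ := hb
    exact ⟨i, j, rfl⟩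
  have hPL : P ≤ L := fun x hx => by obtain ⟨i, j, rfl⟩ := hPmem x hx; exact hsL _
  have hP9 : 9 ≤ Nat.card ↥P := by
    have hf : Function.Injective (fun p : Fin 3 × Fin 3 =>
        (⟨s (la ^ (p.1 : ℕ) * lb ^ (p.2 : ℕ)), ⟨_, mul_mem (mem_sup_left (pow_mem (mem_zpowers la) _))
          (mem_sup_right (pow_mem (mem_zpowers lb) _)), rfl⟩⟩ : ↥P)) := fun p q e => by
      obtain ⟨h1, h2⟩ := nine_facts p.1 p.2 q.1 q.2 (sinj (congrArg Subtype.val e))
      exact Prod.ext h1 h2
    simpa using Nat.card_le_card_of_injective _ hf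
  have hP3 : IsPGroup 3 ↥P := fun x => ⟨1, Subtype.ext (by
    obtain ⟨i, j, hij⟩ := hPmem x.1 x.2
    simp only [pow_one, Subgroup.coe_pow, Subgroup.coe_one, hij]
    rw [← map_pow, (show Commute (la ^ i) (lb ^ j) from (show Commute la lb from hab).pow_pow i j).mul_pow,
      ← pow_mul, ← pow_mul, mul_comm i, mul_comm j, pow_mul, pow_mul, show la ^ 3 = 1 by simpa [pow_succ] using ha3,
      show lb ^ 3 = 1 by simpa [pow_succ] using hb3, one_pow, one_pow, one_mul, map_one])⟩
  have hkey : ∀ x ∈ L, orderOf x = 3 → ∃ l ∈ L, l * A * l⁻¹ = x := by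
    intro x hxL hxo
    obtain ⟨Q, hQ⟩ := (IsPGroup.of_card (p := 3) (n := 1) (by
      rw [Nat.card_zpowers, Subgroup.orderOf_mk, hxo, pow_one]) : IsPGroup 3 ↥(zpowers (⟨x, hxL⟩ : ↥L))).exists_le_sylow
    obtain ⟨P', hP'⟩ := (hP3.comap_subtype (K := L)).exists_le_sylow
    obtain ⟨⟨l, hl⟩, hlQ⟩ := MulAction.exists_smul_eq ↥L P' Q
    have hS9 : Nat.card ↥(P' : Subgroup ↥L) ≤ 9 := by
      obtain ⟨S, hS⟩ := (P'.2.map L.subtype).exists_le_sylow
      have := Subgroup.card_le_of_le hS
      rwa [Subgroup.card_map_of_injective L.subtype_injective, card_sylow_three H S] at this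
    have hPP : P.subgroupOf L = (P' : Subgroup ↥L) := Subgroup.eq_of_le_of_card_ge hP' (by
      rw [Nat.card_congr (Subgroup.subgroupOfEquivOfLe hPL).toEquiv]; omega)
    have hxm : (⟨x, hxL⟩ : ↥L) ∈ ((⟨l, hl⟩ : ↥L) • P' : Sylow 3 ↥L) := hlQ.symm ▸ hQ (mem_zpowers _)
    obtain ⟨y, hy, hyx⟩ := hxm
    have hy' : (y : G) ∈ P := by rw [← hPP] at hy; exact mem_subgroupOf.1 hy
    have hxy : l * (y : G) * l⁻¹ = x := congrArg Subtype.val hyx
    have hyo : (y : G) ≠ 1 := fun e => by rw [← hxy, e, mul_one, mul_inv_cancel, orderOf_one] at hxo; norm_num at hxo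
    obtain ⟨i, j, hij⟩ := hPmem _ hy'
    suffices h : ∃ m ∈ L, m * A * m⁻¹ = (y : G) by
      obtain ⟨m, hm, hmy⟩ := h
      exact ⟨l * m, mul_mem hl hm, by rw [← hxy, ← hmy]; group⟩
    set B := s lb
    have eI : s li * A * (s li)⁻¹ = B := by simp only [A, B]; rw [← map_inv, ← map_mul, ← map_mul, ia]
    have eIB : s li * B * (s li)⁻¹ = A⁻¹ := by simp only [A, B]; rw [← map_inv, ← map_mul, ← map_mul, ib, map_inv]
    have eJ : s lj * A * (s lj)⁻¹ = A⁻¹ := by simp only [A]; rw [← map_inv, ← map_mul, ← map_mul, ja, map_inv]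
    have eJB : s lj * B * (s lj)⁻¹ = B⁻¹ := by simp only [B]; rw [← map_inv, ← map_mul, ← map_mul, jb, map_inv]
    have hBA : B * A = A * B := by simp only [A, B]; rw [← map_mul, ← hab, map_mul]
    have Cj : ∀ v, (∃ m ∈ L, m * A * m⁻¹ = v) → ∀ g ∈ L, ∃ m ∈ L, m * A * m⁻¹ = g * v * g⁻¹ := by
      rintro _ ⟨m, hm, rfl⟩ g hg
      exact ⟨g * m, mul_mem hg hm, by group⟩
    have c10 : ∃ m ∈ L, m * A * m⁻¹ = A := ⟨1, one_mem _, by simp⟩
    have c20 := Cj _ c10 _ (hsL lj)
    rw [eJ] at c20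
    have c01 := Cj _ c10 _ (hsL li)
    rw [eI] at c01
    have c02 := Cj _ c01 _ (hsL lj)
    rw [eJB] at c02
    have c12 := Cj _ c01 _ hzL
    rw [inv_eq_of_mul_eq_one_left hzz, hzB] at c12
    have c21 := Cj _ c12 _ (hsL lj)
    rw [show s lj * (A * B⁻¹) * (s lj)⁻¹ = (s lj * A * (s lj)⁻¹) * (s lj * B * (s lj)⁻¹)⁻¹ by group, eJ, eJB, inv_inv] at c21
    have c11 := Cj _ c12 _ (hsL li)
    rw [show s li * (A * B⁻¹) * (s li)⁻¹ = (s li * A * (s li)⁻¹) * (s li * B * (s li)⁻¹)⁻¹ by group, eI, eIB, inv_inv, hBA] at c11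
    have c22 := Cj _ c11 _ (hsL lj)
    rw [show s lj * (A * B) * (s lj)⁻¹ = (s lj * A * (s lj)⁻¹) * (s lj * B * (s lj)⁻¹) by group, eJ, eJB] at c22
    have hA2 : s la ^ 2 = A⁻¹ := eq_inv_of_mul_eq_one_left (by rw [← pow_succ, show 2 + 1 = 3 from rfl, ← hA, pow_orderOf_eq_one])
    have hB3 : B ^ 3 = 1 := by simp only [B]; rw [← map_pow, show lb ^ 3 = 1 by simpa [pow_succ] using hb3, map_one]
    have hB2 : B ^ 2 = B⁻¹ := eq_inv_of_mul_eq_one_left (by rw [← pow_succ]; exact hB3)
    rw [hij, map_mul, map_pow, map_pow, ← pow_mod_orderOf, hA, pow_eq_pow_mod j hB3] at hyo ⊢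
    have hi := Nat.mod_lt i (by norm_num : 0 < 3)
    have hj := Nat.mod_lt j (by norm_num : 0 < 3)
    generalize i % 3 = i' at hyo hi ⊢
    generalize j % 3 = j' at hyo hj ⊢
    interval_cases i' <;> interval_cases j' <;>
      simp only [pow_zero, pow_one, one_mul, mul_one, hA2, hB2] at hyo ⊢
    · exact absurd rfl hyo
    all_goals assumption
  -- fixed cosets
  by_contra htop
  have hfix : ∀ c : G ⧸ L, A • c = c → c = ((1 : G) : G ⧸ L) := fun c hc => by
    obtain ⟨g, rfl⟩ := QuotientGroup.mk_surjective c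
    have hx : g⁻¹ * A * g ∈ L := by
      have := QuotientGroup.eq.1 (show ((g : G) : G ⧸ L) = ((A * g : G) : G ⧸ L) from hc.symm)
      rwa [← mul_assoc] at this
    obtain ⟨l, hl, hlA⟩ := hkey _ hx (by
      rw [show g⁻¹ * A * g = MulAut.conj g⁻¹ A by simp, MulEquiv.orderOf_eq, hA])
    have hgl : g * l ∈ L := hC (mem_centralizer_singleton_iff.2 (by
      calc g * l * A = g * (l * A * l⁻¹) * l := by group
        _ = g * (g⁻¹ * A * g) * l := by rw [hlA]
        _ = _ := by group))
    exact QuotientGroup.eq.2 (by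
      rw [mul_one]
      exact inv_mem ((mul_mem_cancel_right hl).1 hgl))
  have hmod := (IsPGroup.of_card (p := 3) (n := 1) (by rw [Nat.card_zpowers, hA, pow_one]) :
    IsPGroup 3 ↥(zpowers A)).card_modEq_card_fixedPoints (G ⧸ L)
  have hone : Nat.card ↥(MulAction.fixedPoints ↥(zpowers A) (G ⧸ L)) = 1 := by
    rw [Nat.card_eq_one_iff_exists]
    refine ⟨⟨((1 : G) : G ⧸ L), fun ⟨x, hx⟩ => ?_⟩, fun c => Subtype.ext (hfix c.1 (c.2 ⟨A, mem_zpowers A⟩))⟩
    show ((x * 1 : G) : G ⧸ L) = ((1 : G) : G ⧸ L)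
    rw [mul_one]
    refine QuotientGroup.eq.2 ?_
    rw [mul_one]
    exact inv_mem ((zpowers_le.2 (hsL la)) hx)
  rw [hone, ← Subgroup.index_eq_card] at hmod
  have hall : ∀ d ∈ Nat.divisors 253, d ≠ 253 → d % 3 = 1 % 3 → d = 1 := by decide +kernel
  exact htop (Subgroup.index_eq_one.1 (hall _ (Nat.mem_divisors.2 ⟨hidx, by norm_num⟩) hne hmod))

/-- generators satisfying the relators -/
theorem exists_gens : ∃ (s : A7 →* G) (t z : G), (∀ r ∈ Top.rels, wval (im s t z) r = 1) ∧
    closure (im s t z '' Set.Iio 7) = ⊤ := by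
  classical
  obtain ⟨t, ht⟩ := exists_prime_orderOf_dvd_card' (G := G) 2 (by rw [H.card]; norm_num)
  obtain ⟨s, M⟩ := exists_model H ht
  obtain ⟨z, hz2, hzA, hzB, hzJ, hz34, hzf, hzN⟩ := exists_outer H M
  obtain ⟨e34, ea, eb, eab, ev, r1, r2, r3, r4, r5, r6, r7, hsq, ek0⟩ := wv_facts
  have hzi : z⁻¹ = z := inv_eq_of_mul_eq_one_left hz2
  have sinv : ∀ {σ : A7}, σ * σ = 1 → (s σ)⁻¹ = s σ := fun h => inv_eq_of_mul_eq_one_left (by rw [← map_mul, h, map_one])
  have q1 : k1 * k1 = 1 := hsq 0 (by norm_num)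
  have q2 : k2 * k2 = 1 := hsq 1 (by norm_num)
  have q3 : k3 * k3 = 1 := hsq 2 (by norm_num)
  have q4 : k4 * k4 = 1 := hsq 3 (by norm_num)
  have q0 : t0 * t0 = 1 := hsq 4 (by norm_num)
  have htt : t * t = 1 := by rw [← pow_two, ← ht, pow_orderOf_eq_one]
  refine ⟨s, t, z, ?_, ?_⟩
  · have hsum : ∀ (p q r ρ : A7) (wp wq wr x y w : List Bool), ρ * ρ * ρ = 1 → ρ ≠ 1 → ρ * p = p * wd wp →
        ρ * q = q * wd wq → ρ * r = r * wd wr → Bad ((p⁻¹ * q * wd x : A7) : Perm (Fin 7)) →
        Bad ((p⁻¹ * r * wd y : A7) : Perm (Fin 7)) → Bad ((q⁻¹ * r * wd w : A7) : Perm (Fin 7)) →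
        pt t s p * pt t s q * pt t s r = 1 :=
      fun p q r ρ wp wq wr x y w h1 h2 h3 h4 h5 h6 h7 h8 => M.pt_sum H h1 h2 (M.pt_fix H wp h3) (M.pt_fix H wq h4)
        (M.pt_fix H wr h5) (M.pt_distinct H x h6) (M.pt_distinct H y h7) (M.pt_distinct H w h8)
    intro r hr
    simp only [Top.rels, List.mem_cons, List.not_mem_nil, or_false] at hr
    rcases hr with rfl | rfl | rfl | rfl | rfl | rfl | rfl | rfl | rfl | rfl | rfl | rfl | rfl | rfl | rfl | rfl | rfl |
      rfl | rfl | rfl | rfl | rfl | rfl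
    · exact sq_small s t z (by decide) (by decide +kernel)
    · exact sq_small s t z (by decide) (by decide +kernel)
    · exact sq_small s t z (by decide) (by decide +kernel)
    · exact sq_small s t z (by decide) (by decide +kernel)
    · exact sq_small s t z (by decide) (by decide +kernel)
    · simpa [wval, im] using htt
    · simpa [wval, im] using hz2
    · exact sq_small s t z (by decide) r1
    · exact sq_small s t z (by decide) r2
    · exact sq_small s t z (by decide) r3
    · exact sq_small s t z (by decide) r4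
    · exact sq_small s t z (by decide) r5
    · exact sq_small s t z (by decide) r6
    · exact sq_small s t z (by decide) r7
    · obtain ⟨h1, h2, ⟨h3, h4, h5⟩, h6, h7, h8⟩ := sum_data_a
      have := hsum _ _ _ ra _ _ _ _ _ _ h1 h2 h3 h4 h5 h6 h7 h8
      simp only [pt, map_mul, map_one, mul_inv_rev, inv_one, one_mul, mul_one, sinv q2, sinv q0, mul_assoc] at this
      simpa [wval, im, gl, mul_assoc] using this
    · obtain ⟨h1, h2, ⟨h3, h4, h5⟩, h6, h7, h8⟩ := sum_data_b
      have := hsum _ _ _ rb _ _ _ _ _ _ h1 h2 h3 h4 h5 h6 h7 h8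
      simp only [pt, map_mul, map_one, mul_inv_rev, inv_one, one_mul, mul_one, sinv q1, sinv q2, sinv q3, mul_assoc] at this
      simpa [wval, im, gl, mul_assoc] using this
    · obtain ⟨h1, h2, ⟨h3, h4, h5⟩, h6, h7, h8⟩ := sum_data_c
      have := hsum _ _ _ rc _ _ _ _ _ _ h1 h2 h3 h4 h5 h6 h7 h8
      simp only [pt, map_mul, map_one, mul_inv_rev, inv_one, one_mul, mul_one, sinv q1, sinv q3, sinv q4, mul_assoc] at this
      simpa [wval, im, gl, mul_assoc] using this
    · simpa [wval, im] using hz2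
    · have h : z * (s t0 * s k2) * z * (s k2 * s t0) = 1 := by
        rw [← map_mul, ← map_mul, show k2 * t0 = la by rw [← inv_inv la, ← ea, mul_inv_rev,
          inv_eq_of_mul_eq_one_left q2, inv_eq_of_mul_eq_one_left q0], ea, map_inv,
          ((show Commute z (s la) from hzA).inv_right).eq, mul_assoc (s la)⁻¹, hz2, mul_one, inv_mul_cancel]
      simpa [wval, im, gl, mul_assoc] using h
    · have h : z * (s k3 * s k2) * z * (s k3 * s t0) = 1 := by
        rw [← map_mul, ← map_mul, eb, eab, map_mul, map_inv, ← hzB,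
          show z * (s lb)⁻¹ * z = (z * s lb * z)⁻¹ by rw [mul_inv_rev, mul_inv_rev, hzi, mul_assoc], inv_mul_cancel]
      simpa [wval, im, gl, mul_assoc] using h
    · have h : z * s k2 * (z * s k2) = 1 := by
        calc z * s k2 * (z * s k2) = z * (s k2 * z) * s k2 := by group
          _ = z * (z * s k2) * s k2 := by rw [show s k2 * z = z * s k2 from hzJ.symm]
          _ = 1 := by rw [← mul_assoc, hz2, one_mul, ← map_mul, q2, map_one]
      simpa [wval, im, gl, mul_assoc] using h
    · have h : z * (s k3 * s k1 * t * (s k1 * s k3)) * z *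
          (s k1 * s k2 * s k3 * s k4 * s k3 * s k2 * s k1) = 1 := by
        have e : s k3 * s k1 * t * (s k1 * s k3) = pt t s l2 := by
          simp only [pt, l2, map_mul, mul_inv_rev, sinv q1, sinv q3]
        rw [e, hzf, show s k1 * s k2 * s k3 * s k4 * s k3 * s k2 * s k1 = s v01 by simp only [← map_mul, ev],
          ← map_mul, label_facts.2.2.2.2.2.1.2.2.1, map_one]
      simpa [wval, im, gl, mul_assoc] using h
    · have h : z * (s k2 * s k4) * (z * (s k2 * s k4)) * (z * (s k2 * s k4)) = 1 := by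
        rw [← map_mul, e34]; exact hz34
      simpa [wval, im, gl, mul_assoc] using h
  · set L := closure (im s t z '' Set.Iio 7)
    have hl : ∀ l, l < 7 → im s t z l ∈ L := fun l hl => subset_closure ⟨l, hl, rfl⟩
    have hσ : ∀ σ, s σ ∈ L := by
      have : (⊤ : Subgroup A7) ≤ L.comap s := by
        rw [← closure_gens_top, closure_le]
        rintro x (rfl | rfl | rfl | rfl | rfl)
        · show s k0 ∈ L
          rw [ek0, map_inv, map_mul]
          exact inv_mem (mul_mem (hl 4 (by norm_num)) (hl 1 (by norm_num)))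
        exacts [hl 0 (by norm_num), hl 1 (by norm_num), hl 2 (by norm_num), hl 3 (by norm_num)]
      exact fun σ => this (Subgroup.mem_top σ)
    have hdec : ∀ g ∈ NE t, ∃ σ, (s σ)⁻¹ * g ∈ core t := fun g hg => by
      obtain ⟨π, Q, hs⟩ := M.split
      obtain ⟨hm, hσ'⟩ := hs (π ⟨g, hg⟩)
      refine ⟨π ⟨g, hg⟩, ?_⟩
      exact Q.mem_core H (v := (⟨_, hm⟩ : ↥(NE t))⁻¹ * ⟨g, hg⟩) (by rw [map_mul, map_inv, hσ', inv_mul_cancel])
    have hcore : core t ≤ L := fun v hv => by
      by_cases h1 : v = 1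
      · rw [h1]; exact one_mem _
      obtain ⟨g, hg, rfl⟩ := trans_all H ht hv h1
      obtain ⟨σ, hσ'⟩ := hdec g hg
      have e : g * t * g⁻¹ = s σ * t * (s σ)⁻¹ := by
        have hc := core_comm H ht hσ' (isCore H ht).2.1
        calc g * t * g⁻¹ = s σ * ((s σ)⁻¹ * g * t) * g⁻¹ := by group
          _ = s σ * (t * ((s σ)⁻¹ * g)) * g⁻¹ := by rw [hc]
          _ = _ := by group
      rw [e]
      exact mul_mem (mul_mem (hσ σ) (hl 5 (by norm_num))) (inv_mem (hσ σ))
    refine closure_eq_top H M hzA hz2 hzB hzN L (fun g hg => ?_) (hl 6 (by norm_num))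
    obtain ⟨σ, hσ'⟩ := hdec g hg
    have := mul_mem (hσ σ) (hcore hσ')
    rwa [mul_inv_cancel_left] at this

omit H

theorem im_map {X Y : Type*} [Group X] [Group Y] (f : X →* Y) (s : A7 →* X) (t z : X) (l : ℕ) :
    f (im s t z l) = im (f.comp s) (f t) (f z) l := by
  rcases l with _ | _ | _ | _ | _ | _ | _ | l <;> rfl

theorem wval_map {X Y : Type*} [Group X] [Group Y] (f : X →* Y) (g : ℕ → X) (w : List ℕ) :
    f (wval g w) = wval (fun l => f (g l)) w := by
  simp [wval, map_list_prod, List.map_map, Function.comp_def]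

/-- two groups with the same fields are isomorphic -/
theorem iso_of_fields {X : Type v} [Group X] [Finite X] (HX : Fields X) (HG : Fields G) : Nonempty (G ≃* X) := by
  classical
  obtain ⟨s₁, t₁, z₁, r₁, g₁⟩ := exists_gens HG
  obtain ⟨s₂, t₂, z₂, r₂, g₂⟩ := exists_gens HX
  set κ := s₁.prod s₂
  set f := im κ ((t₁, t₂) : G × X) (z₁, z₂) with hf
  have hfst : ∀ l, (f l).1 = im s₁ t₁ z₁ l := fun l => by
    show (MonoidHom.fst G X) (f l) = _
    rw [hf, im_map]; rfl
  have hsnd : ∀ l, (f l).2 = im s₂ t₂ z₂ l := fun l => by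
    show (MonoidHom.snd G X) (f l) = _
    rw [hf, im_map]; rfl
  have hR : ∀ r ∈ Top.rels, wval f r = 1 := fun r hr => by
    refine Prod.ext ?_ ?_
    · show (MonoidHom.fst G X) (wval f r) = 1
      rw [wval_map]
      simp only [MonoidHom.coe_fst, hfst]
      exact r₁ r hr
    · show (MonoidHom.snd G X) (wval f r) = 1
      rw [wval_map]
      simp only [MonoidHom.coe_snd, hsnd]
      exact r₂ r hr
  have hinv : ∀ l, l < 7 → f l * f l = 1 := fun l hl => by
    have h := hR [l, l] (by interval_cases l <;> decide)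
    simpa [wval] using h
  set K₀ := κ.range
  have hK₀ : Nat.card ↥K₀ ≤ 2520 :=
    (Nat.card_le_card_of_surjective κ.rangeRestrict κ.rangeRestrict_surjective).trans_eq card_A7
  have hmid := CosetCert.card_le (C := Mid.cert) (im := f) (K := K₀) (L := closure (f '' Set.Iio 6)) Mid.valid
    (fun l hl => hinv l (by have : Mid.cert.ng = 6 := rfl; omega))
    (fun r hr => hR r (by revert r; decide))
    (fun r hr l hl => hinv l (by revert l; revert r; decide))
    (fun c hc => by
      have : c < 5 := by revert c; decide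
      interval_cases c <;> exact ⟨_, rfl⟩)
    (le_of_eq (by rfl))
  rw [Mid.fins_length] at hmid
  haveI := hmid.1
  have hL₁ : Nat.card ↥(closure (f '' Set.Iio 6)) ≤ 40320 :=
    hmid.2.trans (Nat.mul_le_mul_left 16 hK₀)
  have htop := CosetCert.card_le (C := Top.cert) (im := f) (K := closure (f '' Set.Iio 6))
    (L := closure (f '' Set.Iio 7)) Top.valid
    (fun l hl => hinv l (by have : Top.cert.ng = 7 := rfl; omega))
    hR
    (fun r hr l hl => hinv l (by revert l; revert r; decide))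
    (fun c hc => subset_closure ⟨c, by
      show c < 6
      revert c; decide, rfl⟩)
    (le_of_eq (by rfl))
  rw [Top.fins_length] at htop
  set L := closure (f '' Set.Iio 7) with hL
  haveI := htop.1
  have hcard : Nat.card ↥L ≤ 10200960 := htop.2.trans (Nat.mul_le_mul_left 253 hL₁)
  let p : ↥L →* G := (MonoidHom.fst G X).comp L.subtype
  let q : ↥L →* X := (MonoidHom.snd G X).comp L.subtype
  have hp : Function.Surjective p := by
    rw [← MonoidHom.range_eq_top, eq_top_iff, ← g₁, closure_le]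
    rintro _ ⟨l, hl, rfl⟩
    exact ⟨⟨f l, subset_closure ⟨l, hl, rfl⟩⟩, hfst l⟩
  have hq : Function.Surjective q := by
    rw [← MonoidHom.range_eq_top, eq_top_iff, ← g₂, closure_le]
    rintro _ ⟨l, hl, rfl⟩
    exact ⟨⟨f l, subset_closure ⟨l, hl, rfl⟩⟩, hsnd l⟩
  have h1 := Nat.card_le_card_of_surjective p hp
  rw [HG.card] at h1
  have hp' : Function.Bijective p :=
    (Nat.bijective_iff_surjective_and_card p).2 ⟨hp, by rw [HG.card]; omega⟩
  have hq' : Function.Bijective q :=
    (Nat.bijective_iff_surjective_and_card q).2 ⟨hq, by rw [HX.card]; omega⟩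
  exact ⟨(MulEquiv.ofBijective p hp').symm.trans (MulEquiv.ofBijective q hq')⟩

/-- The fields determine the Mathieu group of degree twenty-three. -/
theorem iso_M23_of_fields {G : Type u} [Group G] [Finite G] (H : Fields G) : Nonempty (G ≃* ↥Cfsg.Spor.M23) :=
  iso_of_fields (Hyp.fields ⟨card_M23, fun n => m23_count_mem n⟩) H

/-- The Mathieu group of degree twenty-three is determined by its order and counts. -/
theorem iso_M23 {G : Type u} [Group G] [Finite G] (H : Hyp G) : Nonempty (G ≃* ↥Cfsg.Spor.M23) :=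
  iso_M23_of_fields H.fields

end Cfsg.Lib.M23Nse
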