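import Cfsg.Agent.M23Nse.CensusThree
import Cfsg.Agent.M23Nse.Main

/-!
The census gives the fields, so it determines the Mathieu group of degree twenty-three.
-/

set_option autoImplicit false
set_option linter.unusedSectionVars false
set_option linter.style.haveILetI false
set_option maxRecDepth 100000

namespace Cfsg.Lib.M23Nse

open Subgroup Cfsg.Lib.SameOrder Cfsg.Lib.Small Cfsg.Lib.MathieuEleven

universe u

variable {G : Type u} [Group G] [Finite G]

local instance fact_two_cf : Fact (Nat.Prime 2) := ⟨Nat.prime_two⟩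
local instance fact_three_cf : Fact (Nat.Prime 3) := ⟨Nat.prime_three⟩
local instance fact_five_cf : Fact (Nat.Prime 5) := ⟨by norm_num⟩

variable (H : Census G)

include H

/-- the centraliser of an element of order three -/
theorem Census.cent_three {x : G} (hx : orderOf x = 3) : Nat.card ↥(centralizer ({x} : Set G)) = 180 :=
  (H.marked_facts (H.all_marked hx)).1

/-- one class of elements of order three -/
theorem Census.conj_three {x y : G} (hx : orderOf x = 3) (hy : orderOf y = 3) : IsConj x y :=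
  (H.marked_facts (H.all_marked hx)).2 y (H.all_marked hy)

theorem Census.cnt_three : cnt G 3 = 56672 := by
  obtain ⟨x, hx⟩ := exists_prime_orderOf_dvd_card' (G := G) 3 (by rw [H.card]; norm_num)
  have h := M12Nse.card_isConj_mul x
  rw [H.card, H.cent_three hx] at h
  have e : cnt G 3 = Nat.card {y : G // IsConj x y} := Nat.card_congr
    (Equiv.subtypeEquivRight fun y => ⟨fun hy => H.conj_three hx hy, fun hy => (M12Nse.conj_orderOf hy).trans hx⟩)
  rw [e]
  omega

/-- the centraliser of an element of order three has no element of order four -/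
theorem Census.no_four {x z : G} (hx : orderOf x = 3) (hc : z * x = x * z) : orderOf z ≠ 4 := by
  intro hz
  set C := centralizer ({x} : Set G) with hC
  have h180 : Nat.card ↥C = 180 := H.cent_three hx
  obtain ⟨t, ht, hxt⟩ : ∃ t : G, orderOf t = 5 ∧ x * t = t * x := by
    obtain ⟨⟨w, hw⟩, hwo⟩ := exists_prime_orderOf_dvd_card' (G := ↥C) 5 (by rw [h180]; norm_num)
    rw [Subgroup.orderOf_mk] at hwo
    exact ⟨w, hwo, (mem_centralizer_singleton_iff.1 hw).symm⟩
  set zc : ↥C := ⟨z, mem_centralizer_singleton_iff.2 hc⟩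
  have hzo : orderOf zc = 4 := by rw [Subgroup.orderOf_mk, hz]
  obtain ⟨P, hP⟩ := (IsPGroup.of_card (p := 2) (n := 2) (by rw [Nat.card_zpowers, hzo]; norm_num) :
    IsPGroup 2 ↥(zpowers zc)).exists_le_sylow
  have hP4 : Nat.card ↥(P : Subgroup ↥C) = 4 := by
    simpa using card_sylow_of_factor P (a := 2) (m := 45) (by rw [h180]; norm_num) (by norm_num)
  have hPeq : (P : Subgroup ↥C) = zpowers zc :=
    (Subgroup.eq_of_le_of_card_ge hP (by rw [hP4, Nat.card_zpowers, hzo])).symm
  haveI : IsCyclic ↥(P : Subgroup ↥C) := by rw [hPeq]; infer_instance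
  have hburn : normalizer ((P : Subgroup ↥C) : Set ↥C) ≤ centralizer ((P : Subgroup ↥C) : Set ↥C) :=
    IsCyclic.normalizer_le_centralizer (p := 2) (by rw [h180]; norm_num) inferInstance
  have hcomp := MonoidHom.ker_transferSylow_isComplement' P hburn
  set N := (MonoidHom.transferSylow P hburn).ker with hN
  obtain ⟨hcop, k, hk⟩ := Cfsg.Lib.Transfer.complement_props hcomp
  set tc : ↥C := ⟨t, mem_centralizer_singleton_iff.2 hxt.symm⟩
  have hS5 : ∀ Q : Sylow 5 ↥C, Nat.card ↥(Q : Subgroup ↥C) = 5 := fun Q => by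
    simpa using card_sylow_of_factor Q (a := 1) (m := 36) (by rw [h180]; norm_num) (by norm_num)
  obtain ⟨Q, hQ⟩ := M12Nse.exists_sylow_zpowers hS5 (x := tc) (by rw [Subgroup.orderOf_mk, ht])
  have hle : (Q : Subgroup ↥C) ≤ N := by
    rw [hQ, zpowers_le, Cfsg.Lib.Transfer.mem_iff_coprime_orderOf hcop hk, Subgroup.orderOf_mk, ht]
    norm_num
  have hNc : Nat.card ↥(normalizer ((Q : Subgroup ↥C) : Set ↥C)) =
      Nat.card ↥(C ⊓ normalizer (zpowers t : Set G) : Subgroup G) := by
    rw [hQ]; exact card_norm_inside C _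
  have hf := frattini N Q hle ⊥ bot_le bot_le
  rw [Subgroup.card_bot, mul_one, hNc, hcomp.symm.index_eq_card, hP4] at hf
  rcases H.norm_five hx ht hxt with h60 | ⟨h30, -⟩
  · rw [← hC] at h60
    have := card_normalizer_mul Q
    rw [hNc, h60, h180] at this
    have hm : Nat.card (Sylow 5 ↥C) % 5 = 1 := card_sylow_modEq_one 5 ↥C
    omega
  · rw [← hC] at h30
    rw [h30] at hf
    norm_num at hf

/-- the element orders -/
theorem Census.orders (g : G) : orderOf g ∈ fieldOrders := by
  rcases H.order_big g with h | h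
  · exact (show ([5, 7, 11, 14, 15, 23] : List ℕ) ⊆ fieldOrders by decide +kernel) h
  have h9 : ¬ 9 ∣ orderOf g := fun hd =>
    H.no_nine _ (orderOf_pow_orderOf_div (orderOf_pos g).ne' hd)
  have h12 : ¬ 12 ∣ orderOf g := fun hd => by
    have hw := orderOf_pow_orderOf_div (orderOf_pos g).ne' hd
    set w := g ^ (orderOf g / 12)
    have h3 : orderOf (w ^ 4) = 3 := by rw [orderOf_pow' _ (by norm_num), hw]; decide
    have h4 : orderOf (w ^ 3) = 4 := by rw [orderOf_pow' _ (by norm_num), hw]; decide
    exact H.no_four h3 (Commute.pow_pow_self w 3 4).eq h4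
  have key : ∀ d ∈ Nat.divisors 1152, ¬ 9 ∣ d → ¬ 12 ∣ d → d ∈ fieldOrders := by decide +kernel
  exact key _ (Nat.mem_divisors.2 ⟨h, by norm_num⟩) h9 h12

omit H in
/-- the number of commuting elements of a given order is a class function -/
theorem card_comm_conj {a b : G} (h : IsConj a b) (n : ℕ) :
    Nat.card {y : G // orderOf y = n ∧ y * a = a * y} = Nat.card {y : G // orderOf y = n ∧ y * b = b * y} := by
  obtain ⟨g, rfl⟩ := isConj_iff.1 h
  refine Nat.card_congr ((MulAut.conj g).toEquiv.subtypeEquiv fun y => ?_)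
  show _ ↔ orderOf (MulAut.conj g y) = n ∧ MulAut.conj g y * MulAut.conj g a = MulAut.conj g a * MulAut.conj g y
  rw [MulEquiv.orderOf_eq, ← map_mul, ← map_mul, (MulAut.conj g).injective.eq_iff]

/-- an involution centraliser contains two hundred and twenty-four elements of order three -/
theorem Census.three_in_invol {t : G} (ht : orderOf t = 2) :
    Nat.card {y : G // orderOf y = 3 ∧ y * t = t * y} = 224 := by
  obtain ⟨⟨x, hxK⟩, hxo⟩ := exists_prime_orderOf_dvd_card' (G := ↥(centralizer ({t} : Set G))) 3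
    (by rw [H.invol t ht]; norm_num)
  rw [Subgroup.orderOf_mk] at hxo
  have hc : x * t = t * x := mem_centralizer_singleton_iff.1 hxK
  obtain ⟨hmul, hmem, hcnt⟩ := H.invol_three ht hxo hc
  set K := centralizer ({t} : Set G)
  set C := centralizer ({x} : Set G) with hC
  set n := Nat.card (Sylow 3 ↥K)
  have h180 : Nat.card ↥C = 180 := H.cent_three hxo
  set L := C ⊓ K with hL
  have htC : t ∈ C := mem_centralizer_singleton_iff.2 hc.symm
  -- a Sylow subgroup for two of the centraliser of the element is abelian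
  obtain ⟨P, hP⟩ := (IsPGroup.of_card (p := 2) (n := 1)
    (by rw [Nat.card_zpowers, Subgroup.orderOf_mk, ht, pow_one]) :
      IsPGroup 2 ↥(zpowers (⟨t, htC⟩ : ↥C))).exists_le_sylow
  have hP4 : Nat.card ↥(P : Subgroup ↥C) = 4 := by
    simpa using card_sylow_of_factor P (a := 2) (m := 45) (by rw [h180]; norm_num) (by norm_num)
  haveI := IsPGroup.isMulCommutative_of_card_eq_prime_sq (p := 2) (G := ↥(P : Subgroup ↥C))
    (by rw [hP4]; norm_num)
  have h4 : 4 ∣ Nat.card ↥L := by
    rw [← hP4, ← Subgroup.card_map_of_injective C.subtype_injective]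
    refine Subgroup.card_dvd_of_le ?_
    rintro _ ⟨w, hw, rfl⟩
    refine mem_inf.2 ⟨w.2, mem_centralizer_singleton_iff.2 ?_⟩
    exact congrArg (fun v : ↥(P : Subgroup ↥C) => ((v : ↥C) : G))
      (IsMulCommutative.is_comm.comm (⟨w, hw⟩ : ↥(P : Subgroup ↥C)) ⟨⟨t, htC⟩, hP (mem_zpowers _)⟩)
  have h3 : 3 ∣ Nat.card ↥L := hxo ▸ Subgroup.orderOf_dvd_natCard L
    (mem_inf.2 ⟨mem_centralizer_singleton_iff.2 rfl, hxK⟩)
  have hg : Nat.card ↥L ∣ 12 := by
    have h1 : Nat.card ↥L ∣ 180 := h180 ▸ Subgroup.card_dvd_of_le inf_le_left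
    have h2 : Nat.card ↥L ∣ 2688 := (H.invol t ht) ▸ Subgroup.card_dvd_of_le inf_le_right
    simpa using Nat.dvd_gcd h1 h2
  obtain ⟨j, hj⟩ := Nat.Coprime.mul_dvd_of_dvd_of_dvd (by norm_num) h4 h3
  have hj1 : j = 1 := by
    have := Nat.le_of_dvd (by norm_num) hg
    have hpos : 0 < Nat.card ↥L := Nat.card_pos
    omega
  -- the normalizer part is at most twice as large
  set M := K ⊓ normalizer (zpowers x : Set G)
  have hLM : L ≤ M := le_inf inf_le_right fun g hg => mem_normalizer_zpowers (by
    rw [mul_inv_eq_iff_eq_mul.2 (mem_centralizer_singleton_iff.1 hg.1)]; exact mem_zpowers x)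
  have h12 : 12 ∣ Nat.card ↥M := by
    have := Subgroup.card_dvd_of_le hLM
    rw [hj, hj1] at this
    simpa using this
  have horb := ncard_conj_orbit M x
  have hO : (Set.range fun k : ↥M => (k : G) * x * (k : G)⁻¹).ncard ≤ 2 := by
    refine (Set.ncard_le_ncard (t := ({x, x⁻¹} : Set G)) ?_ (Set.toFinite _)).trans
      ((Set.ncard_insert_le _ _).trans (by rw [Set.ncard_singleton]))
    rintro _ ⟨k, rfl⟩
    exact conj_three_mem hxo ((mem_normalizer_iff.1 k.2.2 x).1 (mem_zpowers x))
  have hst : Nat.card ↥(M ⊓ C) ≤ Nat.card ↥L := Subgroup.card_le_of_le fun g hg => mem_inf.2 ⟨hg.2, hg.1.1⟩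
  rw [hj, hj1] at hst
  have hM24 : Nat.card ↥M ≤ 24 := horb ▸ (Nat.mul_le_mul hO hst)
  have hn : n = 112 := by
    obtain ⟨i, hi⟩ := h12
    have hpos : 0 < Nat.card ↥M := Nat.card_pos
    simp only [Finset.mem_insert, Finset.mem_singleton] at hmem
    rcases hmem with e | e | e <;> rw [e] at hmul <;> omega
  let e : {y : G // orderOf y = 3 ∧ y * t = t * y} ≃ {c : ↥K // orderOf c = 3} :=
    { toFun := fun y => ⟨⟨y.1, mem_centralizer_singleton_iff.2 y.2.2⟩, by rw [Subgroup.orderOf_mk]; exact y.2.1⟩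
      invFun := fun c => ⟨c.1, by rw [Subgroup.orderOf_coe]; exact c.2, mem_centralizer_singleton_iff.1 c.1.2⟩
      left_inv := fun _ => rfl
      right_inv := fun _ => rfl }
  rw [Nat.card_congr e, show Nat.card {c : ↥K // orderOf c = 3} = cnt ↥K 3 from rfl, hcnt, hn]

theorem Census.cnt_six : cnt G 6 = 850080 := by
  classical
  have := Fintype.ofFinite G
  show Nat.card {g : G // orderOf g = 2 * 3} = 850080
  rw [Nat.card_congr (pairEquiv (G := G) 2 3 3 4 (by norm_num) (by norm_num) (by norm_num) (by norm_num)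
      (by norm_num) (by norm_num) (by norm_num) (by norm_num)), Nat.card_sigma,
    Finset.sum_congr rfl (g := fun _ => 224) fun v _ => H.three_in_invol v.2,
    Finset.sum_const, Finset.card_univ, ← Nat.card_eq_fintype_card, smul_eq_mul]
  show cnt G 2 * 224 = _
  rw [H.cnt_two]

/-- the fields -/
theorem Census.fields : Fields G where
  card := H.card
  two := H.cnt_two
  three := H.cnt_three
  six := H.cnt_six
  fourteen := H.cnt_fourteen
  fifteen := H.cnt_fifteen
  nFive := H.nFive
  nSeven := H.nSeven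
  orders := H.orders
  threeBound x hx := by rw [H.cent_three hx]; norm_num

/-- the census determines the Mathieu group of degree twenty-three -/
theorem iso_M23_of_census : Nonempty (G ≃* ↥Cfsg.Spor.M23) :=
  iso_M23_of_fields H.fields

end Cfsg.Lib.M23Nse
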