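import Cfsg.Agent.M23Nse.CensusBase

/-!
The census: the Sylow subgroups for three of the centraliser of an involution.
-/

set_option autoImplicit false
set_option linter.unusedSectionVars false
set_option linter.style.haveILetI false
set_option maxRecDepth 100000

namespace Cfsg.Lib.M23Nse

open Subgroup Cfsg.Lib.SameOrder Cfsg.Lib.Small Cfsg.Lib.MathieuEleven

universe u

variable {G : Type u} [Group G] [Finite G]

local instance fact_three_cl : Fact (Nat.Prime 3) := ⟨Nat.prime_three⟩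
local instance fact_seven_cl : Fact (Nat.Prime 7) := ⟨by norm_num⟩

/-- the normalizer of a cyclic subgroup inside a subgroup -/
theorem card_norm_inside (C : Subgroup G) {y : G} (hy : y ∈ C) :
    Nat.card ↥(normalizer ((zpowers (⟨y, hy⟩ : ↥C) : Subgroup ↥C) : Set ↥C)) =
      Nat.card ↥(C ⊓ normalizer (zpowers y : Set G) : Subgroup G) := by
  rw [← Subgroup.card_map_of_injective C.subtype_injective]
  refine congrArg (fun K : Subgroup G => Nat.card ↥K) (Subgroup.ext fun g => ?_)
  simp only [Subgroup.mem_map, Subgroup.coe_subtype, mem_inf]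
  constructor
  · rintro ⟨g, hg, rfl⟩
    refine ⟨g.2, mem_normalizer_zpowers ?_⟩
    obtain ⟨k, hk⟩ := mem_zpowers_iff.1 ((mem_normalizer_iff.1 hg ⟨y, hy⟩).1 (mem_zpowers _))
    exact mem_zpowers_iff.2 ⟨k, by simpa using congrArg Subtype.val hk⟩
  · rintro ⟨hgC, hg⟩
    refine ⟨⟨g, hgC⟩, mem_normalizer_zpowers ?_, rfl⟩
    obtain ⟨k, hk⟩ := mem_zpowers_iff.1 ((mem_normalizer_iff.1 hg y).1 (mem_zpowers y))
    exact mem_zpowers_iff.2 ⟨k, Subtype.ext (by simpa using hk)⟩

/-- the conjugate of an element of order three inside its cyclic subgroup -/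
theorem conj_three_mem {x g : G} (hx : orderOf x = 3) (h : g * x * g⁻¹ ∈ zpowers x) :
    g * x * g⁻¹ = x ∨ g * x * g⁻¹ = x⁻¹ := by
  rw [← mem_powers_iff_mem_zpowers, Submonoid.mem_powers_iff] at h
  obtain ⟨k, hk⟩ := h
  rw [← pow_mod_orderOf, hx] at hk
  have h3 : k % 3 < 3 := Nat.mod_lt _ (by norm_num)
  interval_cases h : k % 3
  · exfalso
    rw [pow_zero] at hk
    have := conj_eq_one_iff.1 hk.symm
    simp [this] at hx
  · exact Or.inl (by rw [← hk, pow_one])
  · exact Or.inr (by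
      rw [← hk]
      refine eq_inv_of_mul_eq_one_left ?_
      rw [← pow_succ, show 2 + 1 = 3 from rfl, ← hx, pow_orderOf_eq_one])

variable (H : Census G)

include H

/-- no element of order seven normalises a subgroup of order three -/
theorem Census.seven_norm {x y : G} (hx : orderOf x = 3) (hy : orderOf y = 7)
    (h : y * x * y⁻¹ ∈ zpowers x) : False := by
  have hcom : Commute y x := by
    rcases conj_three_mem hx h with e | e
    · exact mul_inv_eq_iff_eq_mul.1 e
    · have e2 : y ^ 2 * x * (y ^ 2)⁻¹ = x := by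
        rw [show y ^ 2 * x * (y ^ 2)⁻¹ = y * (y * x * y⁻¹) * y⁻¹ by rw [pow_two]; group, e,
          show y * x⁻¹ * y⁻¹ = (y * x * y⁻¹)⁻¹ by group, e, inv_inv]
      have h4 : Commute ((y ^ 2) ^ 4) x := (show Commute (y ^ 2) x from mul_inv_eq_iff_eq_mul.1 e2).pow_left 4
      rwa [← pow_mul, ← pow_mod_orderOf y (2 * 4), hy, show 2 * 4 % 7 = 1 from rfl, pow_one] at h4
  have := M12Nse.dvd_centralizer_orderOf hcom.symm.eq
  rw [hx, H.seven y hy] at this
  norm_num at this

/-- the Sylow subgroups for three of the centraliser of an involution -/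
theorem Census.invol_three {t x : G} (ht : orderOf t = 2) (hx : orderOf x = 3) (hc : x * t = t * x) :
    Nat.card (Sylow 3 ↥(centralizer ({t} : Set G))) *
        Nat.card ↥(centralizer ({t} : Set G) ⊓ normalizer (zpowers x : Set G) : Subgroup G) = 2688 ∧
      Nat.card (Sylow 3 ↥(centralizer ({t} : Set G))) ∈ ({28, 112, 448} : Finset ℕ) ∧
      cnt ↥(centralizer ({t} : Set G)) 3 = 2 * Nat.card (Sylow 3 ↥(centralizer ({t} : Set G))) := by
  classical
  set K := centralizer ({t} : Set G) with hK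
  have hK' : Nat.card ↥K = 2688 := H.invol t ht
  have hxK : x ∈ K := mem_centralizer_singleton_iff.2 hc
  set xc : ↥K := ⟨x, hxK⟩
  have hxo : orderOf xc = 3 := by rw [Subgroup.orderOf_mk, hx]
  have hS : ∀ P : Sylow 3 ↥K, Nat.card ↥(P : Subgroup ↥K) = 3 := fun P => by
    simpa using card_sylow_of_factor P (a := 1) (m := 896) (by rw [hK']; norm_num) (by norm_num)
  obtain ⟨Q, hQ⟩ := M12Nse.exists_sylow_zpowers hS hxo
  have hmul : Nat.card (Sylow 3 ↥K) * Nat.card ↥(K ⊓ normalizer (zpowers x : Set G) : Subgroup G) = 2688 := by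
    have h := card_normalizer_mul Q
    rw [show Nat.card ↥(normalizer ((Q : Subgroup ↥K) : Set ↥K)) =
      Nat.card ↥(K ⊓ normalizer (zpowers x : Set G) : Subgroup G) by rw [hQ]; exact card_norm_inside K hxK, hK'] at h
    rw [← h, mul_comm]
  set n := Nat.card (Sylow 3 ↥K) with hn
  set N := Nat.card ↥(K ⊓ normalizer (zpowers x : Set G) : Subgroup G) with hN
  refine ⟨hmul, ?_, by rw [M12Nse.cnt_prime hS]⟩
  have h3N : 3 ∣ N := hx ▸ Subgroup.orderOf_dvd_natCard (K ⊓ normalizer (zpowers x : Set G))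
    (mem_inf.2 ⟨hxK, le_normalizer (mem_zpowers x)⟩)
  obtain ⟨k, hk⟩ := h3N
  have hn3 : n % 3 = 1 := by
    have := card_sylow_modEq_one 3 ↥K; rw [Nat.ModEq] at this; simpa [hn] using this
  have hnd : n ∣ 896 := ⟨k, by rw [hk] at hmul; linarith⟩
  have h7 : 7 ∣ n := by
    by_contra h7
    have h7N : 7 ∣ N := ((show Nat.Prime 7 by norm_num).dvd_mul.1
      (show 7 ∣ n * N by rw [hmul]; norm_num)).resolve_left h7
    obtain ⟨y, hyo⟩ := exists_prime_orderOf_dvd_card' (G := ↥(K ⊓ normalizer (zpowers x : Set G) : Subgroup G)) 7 h7N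
    exact H.seven_norm hx (y := (y : G)) (by rw [Subgroup.orderOf_coe, hyo])
      ((mem_normalizer_iff.1 y.2.2 x).1 (mem_zpowers x))
  have hne : n ≠ 7 := by
    intro e7
    have := Fintype.ofFinite (Sylow 3 ↥K)
    set φ := MulAction.toPermHom ↥K (Sylow 3 ↥K)
    set R := φ.ker with hR
    have hrange : Nat.card ↥φ.range ∣ 5040 := by
      refine (Subgroup.card_subgroup_dvd_card φ.range).trans (dvd_of_eq ?_)
      rw [Nat.card_eq_fintype_card, Fintype.card_perm, ← Nat.card_eq_fintype_card, ← hn, e7]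
      rfl
    have hmulR : Nat.card ↥R * Nat.card ↥φ.range = 2688 := by
      rw [← hK', ← Subgroup.card_mul_index R, hR, Subgroup.index_ker]
    have h8 : 8 ∣ Nat.card ↥R := by
      obtain ⟨j, hj⟩ : Nat.card ↥φ.range ∣ 336 := by
        have := Nat.dvd_gcd (show Nat.card ↥φ.range ∣ 2688 from hmulR ▸ dvd_mul_left _ _) hrange
        simpa using this
      refine ⟨j, Nat.eq_of_mul_eq_mul_right (Nat.card_pos : 0 < Nat.card ↥φ.range) ?_⟩
      rw [hmulR, mul_assoc, mul_comm j, ← hj]; norm_num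
    have hfix : ∀ r ∈ R, ∀ P : Sylow 3 ↥K, r ∈ normalizer ((P : Subgroup ↥K) : Set ↥K) := fun r hr P =>
      Sylow.smul_eq_iff_mem_normalizer.1 (by
        have := Equiv.congr_fun (MonoidHom.mem_ker.1 hr) P
        simpa [φ] using this)
    have hR3 : ¬ 3 ∣ Nat.card ↥R := fun h3 => by
      obtain ⟨⟨r, hr⟩, hro⟩ := exists_prime_orderOf_dvd_card' (G := ↥R) 3 h3
      rw [Subgroup.orderOf_mk] at hro
      have hall : ∀ P : Sylow 3 ↥K, (P : Subgroup ↥K) = zpowers r := fun P => by
        have hp : IsPGroup 3 ↥(zpowers r) := IsPGroup.of_card (n := 1) (by rw [Nat.card_zpowers, hro, pow_one])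
        have hrP : r ∈ zpowers r ⊓ (P : Subgroup ↥K) :=
          (IsPGroup.inf_normalizer_sylow hp P).le ⟨mem_zpowers r, hfix r hr P⟩
        exact (Subgroup.eq_of_le_of_card_ge (zpowers_le.2 hrP.2) (by rw [hS P, Nat.card_zpowers, hro])).symm
      have : Subsingleton (Sylow 3 ↥K) := ⟨fun P P' => Sylow.ext ((hall P).trans (hall P').symm)⟩
      have : n ≤ 1 := Finite.card_le_one_iff_subsingleton.2 this
      omega
    set Z := centralizer ((R : Subgroup ↥K) : Set ↥K) with hZ
    have hQZ : (Q : Subgroup ↥K) ≤ Z := fun z hz => mem_centralizer_iff.2 fun r hr => by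
      have h1 : r * z * r⁻¹ * z⁻¹ ∈ R := by
        rw [show r * z * r⁻¹ * z⁻¹ = r * (z * r⁻¹ * z⁻¹) by group]
        exact mul_mem hr ((MonoidHom.normal_ker φ).conj_mem _ (inv_mem hr) z)
      have h2 : r * z * r⁻¹ * z⁻¹ ∈ (Q : Subgroup ↥K) :=
        mul_mem ((mem_normalizer_iff.1 (hfix r hr Q) z).1 hz) (inv_mem hz)
      have h3 : orderOf (r * z * r⁻¹ * z⁻¹) = 1 := Nat.eq_one_of_dvd_coprimes
        ((Nat.Prime.coprime_iff_not_dvd Nat.prime_three).2 hR3)
        (hS Q ▸ Subgroup.orderOf_dvd_natCard _ h2) (Subgroup.orderOf_dvd_natCard _ h1)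
      exact mul_inv_eq_iff_eq_mul.1 (mul_inv_eq_one.1 (orderOf_eq_one_iff.1 h3))
    haveI : Z.Normal := by rw [hZ]; infer_instance
    have hf := frattini Z Q hQZ (Q : Subgroup ↥K) le_normalizer hQZ
    rw [show Nat.card ↥(normalizer ((Q : Subgroup ↥K) : Set ↥K)) = 384 by
      have h := card_normalizer_mul Q
      rw [← hn, e7, hK'] at h
      omega, hS Q] at hf
    have h7Z : 7 ∣ Nat.card ↥Z := ((show Nat.Prime 7 by norm_num).dvd_mul.1
      (show 7 ∣ Nat.card ↥Z * Z.index by rw [Subgroup.card_mul_index, hK']; norm_num)).resolve_right fun h => by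
        have := (h.mul_right 3).trans hf
        norm_num at this
    obtain ⟨⟨y, hyZ⟩, hyo⟩ := exists_prime_orderOf_dvd_card' (G := ↥Z) 7 h7Z
    rw [Subgroup.orderOf_mk, ← Subgroup.orderOf_coe] at hyo
    have hle : R.map K.subtype ≤ centralizer ({(y : G)} : Set G) := by
      rintro _ ⟨r, hr, rfl⟩
      exact mem_centralizer_singleton_iff.2 (congrArg Subtype.val (mem_centralizer_iff.1 hyZ r hr))
    have := Subgroup.card_dvd_of_le hle
    rw [Subgroup.card_map_of_injective K.subtype_injective, H.seven _ hyo] at this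
    have := h8.trans this
    norm_num at this
  have hall : ∀ d ∈ Nat.divisors 896, 7 ∣ d → d % 3 = 1 → d ≠ 7 → d ∈ ({28, 112, 448} : Finset ℕ) := by decide +kernel
  exact hall n (Nat.mem_divisors.2 ⟨hnd, by norm_num⟩) h7 hn3 hne

end Cfsg.Lib.M23Nse
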