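import Cfsg.Agent.M23Nse.CensusLemma
import Cfsg.Agent.Transfer.Basic

/-!
The census: the elements of order three commuting with an element of order five have centralisers of order
one hundred and eighty, and every element of order three is of this kind.
-/

set_option autoImplicit false
set_option linter.unusedSectionVars false
set_option linter.style.haveILetI false
set_option maxRecDepth 100000

namespace Cfsg.Lib.M23Nse

open Subgroup Cfsg.Lib.SameOrder Cfsg.Lib.Small Cfsg.Lib.MathieuEleven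

universe u

variable {G : Type u} [Group G] [Finite G]

local instance fact_two_ct : Fact (Nat.Prime 2) := ⟨Nat.prime_two⟩
local instance fact_three_ct : Fact (Nat.Prime 3) := ⟨Nat.prime_three⟩
local instance fact_five_ct : Fact (Nat.Prime 5) := ⟨by norm_num⟩

/-- the normalizer of a subgroup inside a larger subgroup -/
theorem card_norm_sub (C T : Subgroup G) (hT : T ≤ C) :
    Nat.card ↥(normalizer ((T.subgroupOf C : Subgroup ↥C) : Set ↥C)) =
      Nat.card ↥(C ⊓ normalizer (T : Set G) : Subgroup G) := by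
  rw [← Subgroup.card_map_of_injective C.subtype_injective]
  refine congrArg (fun K : Subgroup G => Nat.card ↥K) (Subgroup.ext fun g => ?_)
  simp only [Subgroup.mem_map, Subgroup.coe_subtype, mem_inf]
  constructor
  · rintro ⟨g, hg, rfl⟩
    exact ⟨g.2, mem_normalizer_of_conj T fun u hu => by
      simpa [Subgroup.mem_subgroupOf] using
        (mem_normalizer_iff.1 hg ⟨u, hT hu⟩).1 (Subgroup.mem_subgroupOf.2 hu)⟩
  · rintro ⟨hgC, hg⟩
    refine ⟨⟨g, hgC⟩, mem_normalizer_of_conj _ fun u hu => ?_, rfl⟩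
    rw [Subgroup.mem_subgroupOf] at hu ⊢
    exact (mem_normalizer_iff.1 hg _).1 hu

variable (H : Census G)

include H

/-- a normalised subgroup of order five inside the centraliser of a commuting element of order three -/
theorem Census.norm_five {x y : G} (hx : orderOf x = 3) (hy : orderOf y = 5) (hc : x * y = y * x) :
    Nat.card ↥(centralizer ({x} : Set G) ⊓ normalizer (zpowers y : Set G) : Subgroup G) = 60 ∨
      Nat.card ↥(centralizer ({x} : Set G) ⊓ normalizer (zpowers y : Set G) : Subgroup G) = 30 ∧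
        ∃ g : G, g * x * g⁻¹ = x⁻¹ := by
  classical
  set N := normalizer (zpowers y : Set G) with hN
  have hN60 : Nat.card ↥N = 60 := by
    obtain ⟨P, hP⟩ := M12Nse.exists_sylow_zpowers H.sylow_five hy
    have h := card_normalizer_mul P
    rw [H.card, H.nFive, hP, ← hN] at h
    omega
  have hW := (cyclic_cent (p := 5) (q := 3) (by norm_num) (by norm_num) (by norm_num) hy (H.five y hy)).2
  have hne : x ≠ x⁻¹ := fun e => by
    have : x ^ 2 = 1 := by rw [pow_two]; exact mul_eq_one_iff_eq_inv.2 e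
    have := orderOf_dvd_of_pow_eq_one this
    rw [hx] at this
    norm_num at this
  have hpair : ({w : G | orderOf w = 3 ∧ w * y = y * w} : Set G) = {x, x⁻¹} := by
    refine (Set.eq_of_subset_of_ncard_le ?_ ?_ (Set.toFinite _)).symm
    · rintro w (rfl | rfl)
      · exact ⟨hx, hc⟩
      · exact ⟨by rw [orderOf_inv, hx], ((show Commute x y from hc).inv_left).eq⟩
    · rw [Set.ncard_pair hne, ← Nat.card_coe_set_eq]
      exact le_of_eq hW
  have hact : ∀ g ∈ N, g * x * g⁻¹ = x ∨ g * x * g⁻¹ = x⁻¹ := fun g hg => by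
    have hm : g * x * g⁻¹ ∈ ({w : G | orderOf w = 3 ∧ w * y = y * w} : Set G) := by
      refine ⟨(M22Nse.conjOrd g x).trans hx, ?_⟩
      obtain ⟨k, hk⟩ := mem_zpowers_iff.1 ((mem_normalizer_iff.1 (inv_mem hg) y).1 (mem_zpowers y))
      have hy' : y = g * y ^ k * g⁻¹ := by rw [hk]; group
      calc g * x * g⁻¹ * y = g * x * g⁻¹ * (g * y ^ k * g⁻¹) := by rw [← hy']
        _ = g * (x * y ^ k) * g⁻¹ := by group
        _ = g * (y ^ k * x) * g⁻¹ := by rw [((show Commute x y from hc).zpow_right k).eq]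
        _ = g * y ^ k * g⁻¹ * (g * x * g⁻¹) := by group
        _ = y * (g * x * g⁻¹) := by rw [← hy']
    rw [hpair] at hm
    exact hm
  by_cases hinv : ∃ g ∈ N, g * x * g⁻¹ = x⁻¹
  · obtain ⟨g, hg, he⟩ := hinv
    refine Or.inr ⟨?_, g, he⟩
    have h := ncard_conj_orbit N x
    have hO : (Set.range fun k : ↥N => (k : G) * x * (k : G)⁻¹) = {x, x⁻¹} := by
      refine Set.Subset.antisymm ?_ ?_
      · rintro _ ⟨k, rfl⟩
        exact hact k k.2
      · rintro w (rfl | rfl)
        · exact ⟨⟨1, one_mem _⟩, by simp⟩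
        · exact ⟨⟨g, hg⟩, he⟩
    rw [hO, Set.ncard_pair hne, hN60, inf_comm] at h
    omega
  · refine Or.inl ?_
    rw [show centralizer ({x} : Set G) ⊓ N = N from inf_eq_right.2 fun g hg =>
      mem_centralizer_singleton_iff.2 (mul_inv_eq_iff_eq_mul.1
        ((hact g hg).resolve_right fun e => hinv ⟨g, hg, e⟩)), hN60]

/-- an element centralising two independent elements of a Sylow subgroup lies in it -/
theorem Census.mem_of_two (S : Sylow 3 G) {x y : G} (hx : x ∈ (S : Subgroup G)) (hx3 : orderOf x = 3)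
    (hy : y ∈ (S : Subgroup G)) (hyx : y ∉ zpowers x) {g : G} (hgx : g * x = x * g) (hgy : g * y = y * g) :
    g ∈ (S : Subgroup G) := by
  set K := (S : Subgroup G) ⊓ centralizer ({g} : Set G)
  have hxK : x ∈ K := ⟨hx, mem_centralizer_singleton_iff.2 hgx.symm⟩
  have hK : K = (S : Subgroup G) := by
    refine Subgroup.eq_of_le_of_card_ge inf_le_left ?_
    rw [H.card_sylow_three S]
    have hd : Nat.card ↥K ∈ Nat.divisors 9 :=
      Nat.mem_divisors.2 ⟨H.card_sylow_three S ▸ Subgroup.card_dvd_of_le inf_le_left, by norm_num⟩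
    have h3 : 3 ≤ Nat.card ↥K := by
      rw [← hx3, ← Nat.card_zpowers]
      exact Subgroup.card_le_of_le (zpowers_le.2 hxK)
    rw [show Nat.divisors 9 = {1, 3, 9} by decide] at hd
    simp only [Finset.mem_insert, Finset.mem_singleton] at hd
    rcases hd with e | e | e
    · omega
    · exfalso
      refine hyx ?_
      rw [Subgroup.eq_of_le_of_card_ge (zpowers_le.2 hxK) (by rw [e, Nat.card_zpowers, hx3])]
      exact ⟨hy, mem_centralizer_singleton_iff.2 hgy.symm⟩
    · omega
  exact H.cent_sylow S fun a ha => mem_centralizer_singleton_iff.1 ((hK ▸ ha : a ∈ K)).2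

/-- at most two cosets of a Sylow subgroup normalise it and centralise one of its elements of order three -/
theorem Census.norm_three_le (S : Sylow 3 G) {x : G} (hx : x ∈ (S : Subgroup G)) (hx3 : orderOf x = 3) :
    ∃ m, (m = 1 ∨ m = 2) ∧
      Nat.card ↥(centralizer ({x} : Set G) ⊓ normalizer ((S : Subgroup G) : Set G) : Subgroup G) = 9 * m := by
  classical
  set M := centralizer ({x} : Set G) ⊓ normalizer ((S : Subgroup G) : Set G) with hM
  have hSM : (S : Subgroup G) ≤ M := le_inf (H.sylow_le_cent S hx) le_normalizer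
  have hcard : Nat.card ↥(zpowers x) = 3 := by rw [Nat.card_zpowers, hx3]
  obtain ⟨y, hy, hyx⟩ := SetLike.exists_of_lt (lt_of_le_of_ne (zpowers_le.2 hx) (fun e => by
    have := congrArg (fun K : Subgroup G => Nat.card ↥K) e
    simp only [hcard, H.card_sylow_three S] at this
    omega) : zpowers x < (S : Subgroup G))
  set O := Set.range fun k : ↥M => (k : G) * y * (k : G)⁻¹ with hO
  have hstab : M ⊓ centralizer ({y} : Set G) = (S : Subgroup G) := le_antisymm
    (fun g hg => H.mem_of_two S hx hx3 hy hyx (mem_centralizer_singleton_iff.1 hg.1.1)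
      (mem_centralizer_singleton_iff.1 hg.2))
    (le_inf hSM (H.sylow_le_cent S hy))
  have horb := ncard_conj_orbit M y
  rw [← hO, hstab, H.card_sylow_three S] at horb
  set m := O.ncard
  have hm0 : m ≠ 0 := fun e => by
    rw [e, zero_mul] at horb
    exact (Nat.card_pos : 0 < Nat.card ↥M).ne horb
  have hm3 : ¬ 3 ∣ m := fun h3 => by
    have h27 : 27 ∣ Nat.card ↥M := by
      rw [← horb]
      obtain ⟨j, hj⟩ := h3
      exact ⟨j, by rw [hj]; ring⟩
    have := h27.trans ((Subgroup.card_dvd_of_le (inf_le_left : M ≤ _)).trans (H.cent_three_dvd hx3))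
    norm_num at this
  haveI : ((S : Subgroup G).subgroupOf M).Normal := ⟨fun s hs k => by
    rw [Subgroup.mem_subgroupOf] at hs ⊢
    simpa using (mem_normalizer_iff.1 k.2.2 (s : G)).1 hs⟩
  have hidx : ((S : Subgroup G).subgroupOf M).index = m := by
    have h := Subgroup.card_mul_index ((S : Subgroup G).subgroupOf M)
    rw [Nat.card_congr (Subgroup.subgroupOfEquivOfLe hSM).toEquiv, H.card_sylow_three S] at h
    omega
  have hmem : ∀ o ∈ O, o ∈ (S : Subgroup G) ∧ o ∉ zpowers x := by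
    rintro o ⟨k, rfl⟩
    refine ⟨(mem_normalizer_iff.1 k.2.2 y).1 hy, fun h => hyx ?_⟩
    obtain ⟨i, hi⟩ := mem_zpowers_iff.1 h
    refine mem_zpowers_iff.2 ⟨i, ?_⟩
    have e : ((k : G) * x * (k : G)⁻¹) ^ i = (k : G) * y * (k : G)⁻¹ := by
      rw [mul_inv_eq_iff_eq_mul.2 (mem_centralizer_singleton_iff.1 k.2.1), hi]
    rw [← MulAut.conj_apply, ← MulAut.conj_apply, ← map_zpow] at e
    exact (MulAut.conj (k : G)).injective e
  have hcom : ∀ (c : ↥M), ∀ d ∈ zpowers x, Commute (c : G) d := by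
    intro c d hd
    obtain ⟨i, rfl⟩ := mem_zpowers_iff.1 hd
    exact (show Commute (c : G) x from mem_centralizer_singleton_iff.1 c.2.1).zpow_right i
  have hcoset : ∀ o ∈ O, ∀ d ∈ zpowers x, o * d ∈ O → d = 1 := by
    rintro o ⟨k, rfl⟩ d hd ⟨l, hl⟩
    set c := k⁻¹ * l with hc
    have hcy : (c : G) * y * (c : G)⁻¹ = y * d := by
      simp only [hc, Subgroup.coe_mul, InvMemClass.coe_inv]
      have hl' : (l : G) * y * (l : G)⁻¹ = (k : G) * y * (k : G)⁻¹ * d := hl
      calc _ = (k : G)⁻¹ * ((l : G) * y * (l : G)⁻¹) * (k : G) := by group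
        _ = y * ((k : G)⁻¹ * d * (k : G)) := by rw [hl']; group
        _ = y * d := by rw [(hcom k d hd).inv_left.eq, inv_mul_cancel_right]
    have hpow : ∀ n : ℕ, (c : G) ^ n * y * ((c : G) ^ n)⁻¹ = y * d ^ n := by
      intro n
      induction n with
      | zero => simp
      | succ n ih =>
        calc (c : G) ^ (n + 1) * y * ((c : G) ^ (n + 1))⁻¹
            = (c : G) * ((c : G) ^ n * y * ((c : G) ^ n)⁻¹) * (c : G)⁻¹ := by rw [pow_succ']; group
          _ = (c : G) * y * (c : G)⁻¹ * ((c : G) * d ^ n * (c : G)⁻¹) := by rw [ih]; group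
          _ = y * d ^ (n + 1) := by rw [hcy, ((hcom c d hd).pow_right n).eq, mul_inv_cancel_right, pow_succ', ← mul_assoc]
    have hcS : (c : G) ^ m ∈ (S : Subgroup G) := by
      have := Subgroup.pow_index_mem ((S : Subgroup G).subgroupOf M) c
      rwa [hidx, Subgroup.mem_subgroupOf, Subgroup.coe_pow] at this
    have := hpow m
    rw [show (c : G) ^ m * y * ((c : G) ^ m)⁻¹ = y by
      rw [H.sylow_three_comm S hcS hy, mul_inv_cancel_right]] at this
    have hdm : d ^ m = 1 := left_eq_mul.1 this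
    have hd3 : d ^ 3 = 1 := by
      obtain ⟨i, rfl⟩ := mem_zpowers_iff.1 hd
      rw [← zpow_natCast, ← zpow_mul, mul_comm, zpow_mul, zpow_natCast, ← hx3, pow_orderOf_eq_one, one_zpow]
    have hg : Nat.gcd m 3 = 1 := ((Nat.Prime.coprime_iff_not_dvd Nat.prime_three).2 hm3).symm
    simpa [hg] using pow_gcd_eq_one.2 ⟨hdm, hd3⟩
  let F : O × ↥(zpowers x) → {a : G // a ∈ (S : Subgroup G) ∧ a ∉ zpowers x} := fun p =>
    ⟨p.1.1 * p.2.1, mul_mem (hmem _ p.1.2).1 ((zpowers_le.2 hx) p.2.2),
      fun h => (hmem _ p.1.2).2 ((Subgroup.mul_mem_cancel_right _ p.2.2).1 h)⟩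
  have hF : Function.Injective F := by
    rintro ⟨o, d⟩ ⟨o', d'⟩ h
    have h' : o.1 * d.1 = o'.1 * d'.1 := congrArg Subtype.val h
    have e : o'.1 = o.1 * (d.1 * d'.1⁻¹) := by rw [← mul_assoc, h', mul_inv_cancel_right]
    have h1 := hcoset _ o.2 _ (mul_mem d.2 (inv_mem d'.2)) (e ▸ o'.2)
    rw [h1, mul_one] at e
    exact Prod.ext (Subtype.ext e.symm) (Subtype.ext (mul_inv_eq_one.1 h1))
  have hle := Nat.card_le_card_of_injective F hF
  have hsix : Nat.card {a : G // a ∈ (S : Subgroup G) ∧ a ∉ zpowers x} = 6 := by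
    show Nat.card ↥({a | a ∈ (S : Subgroup G) ∧ a ∉ zpowers x} : Set G) = 6
    rw [Nat.card_coe_set_eq, show ({a | a ∈ (S : Subgroup G) ∧ a ∉ zpowers x} : Set G) =
      ((S : Subgroup G) : Set G) \ (zpowers x : Set G) from rfl,
      Set.ncard_sdiff (fun a ha => (zpowers_le.2 hx) ha) (Set.toFinite _), ← Nat.card_coe_set_eq,
      ← Nat.card_coe_set_eq]
    show Nat.card ↥(S : Subgroup G) - Nat.card ↥(zpowers x) = 6
    rw [H.card_sylow_three S, hcard]
  rw [Nat.card_prod, hsix, hcard, Nat.card_coe_set_eq] at hle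
  exact ⟨m, by omega, by rw [← horb, mul_comm]⟩

/-- the Sylow count for three in the centraliser of an element of order three -/
theorem Census.sylow_three_in_cent (S : Sylow 3 G) {x : G} (hx : x ∈ (S : Subgroup G)) :
    ∃ n, n % 3 = 1 ∧
      n * Nat.card ↥(centralizer ({x} : Set G) ⊓ normalizer ((S : Subgroup G) : Set G) : Subgroup G) =
        Nat.card ↥(centralizer ({x} : Set G)) := by
  set C := centralizer ({x} : Set G)
  set P : Sylow 3 ↥C := S.subtype (H.sylow_le_cent S hx)
  refine ⟨Nat.card (Sylow 3 ↥C), card_sylow_modEq_one 3 ↥C, ?_⟩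
  have h := card_normalizer_mul P
  rw [show Nat.card ↥(normalizer ((P : Subgroup ↥C) : Set ↥C)) =
      Nat.card ↥(C ⊓ normalizer ((S : Subgroup G) : Set G) : Subgroup G) by
    rw [show (P : Subgroup ↥C) = (S : Subgroup G).subgroupOf C from Sylow.coe_subtype ..,
      card_norm_sub C _ (H.sylow_le_cent S hx)]] at h
  rw [← h, mul_comm]

/-- the centraliser of an element of order three commuting with an element of order five -/
theorem Census.five_cent {x y : G} (hx : orderOf x = 3) (hy : orderOf y = 5) (hc : x * y = y * x) :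
    Nat.card ↥(centralizer ({x} : Set G)) = 180 ∧ IsConj x x⁻¹ := by
  classical
  set C := centralizer ({x} : Set G) with hC
  have hyC : y ∈ C := mem_centralizer_singleton_iff.2 hc.symm
  obtain ⟨a, c, ha7, hc1, hcard⟩ := H.cent_three_form hx
  rw [← hC] at hcard
  have hc' : c = 1 := by
    by_contra hne
    have h5 : 5 ∣ Nat.card ↥C := hy ▸ Subgroup.orderOf_dvd_natCard _ hyC
    rw [hcard, show c = 0 by omega] at h5
    interval_cases a <;> norm_num at h5
  subst hc'
  set yc : ↥C := ⟨y, hyC⟩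
  have hS5 : ∀ P : Sylow 5 ↥C, Nat.card ↥(P : Subgroup ↥C) = 5 := fun P => by
    simpa using card_sylow_of_factor P (a := 1) (m := 2 ^ a * 9) (by rw [hcard]; ring)
      (by interval_cases a <;> norm_num)
  obtain ⟨P5, hP5⟩ := M12Nse.exists_sylow_zpowers hS5 (x := yc) (by rw [Subgroup.orderOf_mk, hy])
  have h5mul := card_normalizer_mul P5
  have hNc : Nat.card ↥(normalizer ((P5 : Subgroup ↥C) : Set ↥C)) =
      Nat.card ↥(C ⊓ normalizer (zpowers y : Set G) : Subgroup G) := by
    rw [hP5]; exact card_norm_inside C hyC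
  rw [hNc, hcard] at h5mul
  have hmod5 : Nat.card (Sylow 5 ↥C) % 5 = 1 := card_sylow_modEq_one 5 ↥C
  obtain ⟨S, hxS⟩ := M22Nse.exists_sylow_three hx
  obtain ⟨m, hm, hM⟩ := H.norm_three_le S hxS hx
  obtain ⟨n, hn, hnM⟩ := H.sylow_three_in_cent S hxS
  rw [← hC] at hM hnM
  rw [hM, hcard] at hnM
  rcases H.norm_five hx hy hc with h60 | ⟨h30, g, hg⟩
  · rw [← hC] at h60
    rw [h60] at h5mul
    -- transfer: the Sylow subgroup for three has a normal complement
    exfalso
    have hm1 : m = 1 := by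
      rcases hm with rfl | rfl
      · rfl
      · interval_cases a <;> omega
    set P : Sylow 3 ↥C := S.subtype (H.sylow_le_cent S hxS)
    have hPc : (P : Subgroup ↥C) = (S : Subgroup G).subgroupOf C := Sylow.coe_subtype ..
    have hburn : normalizer ((P : Subgroup ↥C) : Set ↥C) ≤ centralizer ((P : Subgroup ↥C) : Set ↥C) := by
      have he : (P : Subgroup ↥C) = normalizer ((P : Subgroup ↥C) : Set ↥C) := Subgroup.eq_of_le_of_card_ge le_normalizer
        (by rw [hPc, card_norm_sub C _ (H.sylow_le_cent S hxS), hM, hm1,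
          Nat.card_congr (Subgroup.subgroupOfEquivOfLe (H.sylow_le_cent S hxS)).toEquiv, H.card_sylow_three S])
      refine he.symm.le.trans fun k hk => mem_centralizer_iff.2 fun b hb => ?_
      rw [SetLike.mem_coe, hPc] at hb
      rw [hPc] at hk
      exact Subtype.ext (H.sylow_three_comm S (Subgroup.mem_subgroupOf.1 hb) (Subgroup.mem_subgroupOf.1 hk))
    have hcomp := MonoidHom.ker_transferSylow_isComplement' P hburn
    set N := (MonoidHom.transferSylow P hburn).ker with hN
    obtain ⟨hcop, k, hk⟩ := Cfsg.Lib.Transfer.complement_props hcomp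
    have hle : (P5 : Subgroup ↥C) ≤ N := by
      rw [hP5, zpowers_le, Cfsg.Lib.Transfer.mem_iff_coprime_orderOf hcop hk, Subgroup.orderOf_mk, hy]
      norm_num
    have hPcard : Nat.card ↥(P : Subgroup ↥C) = 9 := by
      rw [hPc, Nat.card_congr (Subgroup.subgroupOfEquivOfLe (H.sylow_le_cent S hxS)).toEquiv, H.card_sylow_three S]
    have hf := frattini N P5 hle ⊥ bot_le bot_le
    rw [Subgroup.card_bot, mul_one, hNc, h60, hcomp.symm.index_eq_card, hPcard] at hf
    norm_num at hf
  · rw [← hC] at h30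
    rw [h30] at h5mul
    refine ⟨?_, isConj_iff.2 ⟨g, hg⟩⟩
    have ha : a = 2 ∨ a = 6 := by interval_cases a <;> omega
    rcases ha with rfl | rfl
    · rw [hcard]; norm_num
    -- a central involution of a subgroup of order sixty-four
    exfalso
    obtain ⟨T, hT⟩ := Sylow.exists_subgroup_card_pow_prime (G := ↥C) 2 (n := 6) (by rw [hcard]; norm_num)
    have hpT : IsPGroup 2 ↥T := IsPGroup.of_card hT
    haveI : Nontrivial ↥T := Finite.one_lt_card_iff_nontrivial.1 (by rw [hT]; norm_num)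
    obtain ⟨z, hz⟩ : ∃ z : ↥(center ↥T), orderOf z = 2 := by
      haveI := hpT.center_nontrivial
      obtain ⟨j, hj⟩ := (hpT.to_subgroup (center ↥T)).exists_card_eq
      refine exists_prime_orderOf_dvd_card' 2 ?_
      rw [hj]
      refine dvd_pow_self 2 fun e => ?_
      rw [e, pow_zero] at hj
      exact absurd hj (Finite.one_lt_card_iff_nontrivial.2 inferInstance).ne'
    set t : G := (((z : ↥T) : ↥C) : G) with ht
    have hto : orderOf t = 2 := by rw [ht, Subgroup.orderOf_coe, Subgroup.orderOf_coe, Subgroup.orderOf_coe, hz]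
    have hxt : x * t = t * x := (mem_centralizer_singleton_iff.1 ((z : ↥T) : ↥C).2).symm
    obtain ⟨hmul, hmem, -⟩ := H.invol_three hto hx hxt
    set K := centralizer ({t} : Set G) ⊓ normalizer (zpowers x : Set G)
    have h3 : 3 ∣ Nat.card ↥K := hx ▸ Subgroup.orderOf_dvd_natCard K
      (mem_inf.2 ⟨mem_centralizer_singleton_iff.2 hxt, le_normalizer (mem_zpowers x)⟩)
    have h64 : 64 ∣ Nat.card ↥K := by
      have hTK : T.map C.subtype ≤ K := by
        rintro _ ⟨w, hw, rfl⟩
        refine mem_inf.2 ⟨mem_centralizer_singleton_iff.2 ?_, ?_⟩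
        · exact congrArg (fun v : ↥T => ((v : ↥C) : G)) (mem_center_iff.1 z.2 ⟨w, hw⟩)
        · exact mem_normalizer_zpowers (by
            show (w : G) * x * (w : G)⁻¹ ∈ zpowers x
            rw [mul_inv_eq_iff_eq_mul.2 (mem_centralizer_singleton_iff.1 w.2)]; exact mem_zpowers x)
      have := Subgroup.card_dvd_of_le hTK
      rwa [Subgroup.card_map_of_injective C.subtype_injective, hT] at this
    obtain ⟨j, hj⟩ := Nat.Coprime.mul_dvd_of_dvd_of_dvd (by norm_num) h3 h64
    rw [hj] at hmul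
    simp only [Finset.mem_insert, Finset.mem_singleton] at hmem
    rcases hmem with e | e | e <;> rw [e] at hmul <;> omega

/-- some element of order three commutes with an element of order five -/
theorem Census.exists_five : ∃ x : G, M22Nse.Marked x ∧ Nat.card ↥(centralizer ({x} : Set G)) = 180 ∧
    IsConj x x⁻¹ := by
  obtain ⟨y, hy⟩ := exists_prime_orderOf_dvd_card' (G := G) 5 (by rw [H.card]; norm_num)
  obtain ⟨⟨x, hx⟩, hxo⟩ := exists_prime_orderOf_dvd_card' (G := ↥(centralizer ({y} : Set G))) 3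
    (by rw [H.five y hy]; norm_num)
  rw [Subgroup.orderOf_mk] at hxo
  obtain ⟨h180, hconj⟩ := H.five_cent hxo hy (mem_centralizer_singleton_iff.1 hx)
  obtain ⟨⟨t, ht⟩, hto⟩ := exists_prime_orderOf_dvd_card' (G := ↥(centralizer ({x} : Set G))) 2
    (by rw [h180]; norm_num)
  rw [Subgroup.orderOf_mk] at hto
  exact ⟨x, ⟨hxo, t, hto, (mem_centralizer_singleton_iff.1 ht).symm⟩, h180, hconj⟩

/-- marked elements are conjugate up to inversion -/
theorem Census.marked_conj_inv {a b : G} (ha : M22Nse.Marked a) (hb : M22Nse.Marked b) :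
    IsConj a b ∨ IsConj a b⁻¹ := by
  obtain ⟨ha3, t, ht, hat⟩ := ha
  obtain ⟨hb3, s, hs, hbs⟩ := hb
  obtain ⟨g, hg⟩ := isConj_iff.1 (H.conj t s ht hs)
  have hga : g * a * g⁻¹ ∈ centralizer ({s} : Set G) := mem_centralizer_singleton_iff.2 (by
    rw [← hg, show g * a * g⁻¹ * (g * t * g⁻¹) = g * (a * t) * g⁻¹ by group, hat]; group)
  obtain ⟨h, -, hh⟩ := M22Nse.conj_or_inv_of_three (K := centralizer ({s} : Set G)) (by rw [H.invol s hs]; norm_num)
    hga (mem_centralizer_singleton_iff.2 hbs) ((M22Nse.conjOrd g a).trans ha3) hb3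
  exact hh.imp (fun e => isConj_iff.2 ⟨h * g, by rw [← e]; group⟩) fun e => isConj_iff.2 ⟨h * g, by rw [← e]; group⟩

/-- the marked elements form one class, with centralisers of order one hundred and eighty -/
theorem Census.marked_facts {a : G} (ha : M22Nse.Marked a) :
    Nat.card ↥(centralizer ({a} : Set G)) = 180 ∧ ∀ b : G, M22Nse.Marked b → IsConj a b := by
  obtain ⟨x, hx, h180, g0⟩ := H.exists_five
  have hinv : ∀ {u v : G}, IsConj u v → IsConj u⁻¹ v⁻¹ := fun {u v} h => by
    obtain ⟨g, rfl⟩ := isConj_iff.1 h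
    exact isConj_iff.2 ⟨g, by group⟩
  have key : ∀ b : G, M22Nse.Marked b → IsConj x b := fun b hb => (H.marked_conj_inv hx hb).elim id fun h => by
    have := hinv h
    rw [inv_inv] at this
    exact g0.trans this
  exact ⟨(M12Nse.conj_card_centralizer (key a ha)).trans h180, fun b hb => (key a ha).symm.trans (key b hb)⟩

/-- an element of order three in a marked situation has a normalizer part of order eighteen -/
theorem Census.norm_three_marked (S : Sylow 3 G) {x : G} (hx : x ∈ (S : Subgroup G)) (hm : M22Nse.Marked x) :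
    Nat.card ↥(centralizer ({x} : Set G) ⊓ normalizer ((S : Subgroup G) : Set G) : Subgroup G) = 18 := by
  obtain ⟨m, hm', hM⟩ := H.norm_three_le S hx hm.1
  obtain ⟨n, hn, hnM⟩ := H.sylow_three_in_cent S hx
  rw [hM, (H.marked_facts hm).1] at hnM
  rcases hm' with rfl | rfl <;> omega

/-- every Sylow subgroup for three has a marked element -/
theorem Census.exists_marked (S : Sylow 3 G) : ∃ x ∈ (S : Subgroup G), M22Nse.Marked x := by
  obtain ⟨x, hm, -⟩ := H.exists_five
  obtain ⟨R, hR⟩ := M22Nse.exists_sylow_three hm.1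
  obtain ⟨c, hc⟩ := MulAction.exists_smul_eq G R S
  refine ⟨c * x * c⁻¹, ?_, hm.conj c⟩
  rw [← hc, Sylow.coe_subgroup_smul, Subgroup.mem_pointwise_smul_iff_inv_smul_mem]
  simp only [MulAut.smul_def, ← map_inv, MulAut.conj_apply]
  convert hR using 1
  group

/-- there are no elements of order nine -/
theorem Census.no_nine (g : G) : orderOf g ≠ 9 := by
  intro hg
  obtain ⟨S, hS⟩ := (IsPGroup.of_card (p := 3) (n := 2) (by rw [Nat.card_zpowers, hg]; norm_num) :
    IsPGroup 3 ↥(zpowers g)).exists_le_sylow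
  have hSg : (S : Subgroup G) = zpowers g :=
    (Subgroup.eq_of_le_of_card_ge hS (by rw [H.card_sylow_three S, Nat.card_zpowers, hg])).symm
  obtain ⟨x, hxS, hm⟩ := H.exists_marked S
  obtain ⟨⟨r, hr⟩, hro⟩ := exists_prime_orderOf_dvd_card'
    (G := ↥(centralizer ({x} : Set G) ⊓ normalizer ((S : Subgroup G) : Set G) : Subgroup G)) 2
    (by rw [H.norm_three_marked S hxS hm]; norm_num)
  rw [Subgroup.orderOf_mk] at hro
  have hrg : r * g * r⁻¹ ∈ zpowers g := hSg ▸ (mem_normalizer_iff.1 hr.2 g).1 (hSg ▸ mem_zpowers g)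
  rw [← mem_powers_iff_mem_zpowers, Submonoid.mem_powers_iff] at hrg
  obtain ⟨k, hk⟩ := hrg
  have hr2 : r * r = 1 := by rw [← pow_two, ← hro, pow_orderOf_eq_one]
  have hconj : ∀ i : ℕ, r * g ^ i * r⁻¹ = g ^ (k * i) := fun i => by rw [← conj_pow, ← hk, ← pow_mul]
  have hk2 : k * k % 9 = 1 := by
    have e : g ^ (k * k) = g ^ 1 := by
      rw [pow_one, ← hconj k, hk, show r * (r * g * r⁻¹) * r⁻¹ = (r * r) * g * (r * r)⁻¹ by group, hr2]
      simp
    have := (pow_inj_mod.1 e)
    rwa [hg] at this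
  obtain ⟨i, hi⟩ := mem_zpowers_iff.1 (hSg ▸ hxS : x ∈ zpowers g)
  obtain ⟨j, hj⟩ := Submonoid.mem_powers_iff _ _ |>.1 (mem_powers_iff_mem_zpowers.2 (mem_zpowers_iff.2 ⟨i, hi⟩ : x ∈ zpowers g))
  have hfix : g ^ (k * j) = g ^ j := by
    rw [← hconj j, hj, mul_inv_eq_iff_eq_mul.2 (mem_centralizer_singleton_iff.1 hr.1)]
  have hkj := pow_inj_mod.1 hfix
  rw [hg] at hkj
  have hj0 : j % 9 ≠ 0 := fun e => by
    have hx3 := hm.1
    rw [← hj, ← pow_mod_orderOf, hg, e, pow_zero, orderOf_one] at hx3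
    norm_num at hx3
  have key : ∀ a : Fin 9, ∀ b : Fin 9, a.val * a.val % 9 = 1 → b.val ≠ 0 → a.val * b.val % 9 = b.val → a.val = 1 := by
    decide +kernel
  have hk1 := key ⟨k % 9, Nat.mod_lt _ (by norm_num)⟩ ⟨j % 9, Nat.mod_lt _ (by norm_num)⟩
    (by show k % 9 * (k % 9) % 9 = 1; rw [← Nat.mul_mod, hk2]) hj0
    (by show k % 9 * (j % 9) % 9 = j % 9; rw [← Nat.mul_mod, hkj])
  have hrg' : r * g * r⁻¹ = g := by
    rw [← hk, ← pow_mod_orderOf, hg]
    simp only at hk1
    rw [hk1, pow_one]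
  exact H.sylow_no_invol (K := (S : Subgroup G)) (by rw [H.card_sylow_three S]) hro fun a ha => by
    rw [hSg] at ha
    obtain ⟨i, rfl⟩ := mem_zpowers_iff.1 ha
    exact ((show Commute r g from mul_inv_eq_iff_eq_mul.1 hrg').symm.zpow_left i).eq

theorem Census.sylow_three_elem (S : Sylow 3 G) {a : G} (ha : a ∈ (S : Subgroup G)) (ha1 : a ≠ 1) :
    orderOf a = 3 := by
  have hd := H.card_sylow_three S ▸ Subgroup.orderOf_dvd_natCard _ ha
  obtain ⟨i, hi, e⟩ := (Nat.dvd_prime_pow Nat.prime_three).1 (show orderOf a ∣ 3 ^ 2 from hd)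
  interval_cases i
  · rw [pow_zero] at e
    exact absurd (orderOf_eq_one_iff.1 e) ha1
  · simpa using e
  · exact absurd (by simpa using e) (H.no_nine a)

/-- fusion inside a Sylow subgroup -/
theorem Census.fusion (S : Sylow 3 G) {a b : G} (ha : a ∈ (S : Subgroup G)) (hb : b ∈ (S : Subgroup G))
    {g : G} (hg : g * a * g⁻¹ = b) : ∃ n ∈ normalizer ((S : Subgroup G) : Set G), n * a * n⁻¹ = b := by
  have hcen : ∀ c ∈ (S : Subgroup G), c ∈ centralizer ((S : Subgroup G) : Set G) := fun c hc =>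
    mem_centralizer_iff.2 fun d hd => H.sylow_three_comm S hd hc
  obtain ⟨n, hn, he⟩ := S.conj_eq_normalizer_conj_of_mem_centralizer a g⁻¹ (hcen a ha)
    (by rw [inv_inv, hg]; exact hcen b hb)
  rw [inv_inv, hg] at he
  exact ⟨n⁻¹, inv_mem hn, by rw [inv_inv, he]⟩

/-- an unmarked element of order three is centralised by its Sylow subgroup alone -/
theorem Census.unmarked_stab (S : Sylow 3 G) {u : G} (hu : u ∈ (S : Subgroup G)) (hu1 : u ≠ 1)
    (hum : ¬ M22Nse.Marked u) : centralizer ({u} : Set G) = (S : Subgroup G) := by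
  have hu3 := H.sylow_three_elem S hu hu1
  have hle := H.sylow_le_cent S hu
  have hodd : ¬ 2 ∣ Nat.card ↥(centralizer ({u} : Set G)) := fun h2 => by
    obtain ⟨⟨t, ht⟩, hto⟩ := exists_prime_orderOf_dvd_card' (G := ↥(centralizer ({u} : Set G))) 2 h2
    rw [Subgroup.orderOf_mk] at hto
    exact hum ⟨hu3, t, hto, (mem_centralizer_singleton_iff.1 ht).symm⟩
  have h5 : ¬ 5 ∣ Nat.card ↥(centralizer ({u} : Set G)) := fun h5 => hodd (by
    obtain ⟨⟨y, hy⟩, hyo⟩ := exists_prime_orderOf_dvd_card' (G := ↥(centralizer ({u} : Set G))) 5 h5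
    rw [Subgroup.orderOf_mk] at hyo
    rw [(H.five_cent hu3 hyo (mem_centralizer_singleton_iff.1 hy).symm).1]
    norm_num)
  have h9 : 9 ∣ Nat.card ↥(centralizer ({u} : Set G)) := H.card_sylow_three S ▸ Subgroup.card_dvd_of_le hle
  have key : ∀ d ∈ Nat.divisors 5760, ¬ 2 ∣ d → ¬ 5 ∣ d → 9 ∣ d → d = 9 := by decide +kernel
  exact (Subgroup.eq_of_le_of_card_ge hle
    (by rw [key _ (Nat.mem_divisors.2 ⟨H.cent_three_dvd hu3, by norm_num⟩) hodd h5 h9, H.card_sylow_three S])).symm

/-- all elements of order three are marked -/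
theorem Census.all_marked {u : G} (hu : orderOf u = 3) : M22Nse.Marked u := by
  classical
  by_contra hum
  obtain ⟨S, huS⟩ := M22Nse.exists_sylow_three hu
  have hu1 : u ≠ 1 := fun e => by rw [e, orderOf_one] at hu; norm_num at hu
  obtain ⟨x, hxS, hxm⟩ := H.exists_marked S
  set N := normalizer ((S : Subgroup G) : Set G) with hN
  let orb : G → Set G := fun z => Set.range fun k : ↥N => (k : G) * z * (k : G)⁻¹
  set A : Set G := ((S : Subgroup G) : Set G) \ {1} with hA
  have hA8 : A.ncard = 8 := by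
    rw [hA, Set.ncard_sdiff (Set.singleton_subset_iff.2 (one_mem _)) (Set.toFinite _), Set.ncard_singleton,
      ← Nat.card_coe_set_eq]
    show Nat.card ↥(S : Subgroup G) - 1 = 8
    rw [H.card_sylow_three S]
  have hsub : ∀ z ∈ A, orb z ⊆ A := by
    rintro z ⟨hz, hz1⟩ _ ⟨k, rfl⟩
    exact ⟨(mem_normalizer_iff.1 k.2 z).1 hz, fun h => hz1 (by simpa using h)⟩
  have hmark : ∀ z : G, ∀ w ∈ orb z, M22Nse.Marked w → M22Nse.Marked z := by
    rintro z _ ⟨k, rfl⟩ hw
    simpa [mul_assoc] using hw.conj (k : G)⁻¹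
  have hxA : x ∈ A := ⟨hxS, fun h => by
    have := hxm.1
    rw [Set.mem_singleton_iff.1 h, orderOf_one] at this
    norm_num at this⟩
  have hx : orb x = {z ∈ A | M22Nse.Marked z} := by
    refine Set.Subset.antisymm ?_ ?_
    · rintro _ ⟨k, rfl⟩
      exact ⟨hsub x hxA ⟨k, rfl⟩, hxm.conj (k : G)⟩
    · rintro z ⟨⟨hzS, -⟩, hzm⟩
      obtain ⟨g, hg⟩ := isConj_iff.1 ((H.marked_facts hxm).2 z hzm)
      obtain ⟨n, hn, he⟩ := H.fusion S hxS hzS hg
      exact ⟨⟨n, hn⟩, he⟩
  set k := (orb x).ncard with hk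
  have hNk : k * 18 = Nat.card ↥N := by
    rw [← ncard_conj_orbit N x, inf_comm, H.norm_three_marked S hxS hxm]
  have hunm : ∀ z ∈ A, ¬ M22Nse.Marked z → (orb z).ncard = 2 * k := by
    rintro z ⟨hz, hz1⟩ hzm
    have h := ncard_conj_orbit N z
    rw [H.unmarked_stab S hz hz1 hzm, inf_eq_right.2 (le_normalizer : (S : Subgroup G) ≤ N),
      H.card_sylow_three S, ← hNk] at h
    show (Set.range fun j : ↥N => (j : G) * z * (j : G)⁻¹).ncard = 2 * k
    omega
  have huA : u ∈ A := ⟨huS, hu1⟩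
  have hdis : ∀ z ∈ A, ¬ M22Nse.Marked z → Disjoint (orb x) (orb z) := fun z hz hzm =>
    Set.disjoint_left.2 fun w hw hw' => hzm (hmark z w hw' (by rw [hx] at hw; exact hw.2))
  have hle : k + 2 * k ≤ 8 := by
    rw [← hA8, hk, ← hunm u huA hum, ← Set.ncard_union_eq (hdis u huA hum) (Set.toFinite _) (Set.toFinite _)]
    exact Set.ncard_le_ncard (Set.union_subset (hsub x hxA) (hsub u huA)) (Set.toFinite _)
  have hk2 : k = 2 := by
    have hn1 : Nat.card (Sylow 3 G) % 3 = 1 := card_sylow_modEq_one 3 G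
    have h := card_normalizer_mul S
    rw [← hN, ← hNk, H.card] at h
    have : k ≤ 2 := by omega
    interval_cases hkv : k <;> omega
  obtain ⟨v, hvA, hvo⟩ : ∃ v ∈ A, v ∉ orb x ∪ orb u := by
    by_contra! h
    have := Set.ncard_le_ncard (show A ⊆ orb x ∪ orb u from h) (Set.toFinite _)
    rw [Set.ncard_union_eq (hdis u huA hum) (Set.toFinite _) (Set.toFinite _), hA8, ← hk, hunm u huA hum, hk2] at this
    omega
  have hvm : ¬ M22Nse.Marked v := fun h => hvo (Or.inl (by rw [hx]; exact ⟨hvA, h⟩))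
  have hdis' : Disjoint (orb x ∪ orb u) (orb v) := by
    refine Set.disjoint_union_left.2 ⟨hdis v hvA hvm, Set.disjoint_left.2 ?_⟩
    rintro _ ⟨a, rfl⟩ ⟨b, hb⟩
    refine hvo (Or.inr ⟨b⁻¹ * a, ?_⟩)
    show (b : G)⁻¹ * (a : G) * u * ((b : G)⁻¹ * (a : G))⁻¹ = v
    have hb' : (b : G) * v * (b : G)⁻¹ = (a : G) * u * (a : G)⁻¹ := hb
    calc _ = (b : G)⁻¹ * ((a : G) * u * (a : G)⁻¹) * (b : G) := by group
      _ = v := by rw [← hb']; group
  have := Set.ncard_le_ncard (Set.union_subset (Set.union_subset (hsub x hxA) (hsub u huA)) (hsub v hvA))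
    (Set.toFinite _)
  rw [Set.ncard_union_eq hdis' (Set.toFinite _) (Set.toFinite _),
    Set.ncard_union_eq (hdis u huA hum) (Set.toFinite _) (Set.toFinite _), hA8, ← hk, hunm u huA hum,
    hunm v hvA hvm, hk2] at this
  omega

end Cfsg.Lib.M23Nse
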