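import Cfsg.Agent.M23Nse.Normalizer
import Cfsg.Agent.Presentations.Carmichael
import Mathlib.GroupTheory.SpecificGroups.Alternating.Simple

/-!
The normalizer of a core splits over the core.
-/

set_option autoImplicit false
set_option linter.unusedSectionVars false
set_option linter.style.haveILetI false
set_option maxRecDepth 100000

namespace Cfsg.Lib.M23Nse

open Subgroup Equiv Cfsg.Lib.SameOrder Cfsg.Lib.Small Cfsg.Lib.MathieuEleven
open Cfsg.Lib.Presentations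

universe u

/-- the alternating group of degree seven -/
abbrev A7 := alternatingGroup (Fin 7)

/-- the first Carmichael generator -/
def k0 : A7 := ⟨swap 0 1 * swap 1 2, Perm.mem_alternatingGroup.2 (by decide +kernel)⟩
/-- the second Carmichael generator -/
def k1 : A7 := ⟨swap 0 1 * swap 2 3, Perm.mem_alternatingGroup.2 (by decide +kernel)⟩
/-- the third Carmichael generator -/
def k2 : A7 := ⟨swap 0 1 * swap 3 4, Perm.mem_alternatingGroup.2 (by decide +kernel)⟩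
/-- the fourth Carmichael generator -/
def k3 : A7 := ⟨swap 0 1 * swap 4 5, Perm.mem_alternatingGroup.2 (by decide +kernel)⟩
/-- the fifth Carmichael generator -/
def k4 : A7 := ⟨swap 0 1 * swap 5 6, Perm.mem_alternatingGroup.2 (by decide +kernel)⟩
/-- a three-cycle disjoint from the first generator -/
def kc : A7 := ⟨swap 4 5 * swap 5 6, Perm.mem_alternatingGroup.2 (by decide +kernel)⟩

theorem k_facts : k0 * k0 * k0 = 1 ∧ kc * kc * kc = 1 ∧ k0 ≠ 1 ∧ kc ≠ 1 ∧ kc * k0 = k0 * kc ∧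
    (k1 * k1 = 1 ∧ k2 * k2 = 1 ∧ k3 * k3 = 1 ∧ k4 * k4 = 1) ∧
    (k2 * k0 * k2⁻¹ = k0⁻¹ ∧ k3 * k0 * k3⁻¹ = k0⁻¹ ∧ k4 * k0 * k4⁻¹ = k0⁻¹) ∧
    (k1 * kc * k1⁻¹ = kc ∧ k3 * kc * k3⁻¹ = kc⁻¹ ∧ k4 * kc * k4⁻¹ = kc⁻¹) ∧
    k1 ≠ 1 ∧ k1 * k0 ≠ k0 * k1 := by decide +kernel

theorem k_rels : (k0 * k1) * (k0 * k1) * (k0 * k1) = 1 ∧ (k1 * k2) * (k1 * k2) * (k1 * k2) = 1 ∧ k1 * k2 ≠ 1 ∧
    (k2 * k3) * (k2 * k3) * (k2 * k3) = 1 ∧ (k3 * k4) * (k3 * k4) * (k3 * k4) = 1 ∧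
    (k0 * k2 * (k0 * k2) = 1 ∧ k0 * k3 * (k0 * k3) = 1 ∧ k0 * k4 * (k0 * k4) = 1) ∧
    (k1 * k3 * (k1 * k3) = 1 ∧ k1 * k4 * (k1 * k4) = 1 ∧ k2 * k4 * (k2 * k4) = 1) ∧
    k4 * (k1 * k2) = k1 * k2 * k4 ∧ k4 * kc * k4⁻¹ = kc⁻¹ ∧ k2 * k0 ≠ k0 * k2 := by decide +kernel

/-- an element of order five -/
def kf : A7 := k0 * k1 * k2

/-- an element of order seven -/
def ks : A7 := k0 * k1 * k2 * k3 * k4

theorem k_orders : kf ^ 5 = 1 ∧ kf ≠ 1 ∧ ks ^ 7 = 1 ∧ ks ≠ 1 ∧ (k2 * k4) ≠ 1 ∧ k2 * k4 ≠ k2 ∧ k2 ≠ k4 ∧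
    k2 * k4 = k4 * k2 ∧ k2 ≠ 1 ∧ k4 ≠ 1 := by decide +kernel

theorem card_A7 : Nat.card A7 = 2520 := by
  rw [nat_card_alternatingGroup, Nat.card_fin]; rfl

theorem closure_gens_top : closure ({k0, k1, k2, k3, k4} : Set A7) = ⊤ := by
  set S := closure ({k0, k1, k2, k3, k4} : Set A7)
  haveI := alternatingGroup.isSimpleGroup (α := Fin 7) (by simp)
  have hmem : k0 ∈ S ∧ k1 ∈ S ∧ k2 ∈ S ∧ k3 ∈ S ∧ k4 ∈ S := by
    refine ⟨?_, ?_, ?_, ?_, ?_⟩ <;> exact subset_closure (by simp)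
  obtain ⟨hf, hf1, hs, hs1, h24, h242, h24', hc24, h21, h41⟩ := k_orders
  have d5 : 5 ∣ Nat.card ↥S := by
    haveI : Fact (Nat.Prime 5) := ⟨Nat.prime_five⟩
    have := Subgroup.orderOf_dvd_natCard S (mul_mem (mul_mem hmem.1 hmem.2.1) hmem.2.2.1)
    rwa [show orderOf (k0 * k1 * k2) = 5 from orderOf_eq_prime hf hf1] at this
  have d7 : 7 ∣ Nat.card ↥S := by
    haveI : Fact (Nat.Prime 7) := ⟨by norm_num⟩
    have := Subgroup.orderOf_dvd_natCard S
      (mul_mem (mul_mem (mul_mem (mul_mem hmem.1 hmem.2.1) hmem.2.2.1) hmem.2.2.2.1) hmem.2.2.2.2)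
    rwa [show orderOf (k0 * k1 * k2 * k3 * k4) = 7 from orderOf_eq_prime hs hs1] at this
  have d3 : 3 ∣ Nat.card ↥S := by
    haveI : Fact (Nat.Prime 3) := ⟨Nat.prime_three⟩
    have := Subgroup.orderOf_dvd_natCard S hmem.1
    rwa [orderOf_eq_prime (show k0 ^ 3 = 1 by simpa [pow_succ] using k_facts.1) k_facts.2.2.1] at this
  have d4 : 4 ∣ Nat.card ↥S := by
    obtain ⟨-, h22, -, h44⟩ := k_facts.2.2.2.2.2.1
    let V : Subgroup A7 :=
      { carrier := {1, k2, k4, k2 * k4}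
        one_mem' := by simp
        mul_mem' := by
          rintro x y (rfl | rfl | rfl | rfl) (rfl | rfl | rfl | rfl) <;>
            simp only [Set.mem_insert_iff, Set.mem_singleton_iff] <;> decide +kernel
        inv_mem' := by
          rintro x (rfl | rfl | rfl | rfl) <;>
            simp only [Set.mem_insert_iff, Set.mem_singleton_iff] <;> decide +kernel }
    have hV : Nat.card ↥V = 4 := by
      change Nat.card ↥({1, k2, k4, k2 * k4} : Set A7) = 4
      rw [Nat.card_coe_set_eq, Set.ncard_insert_of_notMem (by simp [Ne.symm h21, Ne.symm h41, Ne.symm h24]),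
        Set.ncard_eq_three.2 ⟨k2, k4, k2 * k4, h24', Ne.symm h242, fun e => h21 (mul_eq_right.1 e.symm), rfl⟩]
    rw [← hV]
    refine Subgroup.card_dvd_of_le ?_
    rintro x (rfl | rfl | rfl | rfl)
    exacts [one_mem _, hmem.2.2.1, hmem.2.2.2.2, mul_mem hmem.2.2.1 hmem.2.2.2.2]
  have d : 420 ∣ Nat.card ↥S := by
    have h1 : 3 * 4 ∣ Nat.card ↥S := Nat.Coprime.mul_dvd_of_dvd_of_dvd (by norm_num) d3 d4
    have h2 : 5 * 7 ∣ Nat.card ↥S := Nat.Coprime.mul_dvd_of_dvd_of_dvd (by norm_num) d5 d7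
    exact Nat.Coprime.mul_dvd_of_dvd_of_dvd (by norm_num : Nat.Coprime 12 35) h1 h2
  have hidx : S.index ≤ 6 := by
    have := S.card_mul_index
    rw [card_A7] at this
    have h420 := Nat.le_of_dvd Nat.card_pos d
    by_contra! h7
    have := Nat.mul_le_mul h420 h7
    omega
  by_contra hne
  rcases IsSimpleGroup.eq_bot_or_eq_top_of_normal S.normalCore inferInstance with h | h
  · haveI : S.FiniteIndex := inferInstance
    have hinj : Function.Injective (MulAction.toPermHom A7 (A7 ⧸ S)) := by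
      rw [← MonoidHom.ker_eq_bot_iff, ← Subgroup.normalCore_eq_ker, h]
    have := Nat.card_le_card_of_injective _ hinj
    rw [card_A7, Nat.card_perm, ← Subgroup.index_eq_card] at this
    have := this.trans (Nat.factorial_le hidx)
    norm_num [Nat.factorial] at this
  · exact hne (eq_top_iff.2 (h ▸ Subgroup.normalCore_le S))

variable {G : Type u} [Group G] [Finite G]

local instance fact_two_cp : Fact (Nat.Prime 2) := ⟨Nat.prime_two⟩
local instance fact_three_cp : Fact (Nat.Prime 3) := ⟨Nat.prime_three⟩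

/-- a map of the normalizer onto the alternating group with kernel the core -/
structure Quo (t : G) (π : ↥(NE t) →* A7) : Prop where
  surj : Function.Surjective π
  ker : π.ker = CE t

variable (H : Fields G)
include H

theorem exists_quo {t : G} (ht : orderOf t = 2) : ∃ π : ↥(NE t) →* A7, Quo t π := by
  obtain ⟨φ⟩ := quot_equiv H ht
  refine ⟨φ.toMonoidHom.comp (QuotientGroup.mk' (CE t)), φ.surjective.comp (QuotientGroup.mk'_surjective _), ?_⟩
  ext n
  simp [MonoidHom.mem_ker]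

variable {t : G} {π : ↥(NE t) →* A7}

theorem Quo.mem_core (Q : Quo t π) {v : ↥(NE t)} (h : π v = 1) : (v : G) ∈ core t := by
  have := MonoidHom.mem_ker.2 h
  rw [Q.ker] at this
  exact mem_subgroupOf.1 this

theorem Quo.sq_ker (Q : Quo t π) (ht : orderOf t = 2) {v : ↥(NE t)} (h : π v = 1) : v * v = 1 :=
  Subtype.ext (core_sq H ht _ (Q.mem_core H h))

/-- two elements of order three with one image are conjugate under the kernel -/
theorem Quo.adjust (Q : Quo t π) (ht : orderOf t = 2) {x x' : ↥(NE t)} (hx : x * x * x = 1)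
    (hx' : x' * x' * x' = 1) (h : π x' = π x) : ∃ v, π v = 1 ∧ v * x' * v⁻¹ = x := by
  set e := x⁻¹ * x' with he
  have he1 : π e = 1 := by simp [he, h]
  refine ⟨x⁻¹ * e * x, by simp [he1], ?_⟩
  have hk : ∀ w : ↥(NE t), π w = 1 → w⁻¹ = w := fun w hw => inv_eq_of_mul_eq_one_left (Q.sq_ker H ht hw)
  have hc : ∀ w w' : ↥(NE t), π w = 1 → π w' = 1 → w * w' = w' * w := fun w w' h1 h2 =>
    Subtype.ext (core_comm H ht (Q.mem_core H h1) (Q.mem_core H h2))
  have hxe : x' = x * e := by rw [he, mul_inv_cancel_left]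
  have hx2 : x * x = x⁻¹ := eq_inv_of_mul_eq_one_left hx
  have h3 : (x * e * x⁻¹) * (x⁻¹ * e * x) * e = 1 := by
    have h' := hx'
    rw [hxe] at h'
    calc (x * e * x⁻¹) * (x⁻¹ * e * x) * e = x * e * (x⁻¹ * x⁻¹) * e * x * e := by group
      _ = x * e * x * e * x * e := by rw [← mul_inv_rev, hx2, inv_inv]
      _ = x * e * (x * e) * (x * e) := by group
      _ = 1 := h'
  rw [hxe, show x⁻¹ * e * x * (x * e) * (x⁻¹ * e * x)⁻¹ = x⁻¹ * e * (x * x) * e * (x⁻¹ * e * x)⁻¹ by group, hx2,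
    hk _ (show π (x⁻¹ * e * x) = 1 by simp [he1])]
  have h4 : e * (x⁻¹ * e * x) = x * e * x⁻¹ := by
    rw [hc _ _ he1 (by simp [he1]), ← hk (x * e * x⁻¹) (by simp [he1]), eq_inv_iff_mul_eq_one,
      hc _ _ (by simp [he1]) (by simp [he1]), ← mul_assoc, h3]
  calc x⁻¹ * e * x⁻¹ * e * (x⁻¹ * e * x) = x⁻¹ * e * x⁻¹ * (e * (x⁻¹ * e * x)) := by group
    _ = x⁻¹ * e * (x⁻¹ * x) * e * x⁻¹ := by rw [h4]; group
    _ = x⁻¹ * (e * e) * x⁻¹ := by group
    _ = x := by rw [Q.sq_ker H ht he1, mul_one, ← mul_inv_rev, hx2, inv_inv]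

/-- an element of order three whose image commutes with an involution has no fixed points on the core -/
theorem Quo.fpf (Q : Quo t π) (ht : orderOf t = 2) {x : ↥(NE t)} (hx : x * x * x = 1) (hx1 : π x ≠ 1)
    {σ : A7} (hσ : σ * σ = 1) (hσ1 : σ ≠ 1) (hc : σ * π x = π x * σ) {v : ↥(NE t)} (hv : π v = 1)
    (hvx : v * x = x * v) : v = 1 := by
  classical
  by_contra hv1
  have hvo : orderOf (v : G) = 2 := core_order H ht (Q.mem_core H hv) (fun e => hv1 (Subtype.ext e))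
  have hxo : orderOf (x : G) = 3 := by
    refine orderOf_eq_prime (p := 3) ?_ fun e => hx1 ?_
    · simpa [pow_succ] using congrArg Subtype.val hx
    · rw [show x = 1 from Subtype.ext e, map_one]
  have hvxG : (v : G) * (x : G) = x * v := congrArg Subtype.val hvx
  have h4 := (core_four H hvo hxo hvxG).1
  rw [core_stable H ht (Q.mem_core H hv) (fun e => hv1 (Subtype.ext e))] at h4
  set C := centralizer ({x} : Set ↥(NE t))
  set f : ↥C →* A7 := π.comp C.subtype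
  have hker : 4 ≤ Nat.card ↥f.ker := by
    rw [← h4]
    refine Nat.card_le_card_of_injective
      (fun u : ↥(core t ⊓ centralizer ({(x : G)} : Set G) : Subgroup G) =>
        (⟨⟨⟨u.1, le_normalizer u.2.1⟩, mem_centralizer_singleton_iff.2 (Subtype.ext
          (mem_centralizer_singleton_iff.1 u.2.2))⟩, by
            rw [MonoidHom.mem_ker]
            show π ⟨u.1, le_normalizer u.2.1⟩ = 1
            exact MonoidHom.mem_ker.1 (Q.ker.ge (mem_subgroupOf.2 u.2.1))⟩ : ↥f.ker)) ?_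
    exact fun a b e => Subtype.ext (congrArg (fun w : ↥f.ker => ((w.1.1 : ↥(NE t)) : G)) e)
  have hker4 : Nat.card ↥f.ker = 4 := by
    refine le_antisymm ?_ hker
    rw [← h4]
    refine Nat.card_le_card_of_injective
      (fun w : ↥f.ker => (⟨((w.1.1 : ↥(NE t)) : G), mem_inf.2 ⟨Q.mem_core H (MonoidHom.mem_ker.1 w.2),
        mem_centralizer_singleton_iff.2 (congrArg Subtype.val (mem_centralizer_singleton_iff.1 w.1.2))⟩⟩ :
          ↥(core t ⊓ centralizer ({(x : G)} : Set G) : Subgroup G))) ?_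
    exact fun a b e => Subtype.ext (Subtype.ext (Subtype.ext (Subtype.mk.inj e)))
  have hsr : σ ∈ f.range := by
    obtain ⟨g, hg⟩ := Q.surj σ
    obtain ⟨w, hw, hwx⟩ := Q.adjust H ht (x := x) (x' := g * x * g⁻¹) hx
      (by rw [show g * x * g⁻¹ * (g * x * g⁻¹) * (g * x * g⁻¹) = g * (x * x * x) * g⁻¹ by group, hx]; group)
      (by simp [hg, hc])
    refine ⟨⟨w * g, mem_centralizer_singleton_iff.2 (mul_inv_eq_iff_eq_mul.1 ?_)⟩, by simp [f, hg, hw]⟩
    calc w * g * x * (w * g)⁻¹ = w * (g * x * g⁻¹) * w⁻¹ := by group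
      _ = x := hwx
  have h2 : 2 ∣ Nat.card ↥f.range :=
    (orderOf_eq_prime (p := 2) (by rw [pow_two]; exact hσ) hσ1) ▸ Subgroup.orderOf_dvd_natCard _ hsr
  have hcard : Nat.card ↥C ∣ 180 := by
    rw [← cent_three H hxo, ← Subgroup.card_map_of_injective (NE t).subtype_injective]
    refine Subgroup.card_dvd_of_le ?_
    rintro _ ⟨g, hg, rfl⟩
    exact mem_centralizer_singleton_iff.2 (congrArg Subtype.val (mem_centralizer_singleton_iff.1 hg))
  have h8 : 4 * 2 ∣ Nat.card ↥C := by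
    rw [← Subgroup.card_mul_index f.ker, hker4, Subgroup.index_ker]
    exact Nat.mul_dvd_mul_left 4 h2
  have := h8.trans hcard
  norm_num at this

/-- the normalizer of the group of an element of order three, with fixed-point-free action -/
structure Quo.Good (t : G) (π : ↥(NE t) →* A7) (x : ↥(NE t)) : Prop where
  cube : x * x * x = 1
  ne : π x ≠ 1
  fpf : ∀ v, π v = 1 → v * x = x * v → v = 1

theorem Quo.Good.inj (Q : Quo t π) (ht : orderOf t = 2) {x : ↥(NE t)} (hg : Quo.Good t π x) {n n' : ↥(NE t)}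
    (hn : n ∈ normalizer (zpowers x : Set ↥(NE t))) (hn' : n' ∈ normalizer (zpowers x : Set ↥(NE t)))
    (h : π n = π n') : n = n' := by
  set v := n'⁻¹ * n with hv
  have hv1 : π v = 1 := by simp [hv, h]
  have hvN : v ∈ normalizer (zpowers x : Set ↥(NE t)) := mul_mem (inv_mem hn') hn
  refine mul_left_cancel (a := n'⁻¹) ((hg.fpf v hv1 ?_).trans (inv_mul_cancel n').symm)
  obtain ⟨k, hk⟩ := mem_zpowers_iff.1 ((mem_normalizer_iff.1 hvN x).1 (mem_zpowers x))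
  set w := v * x * v⁻¹ * x⁻¹ with hw
  have hw1 : π w = 1 := by simp [hw, hv1]
  have hwx : w = x ^ (k - 1) := by rw [hw, ← hk, zpow_sub_one]
  have h2 := Q.sq_ker H ht hw1
  have h3 : w * w * w = 1 := by
    rw [hwx, ← zpow_add, ← zpow_add, show k - 1 + (k - 1) + (k - 1) = 3 * (k - 1) by ring, zpow_mul]
    rw [show x ^ (3 : ℤ) = 1 by rw [show (3 : ℤ) = ((3 : ℕ) : ℤ) from rfl, zpow_natCast]; simpa [pow_succ] using hg.cube,
      one_zpow]
  rw [h2, one_mul] at h3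
  rw [h3] at hw
  exact mul_inv_eq_iff_eq_mul.1 (mul_inv_eq_one.1 hw.symm)

theorem Quo.Good.lift (Q : Quo t π) (ht : orderOf t = 2) {x : ↥(NE t)} (hg : Quo.Good t π x) {σ : A7}
    (h : σ * π x * σ⁻¹ = π x ∨ σ * π x * σ⁻¹ = (π x)⁻¹) :
    ∃ n ∈ normalizer (zpowers x : Set ↥(NE t)), π n = σ := by
  obtain ⟨g, hgσ⟩ := Q.surj σ
  obtain ⟨x', hx', hx'c, hx'm⟩ : ∃ x', π x' = σ * π x * σ⁻¹ ∧ x' * x' * x' = 1 ∧ x' ∈ zpowers x := by
    rcases h with h | h
    · exact ⟨x, h.symm, hg.cube, mem_zpowers x⟩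
    · refine ⟨x⁻¹, by rw [map_inv, h], ?_, inv_mem (mem_zpowers x)⟩
      rw [← mul_inv_rev, ← mul_inv_rev, mul_assoc] at *
      rw [inv_eq_one, ← mul_assoc, hg.cube]
  obtain ⟨w, hw, hwx⟩ := Q.adjust H ht (x := x') (x' := g * x * g⁻¹) hx'c
    (by rw [show g * x * g⁻¹ * (g * x * g⁻¹) * (g * x * g⁻¹) = g * (x * x * x) * g⁻¹ by group, hg.cube]; group)
    (by simp [hgσ, hx'])
  refine ⟨w * g, mem_normalizer_of_conj _ fun u hu => ?_, by simp [hgσ, hw]⟩
  obtain ⟨k, rfl⟩ := mem_zpowers_iff.1 hu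
  rw [← conj_zpow, show w * g * x * (w * g)⁻¹ = w * (g * x * g⁻¹) * w⁻¹ by group, hwx]
  exact zpow_mem hx'm k

theorem Quo.exists_good (Q : Quo t π) (ht : orderOf t = 2) {k σ : A7} (hk : k * k * k = 1) (hk1 : k ≠ 1)
    (hσ : σ * σ = 1) (hσ1 : σ ≠ 1) (hc : σ * k = k * σ) (g : ↥(NE t)) (hg : π g = k) :
    ∃ x, Quo.Good t π x ∧ π x = k ∧ x = g * g * g * g := by
  have h3 : π (g * g * g) = 1 := by simp [hg, hk]
  have h6 := Q.sq_ker H ht h3
  have hx : (g * g * g * g) * (g * g * g * g) * (g * g * g * g) = 1 := by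
    calc _ = (g * g * g * (g * g * g)) * ((g * g * g) * (g * g * g)) := by group
      _ = 1 := by rw [h6, mul_one]
  have hπ : π (g * g * g * g) = k := by simp [hg, hk]
  exact ⟨_, ⟨hx, hπ ▸ hk1, fun v hv hvx => Q.fpf H ht hx (hπ ▸ hk1) hσ hσ1 (by rw [hπ]; exact hc) hv hvx⟩, hπ, rfl⟩

/-- the normalizer of a core has a section -/
theorem Quo.exists_section (Q : Quo t π) (ht : orderOf t = 2) : ∃ s : A7 →* ↥(NE t), ∀ σ, π (s σ) = σ := by
  classical
  obtain ⟨f0, fc, h01, hc1, hcomm, ⟨s1, s2, s3, s4⟩, ⟨i2, i3, i4⟩, ⟨j1, j3, j4⟩, h11, -⟩ := k_facts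
  obtain ⟨r01, r12, h12, r23, r34, ⟨r02, r03, r04⟩, ⟨r13, r14, r24⟩, hcom12, -, -⟩ := k_rels
  obtain ⟨g, hg⟩ := Q.surj k0
  obtain ⟨σ0, hσ0a, hσ0b, hσ0c⟩ : ∃ σ : A7, σ * σ = 1 ∧ σ ≠ 1 ∧ σ * k0 = k0 * σ :=
    ⟨⟨swap 3 4 * swap 5 6, Perm.mem_alternatingGroup.2 (by decide +kernel)⟩, by decide +kernel, by decide +kernel,
      by decide +kernel⟩
  obtain ⟨σc, hσca, hσcb, hσcc⟩ : ∃ σ : A7, σ * σ = 1 ∧ σ ≠ 1 ∧ σ * kc = kc * σ :=
    ⟨k1, s1, h11, mul_inv_eq_iff_eq_mul.1 j1⟩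
  obtain ⟨a, hA, ha, -⟩ := Q.exists_good H ht f0 h01 hσ0a hσ0b hσ0c g hg
  obtain ⟨c, hcN, hc⟩ := hA.lift H Q ht (σ := kc) (Or.inl (by rw [ha, hcomm, mul_inv_cancel_right]))
  have hcc : c * c * c = 1 := hA.inj H Q ht (mul_mem (mul_mem hcN hcN) hcN) (one_mem _) (by simp [hc, fc])
  have hC : Quo.Good t π c :=
    ⟨hcc, hc ▸ hc1, fun v hv hvc => Q.fpf H ht hcc (hc ▸ hc1) hσca hσcb (by rw [hc]; exact hσcc) hv hvc⟩
  have haN : a ∈ normalizer (zpowers a : Set ↥(NE t)) := le_normalizer (mem_zpowers a)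
  obtain ⟨n2, hn2, e2⟩ := hA.lift H Q ht (σ := k2) (Or.inr (by rw [ha, i2]))
  obtain ⟨n3, hn3, e3⟩ := hA.lift H Q ht (σ := k3) (Or.inr (by rw [ha, i3]))
  obtain ⟨n4, hn4, e4⟩ := hA.lift H Q ht (σ := k4) (Or.inr (by rw [ha, i4]))
  obtain ⟨n1, hn1, e1⟩ := hC.lift H Q ht (σ := k1) (Or.inl (by rw [hc, j1]))
  have hac : a * c = c * a := hA.inj H Q ht (mul_mem haN hcN) (mul_mem hcN haN) (by simp [ha, hc, hcomm])
  have hinC : ∀ n ∈ normalizer (zpowers a : Set ↥(NE t)),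
      (π n * kc * (π n)⁻¹ = kc ∨ π n * kc * (π n)⁻¹ = kc⁻¹) → n ∈ normalizer (zpowers c : Set ↥(NE t)) := by
    intro n hn h
    refine mem_normalizer_of_conj _ fun u hu => ?_
    obtain ⟨k, rfl⟩ := mem_zpowers_iff.1 hu
    rw [← conj_zpow]
    rcases h with h | h
    · rw [hA.inj H Q ht (n' := c) (mul_mem (mul_mem hn hcN) (inv_mem hn)) hcN (by simp [hc, h])]
      exact zpow_mem (mem_zpowers c) k
    · rw [hA.inj H Q ht (n' := c⁻¹) (mul_mem (mul_mem hn hcN) (inv_mem hn)) (inv_mem hcN) (by simp [hc, h])]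
      exact zpow_mem (inv_mem (mem_zpowers c)) k
  have haC := hinC a haN (Or.inl (by rw [ha, ← hcomm, mul_inv_cancel_right]))
  have hn3C := hinC n3 hn3 (Or.inr (by rw [e3, j3]))
  have hn4C := hinC n4 hn4 (Or.inr (by rw [e4, j4]))
  obtain ⟨y, hy3⟩ : ∃ y : ↥(NE t), n1 * n2 * (n1 * n2) * (n1 * n2) = y ∧ y = 1 := by
    refine ⟨_, rfl, ?_⟩
    obtain ⟨x, hX, -, hxe⟩ := Q.exists_good H ht r12 h12 s4 k_orders.2.2.2.2.2.2.2.2.2 hcom12 (n1 * n2)
      (by rw [map_mul, e1, e2])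
    refine hX.fpf _ (by simp [e1, e2, r12]) ?_
    rw [hxe]; group
  let gs : ℕ → ↥(NE t) := fun i => match i with
    | 0 => a | 1 => n1 | 2 => n2 | 3 => n3 | 4 => n4 | _ => 1
  have hrel : Carmichael.Rel gs 5 := by
    refine ⟨fun _ => by simpa [gs, pow_succ] using hA.cube, fun i h1 h2 => ?_, fun i h1 => ?_, fun i j h1 h2 => ?_⟩
    · interval_cases i
      · exact hC.inj H Q ht (mul_mem hn1 hn1) (one_mem _) (by simp [gs, e1, s1])
      · exact hA.inj H Q ht (mul_mem hn2 hn2) (one_mem _) (by simp [gs, e2, s2])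
      · exact hA.inj H Q ht (mul_mem hn3 hn3) (one_mem _) (by simp [gs, e3, s3])
      · exact hA.inj H Q ht (mul_mem hn4 hn4) (one_mem _) (by simp [gs, e4, s4])
    · have hi : i ≤ 3 := by omega
      interval_cases i <;> show (_ : ↥(NE t)) ^ 3 = 1 <;> rw [pow_succ, pow_two]
      · exact hC.inj H Q ht (mul_mem (mul_mem (mul_mem haC hn1) (mul_mem haC hn1)) (mul_mem haC hn1)) (one_mem _)
          (by simp [gs, ha, e1]; simpa [mul_assoc] using r01)
      · exact hy3.1.trans hy3.2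
      · exact hA.inj H Q ht (mul_mem (mul_mem (mul_mem hn2 hn3) (mul_mem hn2 hn3)) (mul_mem hn2 hn3)) (one_mem _)
          (by simp [gs, e2, e3]; simpa [mul_assoc] using r23)
      · exact hA.inj H Q ht (mul_mem (mul_mem (mul_mem hn3 hn4) (mul_mem hn3 hn4)) (mul_mem hn3 hn4)) (one_mem _)
          (by simp [gs, e3, e4]; simpa [mul_assoc] using r34)
    · have hi : i ≤ 2 := by omega
      interval_cases i <;> interval_cases j
      · exact hA.inj H Q ht (mul_mem (mul_mem haN hn2) (mul_mem haN hn2)) (one_mem _) (by simp [gs, ha, e2]; simpa [mul_assoc] using r02)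
      · exact hA.inj H Q ht (mul_mem (mul_mem haN hn3) (mul_mem haN hn3)) (one_mem _) (by simp [gs, ha, e3]; simpa [mul_assoc] using r03)
      · exact hA.inj H Q ht (mul_mem (mul_mem haN hn4) (mul_mem haN hn4)) (one_mem _) (by simp [gs, ha, e4]; simpa [mul_assoc] using r04)
      · exact hC.inj H Q ht (mul_mem (mul_mem hn1 hn3C) (mul_mem hn1 hn3C)) (one_mem _) (by simp [gs, e1, e3]; simpa [mul_assoc] using r13)
      · exact hC.inj H Q ht (mul_mem (mul_mem hn1 hn4C) (mul_mem hn1 hn4C)) (one_mem _) (by simp [gs, e1, e4]; simpa [mul_assoc] using r14)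
      · exact hA.inj H Q ht (mul_mem (mul_mem hn2 hn4) (mul_mem hn2 hn4)) (one_mem _) (by simp [gs, e2, e4]; simpa [mul_assoc] using r24)
  obtain ⟨-, hcard⟩ := Carmichael.finite_and_card_le gs 5 hrel
  set K := Subgroup.closure (gs '' Set.Iio 5)
  set f : ↥K →* A7 := π.comp K.subtype
  have hsurj : Function.Surjective f := by
    rw [← MonoidHom.range_eq_top, eq_top_iff, ← closure_gens_top, Subgroup.closure_le]
    have hm : ∀ i < 5, π (gs i) ∈ f.range := fun i hi => ⟨⟨gs i, Subgroup.subset_closure ⟨i, hi, rfl⟩⟩, rfl⟩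
    rintro z (rfl | rfl | rfl | rfl | rfl)
    exacts [ha ▸ hm 0 (by norm_num), e1 ▸ hm 1 (by norm_num), e2 ▸ hm 2 (by norm_num), e3 ▸ hm 3 (by norm_num),
      e4 ▸ hm 4 (by norm_num)]
  have hbij : Function.Bijective f := hsurj.bijective_of_nat_card_le (by
    rw [card_A7]; simp [Nat.factorial] at hcard; omega)
  refine ⟨K.subtype.comp (MulEquiv.ofBijective f hbij).symm.toMonoidHom, fun σ => ?_⟩
  exact (MulEquiv.ofBijective f hbij).apply_symm_apply σ

end Cfsg.Lib.M23Nse
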