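import Cfsg.Agent.M23Nse.Two

/-!
The core of order sixteen of an involution centraliser does not depend on the involution chosen in it.
-/

set_option autoImplicit false
set_option linter.unusedSectionVars false
set_option linter.style.haveILetI false

namespace Cfsg.Lib.M23Nse

open Subgroup Cfsg.Lib.SameOrder Cfsg.Lib.Small Cfsg.Lib.MathieuEleven

universe u

variable {G : Type u} [Group G] [Finite G]

local instance fact_two_co : Fact (Nat.Prime 2) := ⟨Nat.prime_two⟩
local instance fact_three_co : Fact (Nat.Prime 3) := ⟨Nat.prime_three⟩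
local instance fact_seven_co : Fact (Nat.Prime 7) := ⟨by norm_num⟩

/-- a normal subgroup of order sixteen of the centraliser of an element, containing it -/
def IsCore (t : G) (E : Subgroup G) : Prop :=
  E ≤ centralizer ({t} : Set G) ∧ t ∈ E ∧ Nat.card ↥E = 16 ∧ ∀ g : G, g * t = t * g → ∀ u ∈ E, g * u * g⁻¹ ∈ E

/-- the core of order sixteen of a centraliser -/
noncomputable def core (t : G) : Subgroup G := Classical.epsilon (IsCore t)

theorem three_cycle : ∀ a b : A5, a * a = 1 → b * b = 1 → a * b = b * a → a ≠ 1 → b ≠ 1 → a ≠ b →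
    ∃ g : A5, g * g * g = 1 ∧ g * a * g⁻¹ = b ∧ g * b * g⁻¹ = a * b := by decide +kernel

theorem even_card_of_involution {α : Type*} [DecidableEq α] (s : Finset α) (f : α → α)
    (hs : ∀ a ∈ s, f a ∈ s) (h2 : ∀ a ∈ s, f (f a) = a) (hne : ∀ a ∈ s, f a ≠ a) : Even s.card := by
  have h0 : ∑ _a ∈ s, (1 : ZMod 2) = 0 :=
    Finset.sum_involution (fun a _ => f a) (fun a _ => by decide) (fun a ha _ => hne a ha) hs h2
  rw [Finset.sum_const, nsmul_one, ZMod.natCast_eq_zero_iff_even] at h0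
  exact h0

variable (H : Fields G)
include H

theorem isCore {t : G} (ht : orderOf t = 2) : IsCore t (core t) := by
  exact Classical.epsilon_spec (exists_core H ht)

theorem core_unique {t : G} (ht : orderOf t = 2) {E : Subgroup G} (hE : IsCore t E) : E = core t := by
  obtain ⟨hC, htE, hc, hn⟩ := hE
  obtain ⟨hC', -, hc', hn'⟩ := isCore H ht
  have hp : IsPGroup 2 ↥(E ⊔ core t) :=
    IsPGroup.to_sup_of_normal_right' (IsPGroup.of_card (n := 4) (by rw [hc]; norm_num))
      (IsPGroup.of_card (n := 4) (by rw [hc']; norm_num))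
      fun g hg => mem_normalizer_of_conj _ (hn' g (mem_centralizer_singleton_iff.1 (hC hg)))
  have hle : E ⊔ core t ≤ centralizer ({t} : Set G) := sup_le hC hC'
  have hns : ∀ g : G, g * t = t * g → ∀ u ∈ E ⊔ core t, g * u * g⁻¹ ∈ E ⊔ core t := fun g hg u hu => by
    have hm : (E ⊔ core t).map (MulAut.conj g).toMonoidHom ≤ E ⊔ core t := by
      rw [Subgroup.map_sup]
      refine sup_le ?_ ?_
      · rintro _ ⟨v, hv, rfl⟩; exact mem_sup_left (hn g hg v hv)
      · rintro _ ⟨v, hv, rfl⟩; exact mem_sup_right (hn' g hg v hv)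
    exact hm ⟨u, hu, rfl⟩
  have hE16 : 16 ≤ Nat.card ↥(E ⊔ core t) := hc ▸ Subgroup.card_le_of_le le_sup_left
  have h16 : Nat.card ↥(E ⊔ core t) = 16 :=
    (normal_two H ht _ hp hle (mem_sup_left htE) hns).resolve_left (by omega)
  rw [Subgroup.eq_of_le_of_card_ge (le_sup_left : E ≤ E ⊔ core t) (by omega)]
  exact (Subgroup.eq_of_le_of_card_ge (le_sup_right : core t ≤ E ⊔ core t) (by omega)).symm

theorem core_conj {t : G} (ht : orderOf t = 2) (g : G) :
    core (g * t * g⁻¹) = (core t).map (MulAut.conj g).toMonoidHom := by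
  obtain ⟨hC, htE, hc, hn⟩ := isCore H ht
  symm
  refine core_unique H (by rw [← MulAut.conj_apply, MulEquiv.orderOf_eq, ht]) ⟨?_, ⟨t, htE, rfl⟩, ?_, ?_⟩
  · rintro _ ⟨u, hu, rfl⟩
    refine mem_centralizer_singleton_iff.2 ?_
    have := mem_centralizer_singleton_iff.1 (hC hu)
    show g * u * g⁻¹ * (g * t * g⁻¹) = g * t * g⁻¹ * (g * u * g⁻¹)
    rw [show g * u * g⁻¹ * (g * t * g⁻¹) = g * (u * t) * g⁻¹ by group, this]; group
  · rw [Subgroup.card_map_of_injective (MulAut.conj g).injective, hc]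
  · rintro h hh _ ⟨u, hu, rfl⟩
    refine ⟨g⁻¹ * h * g * u * (g⁻¹ * h * g)⁻¹, hn _ ?_ u hu, ?_⟩
    · calc g⁻¹ * h * g * t = g⁻¹ * (h * (g * t * g⁻¹)) * g := by group
        _ = g⁻¹ * ((g * t * g⁻¹) * h) * g := by rw [hh]
        _ = _ := by group
    · show g * (g⁻¹ * h * g * u * (g⁻¹ * h * g)⁻¹) * g⁻¹ = h * (g * u * g⁻¹) * h⁻¹
      group

theorem core_sq {t : G} (ht : orderOf t = 2) : ∀ u ∈ core t, u * u = 1 := by
  classical
  obtain ⟨hC, htE, hc, hn⟩ := isCore H ht
  set E := core t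
  obtain ⟨y, hyt, hyo⟩ := exists_in_cent H ht (q := 7) (by norm_num) (by norm_num)
  obtain ⟨x, hxt, hxo⟩ := exists_in_cent H ht (q := 3) Nat.prime_three (by norm_num)
  have := Fintype.ofFinite G
  set I : Finset G := Finset.univ.filter fun u => u ∈ E ∧ u * u = 1
  have hI : (I : Set G) = {u | u ∈ E ∧ u * u = 1} := by ext u; simp [I]
  have hinv : ∀ w : G, w * t = t * w → ∀ a ∈ (I : Set G), w * a * w⁻¹ ∈ (I : Set G) := fun w hw a ha => by
    rw [hI] at ha ⊢
    refine ⟨hn w hw a ha.1, ?_⟩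
    rw [show w * a * w⁻¹ * (w * a * w⁻¹) = w * (a * a) * w⁻¹ by group, ha.2]; group
  have h7 := ncard_conj_mod (p := 7) (x := y) (k := 1) (by rw [pow_one, ← hyo, pow_orderOf_eq_one])
    (s := (I : Set G)) (hinv y hyt)
  have hfix7 : {a ∈ (I : Set G) | y * a = a * y} = {1, t} := by
    ext a
    simp only [Set.mem_ofPred_eq, hI, Set.mem_insert_iff, Set.mem_singleton_iff]
    constructor
    · rintro ⟨⟨-, ha2⟩, hay⟩
      by_contra! h
      have hao : orderOf a = 2 := orderOf_eq_prime (p := 2) (by rw [pow_two]; exact ha2) h.1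
      obtain ⟨b, hb⟩ := (Nat.card_eq_one_iff_exists).1 (cent_seven H hyo).2
      have e1 := hb ⟨a, hao, hay.symm⟩
      have e2 := hb ⟨t, ht, hyt.symm⟩
      exact h.2 (congrArg Subtype.val (e1.trans e2.symm))
    · rintro (rfl | rfl)
      · exact ⟨⟨one_mem _, mul_one 1⟩, by simp⟩
      · exact ⟨⟨htE, by rw [← pow_two, ← ht, pow_orderOf_eq_one]⟩, hyt⟩
  have ht1 : (1 : G) ≠ t := fun e => by rw [← e, orderOf_one] at ht; norm_num at ht
  rw [hfix7, Set.ncard_pair ht1, Set.ncard_coe_finset] at h7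
  have hW4 : 4 ≤ I.card := by
    set W := E ⊓ centralizer ({x} : Set G)
    have hm := fix_mod (p := 3) E hxo (hn x hxt)
    rw [hc] at hm
    have hd12 : Nat.card ↥W ∣ 12 := by
      rw [← card_pair H hxo ht hxt.symm]
      exact Subgroup.card_dvd_of_le fun u hu => mem_inf.2 ⟨hu.2, hC hu.1⟩
    have hd16 : Nat.card ↥W ∣ 16 := hc ▸ Subgroup.card_dvd_of_le inf_le_left
    have h2W : 2 ∣ Nat.card ↥W :=
      ht ▸ Subgroup.orderOf_dvd_natCard W ⟨htE, mem_centralizer_singleton_iff.2 hxt.symm⟩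
    have h4 : Nat.card ↥W = 4 := by
      have : ∀ d ∈ Nat.divisors 12, d ∣ 16 → 2 ∣ d → 16 % 3 = d % 3 → d = 4 := by decide +kernel
      exact this _ (Nat.mem_divisors.2 ⟨hd12, by norm_num⟩) hd16 h2W hm
    rw [← h4, ← Set.ncard_coe_finset, ← Nat.card_coe_set_eq]
    refine Nat.card_le_card_of_injective (fun u : ↥W => (⟨u.1, ?_⟩ : ↥(I : Set G))) fun a b e => Subtype.ext ?_
    · rw [hI]
      exact ⟨u.2.1, sq_one H hxo (mem_centralizer_singleton_iff.1 u.2.2) (k := 4)
        (by rw [show 2 ^ 4 = Nat.card ↥E by rw [hc]; norm_num]; exact Subgroup.orderOf_dvd_natCard E u.2.1)⟩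
    · exact congrArg (fun z : ↥(I : Set G) => (z : G)) e
  have hle : I.card ≤ 16 := by
    rw [← hc, ← Set.ncard_coe_finset, ← Nat.card_coe_set_eq]
    exact Nat.card_le_card_of_injective (fun u : ↥(I : Set G) => (⟨u.1, by
      exact ((Set.ext_iff.1 hI u.1).1 u.2).1⟩ : ↥E)) fun a b e => Subtype.ext (congrArg (fun z : ↥E => (z : G)) e)
  have hev : Even I.card := by
    refine even_card_of_involution I (fun u => t * u) (fun u hu => ?_) (fun u _ => ?_) (fun u _ e => ?_)
    · simp only [I, Finset.mem_filter, Finset.mem_univ, true_and] at hu ⊢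
      refine ⟨mul_mem htE hu.1, ?_⟩
      calc t * u * (t * u) = t * (u * t) * u := by group
        _ = t * (t * u) * u := by rw [mem_centralizer_singleton_iff.1 (hC hu.1)]
        _ = t * t * (u * u) := by group
        _ = 1 := by rw [hu.2, ← pow_two, ← ht, pow_orderOf_eq_one, mul_one]
    · rw [← mul_assoc, ← pow_two, ← ht, pow_orderOf_eq_one, one_mul]
    · exact ht1 (mul_eq_right.1 e).symm
  obtain ⟨m, hm⟩ := hev
  have h16 : I.card = 16 := by omega
  intro u hu
  by_contra hne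
  have hsub : (I : Set G) ⊆ (E : Set G) \ {u} := fun a ha => by
    rw [hI] at ha
    exact ⟨ha.1, fun e => hne (e ▸ ha.2)⟩
  have := Set.ncard_le_ncard hsub (Set.toFinite _)
  rw [Set.ncard_coe_finset, h16, Set.ncard_sdiff_singleton_of_mem hu, ← Nat.card_coe_set_eq] at this
  change 16 ≤ Nat.card ↥E - 1 at this
  omega

theorem core_inv {t : G} (ht : orderOf t = 2) {u : G} (hu : u ∈ core t) : u⁻¹ = u :=
  inv_eq_of_mul_eq_one_left (core_sq H ht u hu)

theorem core_comm {t : G} (ht : orderOf t = 2) {u v : G} (hu : u ∈ core t) (hv : v ∈ core t) : u * v = v * u := by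
  have := core_inv H ht (mul_mem hu hv)
  rwa [mul_inv_rev, core_inv H ht hu, core_inv H ht hv, eq_comm] at this

theorem core_four {t x : G} (ht : orderOf t = 2) (hx : orderOf x = 3) (hc : t * x = x * t) :
    Nat.card ↥(core t ⊓ centralizer ({x} : Set G) : Subgroup G) = 4 ∧
      ∀ v : G, v * x = x * v → v * t = t * v → v * v = 1 → v ∈ core t := by
  obtain ⟨hC, htE, hE, hn⟩ := isCore H ht
  set W := core t ⊓ centralizer ({x} : Set G)
  have hm := fix_mod (p := 3) (core t) hx (hn x hc.symm)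
  rw [hE] at hm
  have hd12 : Nat.card ↥W ∣ 12 := by
    rw [← card_pair H hx ht hc]
    exact Subgroup.card_dvd_of_le fun u hu => mem_inf.2 ⟨hu.2, hC hu.1⟩
  have hd16 : Nat.card ↥W ∣ 16 := hE ▸ Subgroup.card_dvd_of_le inf_le_left
  have h2W : 2 ∣ Nat.card ↥W :=
    ht ▸ Subgroup.orderOf_dvd_natCard W ⟨htE, mem_centralizer_singleton_iff.2 hc⟩
  have h4 : Nat.card ↥W = 4 := by
    have : ∀ d ∈ Nat.divisors 12, d ∣ 16 → 2 ∣ d → 16 % 3 = d % 3 → d = 4 := by decide +kernel
    exact this _ (Nat.mem_divisors.2 ⟨hd12, by norm_num⟩) hd16 h2W hm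
  refine ⟨h4, fun v hvx hvt hv2 => ?_⟩
  classical
  set K := W ⊔ zpowers v
  have hnorm : zpowers v ≤ normalizer (W : Set G) := zpowers_le.2 (mem_normalizer_of_conj _ fun u hu => by
    obtain ⟨hu1, hu2⟩ := mem_inf.1 hu
    refine mem_inf.2 ⟨hn v hvt u hu1, mem_centralizer_singleton_iff.2 ?_⟩
    have h1 : Commute v x := hvx
    exact ((h1.mul_left (show Commute u x from mem_centralizer_singleton_iff.1 hu2)).mul_left h1.inv_left).eq)
  have hKp : IsPGroup 2 ↥K :=
    IsPGroup.to_sup_of_normal_left' (IsPGroup.of_card (n := 2) (by rw [h4]; norm_num))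
      (IsPGroup.of_card (p := 2) (n := if v = 1 then 0 else 1) (by
        rw [Nat.card_zpowers]
        split_ifs with h
        · simp [h]
        · rw [orderOf_eq_prime (p := 2) (by rw [pow_two]; exact hv2) h, pow_one])) hnorm
  obtain ⟨j, hj⟩ := IsPGroup.iff_card.1 hKp
  have hK12 : Nat.card ↥K ∣ 12 := by
    rw [← card_pair H hx ht hc]
    refine Subgroup.card_dvd_of_le (sup_le (fun u hu => mem_inf.2 ⟨hu.2, hC hu.1⟩) (zpowers_le.2 ?_))
    exact mem_inf.2 ⟨mem_centralizer_singleton_iff.2 hvx, mem_centralizer_singleton_iff.2 hvt⟩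
  have hKle : Nat.card ↥K ≤ 4 := by
    rw [hj] at hK12 ⊢
    by_contra! h5
    have h3 : 3 ≤ j := by by_contra! h; interval_cases j <;> norm_num at h5
    have := (pow_dvd_pow 2 h3).trans hK12
    norm_num at this
  have hKW : W = K := Subgroup.eq_of_le_of_card_ge le_sup_left (by omega)
  have : v ∈ W := hKW ▸ mem_sup_right (mem_zpowers v)
  exact this.1

theorem core_cent {t : G} (ht : orderOf t = 2) {g : G} (hg : ∀ u ∈ core t, g * u = u * g) : g ∈ core t := by
  classical
  obtain ⟨hC, htE, hc, hn⟩ := isCore H ht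
  set E := core t
  set K : Subgroup G := centralizer (E : Set G)
  have hKC : K ≤ centralizer ({t} : Set G) := fun k hk =>
    mem_centralizer_singleton_iff.2 (mem_centralizer_iff.1 hk t htE).symm
  have hEK : E ≤ K := fun u hu => mem_centralizer_iff.2 fun v hv => core_comm H ht hv hu
  have hKn : ∀ g : G, g * t = t * g → ∀ k ∈ K, g * k * g⁻¹ ∈ K := fun g hg k hk => by
    refine mem_centralizer_iff.2 fun v hv => ?_
    have hg' : g⁻¹ * t = t * g⁻¹ := (show Commute g t from hg).inv_left.eq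
    have hv' := hn g⁻¹ hg' v hv
    rw [inv_inv] at hv'
    have := mem_centralizer_iff.1 hk _ hv'
    calc v * (g * k * g⁻¹) = g * (g⁻¹ * v * g * k) * g⁻¹ := by group
      _ = g * (k * (g⁻¹ * v * g)) * g⁻¹ := by rw [this]
      _ = _ := by group
  have hp : IsPGroup 2 ↥K := by
    refine IsPGroup.iff_card.2 ?_
    have hd : Nat.card ↥K ∣ 2688 := cent_two H ht ▸ Subgroup.card_dvd_of_le hKC
    have h7 : ¬ 7 ∣ Nat.card ↥K := fun h => by
      obtain ⟨y, hy, hyo⟩ := exists_elt_prime H (by norm_num : Nat.Prime 7) K h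
      have hEle : Nat.card ↥E ∣ 14 := (cent_seven H hyo).1 ▸ Subgroup.card_dvd_of_le (fun u hu =>
        mem_centralizer_singleton_iff.2 (mem_centralizer_iff.1 hy u hu))
      rw [hc] at hEle; norm_num at hEle
    have h3 : ¬ 3 ∣ Nat.card ↥K := fun h => by
      obtain ⟨x, hx, hxo⟩ := exists_elt_prime H Nat.prime_three K h
      have hxt := mem_centralizer_iff.1 hx t htE
      have h4 := (core_four H ht hxo hxt).1
      rw [inf_eq_left.2 (fun u hu => mem_centralizer_singleton_iff.2 (mem_centralizer_iff.1 hx u hu)), hc] at h4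
      norm_num at h4
    have h128 : Nat.card ↥K ∣ 2 ^ 7 := by
      refine Nat.Coprime.dvd_of_dvd_mul_right ?_ (show Nat.card ↥K ∣ 2 ^ 7 * (3 * 7) by norm_num; exact hd)
      exact Nat.Coprime.mul_right ((Nat.Prime.coprime_iff_not_dvd Nat.prime_three).2 h3).symm
        ((Nat.Prime.coprime_iff_not_dvd (by norm_num)).2 h7).symm
    obtain ⟨j, -, hj⟩ := (Nat.dvd_prime_pow Nat.prime_two).1 h128
    exact ⟨j, hj⟩
  have hK16 : 16 ≤ Nat.card ↥K := hc ▸ Subgroup.card_le_of_le hEK
  have h16 := (normal_two H ht K hp hKC (hEK htE) hKn).resolve_left (by omega)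
  rw [show E = K from Subgroup.eq_of_le_of_card_ge hEK (by omega)]
  exact mem_centralizer_iff.2 fun v hv => (hg v hv).symm

end Cfsg.Lib.M23Nse
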