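import Cfsg.Agent.M23Nse.Module

/-!
An involution outside the normalizer of a core, and its relations with that normalizer.
-/

set_option autoImplicit false
set_option linter.unusedSectionVars false
set_option linter.style.haveILetI false
set_option maxRecDepth 100000
set_option synthInstance.maxSize 4000

namespace Cfsg.Lib.M23Nse

open Subgroup Equiv Cfsg.Lib.SameOrder Cfsg.Lib.Small Cfsg.Lib.MathieuEleven

universe u

/-- a three-cycle -/
def la : A7 := k0
/-- a disjoint three-cycle -/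
def lb : A7 := ⟨swap 3 4 * swap 4 5, Perm.mem_alternatingGroup.2 (by decide +kernel)⟩
/-- an involution inverting both three-cycles -/
def lj : A7 := k2
/-- an involution centralising the first three-cycle -/
def v34 : A7 := ⟨swap 3 4 * swap 5 6, Perm.mem_alternatingGroup.2 (by decide +kernel)⟩
/-- an involution centralising the first three-cycle -/
def v35 : A7 := ⟨swap 3 5 * swap 4 6, Perm.mem_alternatingGroup.2 (by decide +kernel)⟩
/-- an involution centralising the second three-cycle -/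
def v01 : A7 := ⟨swap 0 1 * swap 2 6, Perm.mem_alternatingGroup.2 (by decide +kernel)⟩
/-- an involution centralising the second three-cycle -/
def v02 : A7 := ⟨swap 0 2 * swap 1 6, Perm.mem_alternatingGroup.2 (by decide +kernel)⟩
/-- an element exchanging the two three-cycles -/
def li : A7 := ⟨swap 0 3 * (swap 1 4 * swap 4 2 * swap 2 5), Perm.mem_alternatingGroup.2 (by decide +kernel)⟩
/-- the label of a point fixed by the product of the three-cycles -/
def l1 : A7 := ⟨swap 2 3 * swap 3 4, Perm.mem_alternatingGroup.2 (by decide +kernel)⟩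
/-- the label of a point fixed by the quotient of the three-cycles -/
def l2 : A7 := k3 * k1

theorem label_facts : la * lb = lb * la ∧ la * la * la = 1 ∧ lb * lb * lb = 1 ∧ la ≠ 1 ∧ lb ≠ 1 ∧
    (v34 * v34 = 1 ∧ v35 * v35 = 1 ∧ v01 * v01 = 1 ∧ v02 * v02 = 1) ∧
    (v34 ≠ 1 ∧ v35 ≠ 1 ∧ v01 ≠ 1 ∧ v02 ≠ 1) ∧
    (v34 * la = la * v34 ∧ v35 * la = la * v35 ∧ v01 * lb = lb * v01 ∧ v02 * lb = lb * v02) ∧
    (v34 * v35 = v35 * v34 ∧ v01 * v02 = v02 * v01 ∧ v35 * v02 ≠ v02 * v35) ∧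
    (lb * v34 * lb⁻¹ = v34 * v35 ∧ lb * v35 * lb⁻¹ = v34) ∧
    (lj * la * lj⁻¹ = la⁻¹ ∧ lj * lb * lj⁻¹ = lb⁻¹ ∧ lj * v34 * lj⁻¹ = v34 ∧ lj * v35 * lj⁻¹ = v34 * v35) ∧
    (li * la * li⁻¹ = lb ∧ li * lb * li⁻¹ = la⁻¹ ∧ li * v34 * li⁻¹ = v02) ∧
    (v02 * lj ≠ lj * v02 ∧ v01 * v02 * lj ≠ lj * (v01 * v02)) := by decide +kernel

theorem word_facts : la * lb * l1 = l1 * wd [false, false, true, false, false, false, false, true, false] ∧
    v34 * l1 = l1 * wd [false, false, true, false, true, false, true] ∧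
    v34 * (la * l1) = la * l1 * wd [false, false, true, false, true, false, true] ∧
    la * lb⁻¹ * l2 = l2 * wd [true, false, false, false, false, true, false, true, false] ∧
    lj * l2 = l2 * wd [true, false, true, false, true, false, false] ∧
    v01 * l2 = l2 * wd [false, true, false, false, false, true, false, false, false, false] := by decide +kernel

/-- a three-cycle -/
def p5 : A5 := ⟨swap 0 1 * swap 1 2, Perm.mem_alternatingGroup.2 (by decide +kernel)⟩
/-- an involution moving the last point -/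
def u5 : A5 := ⟨swap 0 1 * swap 3 4, Perm.mem_alternatingGroup.2 (by decide +kernel)⟩

/-- the automorphism exchanging the two involutions -/
def sw5 : A5 ≃* A5 := MulAut.conjNormal (swap 1 2 : Perm (Fin 5))

theorem five_facts : u5 * u5 = 1 ∧ u5 ≠ 1 ∧ u5 * p5 * u5 = p5⁻¹ ∧ (u5 * i01) * (u5 * i01) * (u5 * i01) = 1 ∧
    (u5 * i02) * (u5 * i02) * (u5 * i02) * (u5 * i02) * (u5 * i02) = 1 ∧ u5 * i02 ≠ 1 ∧
    u5 * i01 * u5 * i01 ≠ i01 * (u5 * i01 * u5) ∧ i01 * i01 = 1 ∧ i02 * i02 = 1 ∧ i01 ≠ 1 ∧ i02 ≠ 1 ∧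
    p5 * p5 * p5 = 1 ∧ p5 ≠ 1 ∧ u5 * p5 * u5⁻¹ = p5⁻¹ := by decide +kernel

theorem sw5_facts : sw5 i01 = i02 ∧ sw5 i02 = i01 := by
  constructor <;> refine Subtype.ext ?_ <;> simp only [sw5, MulAut.conjNormal_apply] <;> decide +kernel

theorem p5_unique : ∀ r : A5, r * r * r = 1 → r * i01 * r⁻¹ = i01 * i02 → r * i02 * r⁻¹ = i01 →
    ∃ w : A5, w * i01 = i01 * w ∧ w * i02 = i02 * w ∧ w * p5 * w⁻¹ = r := by decide +kernel

theorem u5_unique : ∀ r : A5, r * r = 1 → r ≠ 1 → cl (i01 * r) = cl (i01 * u5) →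
    cl (i01 * i02 * r) = cl (i02 * u5) → cl (p5⁻¹ * r) = cl (p5 * u5) →
    cl (p5⁻¹ * i01 * r) = cl (p5 * i01 * u5) → cl (p5⁻¹ * (i01 * i02) * r) = cl (p5 * i02 * u5) → r = u5 := by
  decide +kernel

theorem three_conj5 : ∀ r : A5, r * r * r = 1 → r ≠ 1 → ∃ g : A5, g * p5 * g⁻¹ = r := by decide +kernel

theorem three_fours : ∀ o : A5, o * o = 1 → o ≠ 1 → (p5 * o * p5⁻¹) * o = o * (p5 * o * p5⁻¹) →
    ∀ q : A5, q * q = 1 → q ≠ 1 → (p5 * q * p5⁻¹) * q = q * (p5 * q * p5⁻¹) →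
    ∀ w : A5, w * w = 1 → w ≠ 1 → (p5 * w * p5⁻¹) * w = w * (p5 * w * p5⁻¹) →
    o * q = q * o ∨ o * w = w * o ∨ q * w = w * q := by decide +kernel

theorem two_fours : ∀ q : A5, q * q = 1 → q * i01 ≠ i01 * q ∨ q * i02 ≠ i02 * q →
    ∃ w ∈ [i01 * q, i02 * q, i01 * i02 * q], w * w * w * w * w = 1 ∧ w ≠ 1 := by decide +kernel

variable {G : Type u} [Group G] [Finite G]

local instance fact_two_gl : Fact (Nat.Prime 2) := ⟨Nat.prime_two⟩
local instance fact_three_gl : Fact (Nat.Prime 3) := ⟨Nat.prime_three⟩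
local instance fact_five_gl : Fact (Nat.Prime 5) := ⟨Nat.prime_five⟩

/-- a core meets the centraliser of an element -/
def Meets (c x : G) : Prop := ∃ v ∈ core c, v ≠ 1 ∧ v * x = x * v

/-- two elements without a common centralising involution -/
def Ind (x y : G) : Prop := ∀ v : G, orderOf v = 2 → v * x = x * v → v * y = y * v → False

theorem Meets.inv {c x : G} (h : Meets c x) : Meets c x⁻¹ :=
  let ⟨v, hv, hv1, hc⟩ := h
  ⟨v, hv, hv1, (show Commute v x from hc).inv_right.eq⟩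

variable (H : Fields G)
include H

theorem Meets.map {c x : G} (hc : orderOf c = 2) (h : Meets c x) (g : G) :
    Meets (g * c * g⁻¹) (g * x * g⁻¹) := by
  obtain ⟨v, hv, hv1, hvx⟩ := h
  refine ⟨g * v * g⁻¹, ?_, fun e => hv1 (conj_eq_one_iff.1 e), ?_⟩
  · rw [core_conj H hc]; exact ⟨v, hv, rfl⟩
  · calc g * v * g⁻¹ * (g * x * g⁻¹) = g * (v * x) * g⁻¹ := by group
      _ = g * (x * v) * g⁻¹ := by rw [hvx]
      _ = _ := by group

theorem NE_map {c x : G} (hc : orderOf c = 2) (h : x ∈ NE c) (g : G) : g * x * g⁻¹ ∈ NE (g * c * g⁻¹) := by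
  refine mem_normalizer_of_conj _ fun v hv => ?_
  rw [core_conj H hc] at hv ⊢
  obtain ⟨w, hw, rfl⟩ := hv
  refine ⟨x * w * x⁻¹, (mem_normalizer_iff.1 h w).1 hw, ?_⟩
  show g * (x * w * x⁻¹) * g⁻¹ = g * x * g⁻¹ * (g * w * g⁻¹) * (g * x * g⁻¹)⁻¹
  group

theorem NE_of_core {c v x : G} (hc : orderOf c = 2) (hv : v ∈ core c) (hv1 : v ≠ 1) (hx : x * v = v * x) :
    x ∈ NE c := by
  have h : x ∈ NE v := cent_le_NE H (core_order H hc hv hv1) (mem_centralizer_singleton_iff.2 hx)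
  rw [NE, core_stable H hc hv hv1] at h
  exact h

/-- two commuting involutions centralising one element of order three have one core -/
theorem core_eq_of_comm {v w x : G} (hv : orderOf v = 2) (hw : orderOf w = 2) (hx : orderOf x = 3)
    (hvx : v * x = x * v) (hwx : w * x = x * w) (h : w * v = v * w) : core w = core v :=
  core_stable H hv ((core_four H hv hx hvx).2 w hwx h (by rw [← pow_two, ← hw, pow_orderOf_eq_one]))
    (ne_one_two H hw)

theorem core_eq_of_meets {c d x : G} (hc : orderOf c = 2) (hd : orderOf d = 2) (hx : orderOf x = 3)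
    {v w : G} (hv : v ∈ core c) (hv1 : v ≠ 1) (hvx : v * x = x * v) (hw : w ∈ core d) (hw1 : w ≠ 1)
    (hwx : w * x = x * w) (h : w * v = v * w) : core d = core c := by
  rw [← core_stable H hc hv hv1, ← core_stable H hd hw hw1]
  exact core_eq_of_comm H (core_order H hc hv hv1) (core_order H hd hw hw1) hx hvx hwx h

/-- at most two cores meeting one centraliser are normalised by an independent element -/
theorem two_cores_at {x y : G} (hx : orderOf x = 3) (hy : orderOf y = 3) (hxy : y * x = x * y) (hI : Ind x y)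
    {c d e : G} (hc : orderOf c = 2) (hd : orderOf d = 2) (he : orderOf e = 2)
    (mc : Meets c x) (md : Meets d x) (me : Meets e x) (nc : y ∈ NE c) (nd : y ∈ NE d) (ne : y ∈ NE e) :
    core c = core d ∨ core c = core e ∨ core d = core e := by
  obtain ⟨ψ, hψ⟩ := exists_side H hx
  obtain ⟨m, r, -, hr⟩ := hψ.cover y hxy
  have hconj : ∀ π : A5, y * ψ π * y⁻¹ = ψ (r * π * r⁻¹) := fun π => by
    rw [hr, map_mul, map_mul, map_inv]
    have hcm : Commute (x ^ m) (ψ (r * π * r⁻¹)) := (show Commute (ψ (r * π * r⁻¹)) x from hψ.comm _).symm.pow_left m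
    calc x ^ m * ψ r * ψ π * (x ^ m * ψ r)⁻¹ = x ^ m * (ψ r * ψ π * (ψ r)⁻¹) * (x ^ m)⁻¹ := by group
      _ = x ^ m * ψ (r * π * r⁻¹) * (x ^ m)⁻¹ := by rw [map_mul, map_mul, map_inv]
      _ = ψ r * ψ π * (ψ r)⁻¹ := by rw [hcm.eq, mul_inv_cancel_right, map_mul, map_mul, map_inv]
  have hr3 : r * r * r = 1 := hψ.inj (by
    have h1 : y ^ 3 = 1 := by rw [← hy, pow_orderOf_eq_one]
    rw [hr, ((show Commute (ψ r) x from hψ.comm r).symm.pow_left m).mul_pow, ← pow_mul, mul_comm m 3, pow_mul,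
      show x ^ 3 = 1 by rw [← hx, pow_orderOf_eq_one], one_pow, one_mul, ← map_pow] at h1
    rw [map_one, ← h1, show r ^ 3 = r * r * r by simp [pow_succ]])
  have key : ∀ c', orderOf c' = 2 → Meets c' x → y ∈ NE c' → ∃ τ : A5, ψ τ ∈ core c' ∧ τ * τ = 1 ∧ τ ≠ 1 ∧
      (r * τ * r⁻¹) * τ = τ * (r * τ * r⁻¹) := by
    intro c' hc' ⟨v, hv, hv1, hvx⟩ hn
    obtain ⟨τ, rfl, h2, h1⟩ := exists_tau H hx hψ (core_order H hc' hv hv1) hvx
    refine ⟨τ, hv, h2, h1, hψ.inj ?_⟩
    rw [map_mul, map_mul _ τ, ← hconj]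
    exact core_comm H hc' ((mem_normalizer_iff.1 hn _).1 hv) hv
  have hr1 : r ≠ 1 := fun e1 => by
    obtain ⟨v, hv, hv1, hvx⟩ := mc
    refine hI v (core_order H hc hv hv1) hvx ?_
    rw [hr, e1, map_one, mul_one]
    exact ((show Commute v x from hvx).pow_right m).eq
  obtain ⟨g, hg⟩ := three_conj5 r hr3 hr1
  obtain ⟨o, ho, ho2, ho1, hor⟩ := key c hc mc nc
  obtain ⟨q, hq, hq2, hq1, hqr⟩ := key d hd md nd
  obtain ⟨w, hw, hw2, hw1, hwr⟩ := key e he me ne
  set φ := MulAut.conj g⁻¹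
  have hφr : φ r = p5 := by rw [← hg]; simp [φ, mul_assoc]
  have tr : ∀ τ : A5, (r * τ * r⁻¹) * τ = τ * (r * τ * r⁻¹) →
      (p5 * φ τ * p5⁻¹) * φ τ = φ τ * (p5 * φ τ * p5⁻¹) := fun τ h => by
    rw [← hφr, ← map_inv, ← map_mul, ← map_mul, ← map_mul, ← map_mul, h]
  have s2 : ∀ τ : A5, τ * τ = 1 → φ τ * φ τ = 1 := fun τ h => by rw [← map_mul, h, map_one]
  have s1 : ∀ τ : A5, τ ≠ 1 → φ τ ≠ 1 := fun τ h e => h (φ.map_eq_one_iff.1 e)
  have un : ∀ τ τ' : A5, φ τ * φ τ' = φ τ' * φ τ → ψ τ * ψ τ' = ψ τ' * ψ τ := fun τ τ' h => by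
    rw [← map_mul φ, ← map_mul φ] at h
    rw [← map_mul, ← map_mul, φ.injective h]
  have n1 : ∀ τ : A5, τ ≠ 1 → ψ τ ≠ 1 := fun τ h e => h (hψ.inj (e.trans (map_one ψ).symm))
  rcases three_fours (φ o) (s2 o ho2) (s1 o ho1) (tr o hor) (φ q) (s2 q hq2) (s1 q hq1) (tr q hqr)
    (φ w) (s2 w hw2) (s1 w hw1) (tr w hwr) with h | h | h
  · exact Or.inl (core_eq_of_meets H hd hc hx hq (n1 _ hq1) (hψ.comm q) ho (n1 _ ho1) (hψ.comm o) (un _ _ h))
  · exact Or.inr (Or.inl (core_eq_of_meets H he hc hx hw (n1 _ hw1) (hψ.comm w) ho (n1 _ ho1) (hψ.comm o) (un _ _ h)))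
  · exact Or.inr (Or.inr (core_eq_of_meets H he hd hx hw (n1 _ hw1) (hψ.comm w) hq (n1 _ hq1) (hψ.comm q) (un _ _ h)))

/-- a core does not meet three centralisers -/
theorem not_three_lines {c x y z : G} (hc : orderOf c = 2) (hx : orderOf x = 3) (hy : orderOf y = 3)
    (hxy : y * x = x * y) (hI : Ind x y) (nx : x ∈ NE c) (ny : y ∈ NE c)
    (mx : Meets c x) (my : Meets c y) (mz : Meets c z) (hz : z = x * y ∨ z = x * y⁻¹) : False := by
  classical
  obtain ⟨v, hv, hv1, hvx⟩ := mx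
  obtain ⟨w, hw, hw1, hwy⟩ := my
  obtain ⟨o, ho, ho1, hoz⟩ := mz
  have hWx := (core_four H (core_order H hc hv hv1) hx hvx).1
  have hWy := (core_four H (core_order H hc hw hw1) hy hwy).1
  rw [core_stable H hc hv hv1] at hWx
  rw [core_stable H hc hw hw1] at hWy
  set Wx := core c ⊓ centralizer ({x} : Set G)
  set Wy := core c ⊓ centralizer ({y} : Set G)
  have triv : ∀ q ∈ core c, q * x = x * q → q * y = y * q → q = 1 := fun q hq h1 h2 => by
    by_contra hq1; exact hI q (core_order H hc hq hq1) h1 h2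
  let F : ↥Wx × ↥Wy → ↥(core c) := fun p => ⟨p.1.1 * p.2.1, mul_mem p.1.2.1 p.2.2.1⟩
  have hF : Function.Injective F := by
    rintro ⟨⟨a, ha⟩, ⟨b, hb⟩⟩ ⟨⟨a', ha'⟩, ⟨b', hb'⟩⟩ e
    have e' : a * b = a' * b' := congrArg Subtype.val e
    have h1 : a'⁻¹ * a = b' * b⁻¹ := by
      rw [eq_mul_inv_iff_mul_eq, mul_assoc, e', inv_mul_cancel_left]
    have hm1 : a'⁻¹ * a ∈ Wx := mul_mem (inv_mem ha') ha
    have hm2 : a'⁻¹ * a ∈ Wy := h1 ▸ mul_mem hb' (inv_mem hb)
    have := triv _ hm1.1 (mem_centralizer_singleton_iff.1 hm1.2) (mem_centralizer_singleton_iff.1 hm2.2)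
    obtain rfl : a' = a := inv_mul_eq_one.1 this
    obtain rfl : b = b' := mul_left_cancel e'
    rfl
  obtain ⟨⟨⟨a, ha⟩, ⟨b, hb⟩⟩, hab⟩ := (hF.bijective_of_nat_card_le
    (by rw [Nat.card_prod, hWx, hWy, (isCore H hc).2.2.1])).2 ⟨o, ho⟩
  have hab' : a * b = o := congrArg Subtype.val hab
  have hzx : Commute z x := by
    rcases hz with rfl | rfl
    exacts [(Commute.refl x).mul_left hxy, (Commute.refl x).mul_left (show Commute y x from hxy).inv_left]
  have hzy : Commute z y := by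
    rcases hz with rfl | rfl
    exacts [(show Commute x y from hxy.symm).mul_left (Commute.refl y),
      (show Commute x y from hxy.symm).mul_left (Commute.refl y).inv_left]
  have nz : z ∈ NE c := by
    rcases hz with rfl | rfl
    exacts [mul_mem nx ny, mul_mem nx (inv_mem ny)]
  have ha' : z * a * z⁻¹ ∈ Wx := mem_inf.2 ⟨(mem_normalizer_iff.1 nz a).1 ha.1, mem_centralizer_singleton_iff.2
    (((hzx.mul_left (show Commute a x from mem_centralizer_singleton_iff.1 ha.2)).mul_left hzx.inv_left).eq)⟩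
  have hb' : z * b * z⁻¹ ∈ Wy := mem_inf.2 ⟨(mem_normalizer_iff.1 nz b).1 hb.1, mem_centralizer_singleton_iff.2
    (((hzy.mul_left (show Commute b y from mem_centralizer_singleton_iff.1 hb.2)).mul_left hzy.inv_left).eq)⟩
  have hinj : (⟨z * a * z⁻¹, ha'⟩, ⟨z * b * z⁻¹, hb'⟩) = ((⟨a, ha⟩, ⟨b, hb⟩) : ↥Wx × ↥Wy) := hF (Subtype.ext (by
    show z * a * z⁻¹ * (z * b * z⁻¹) = a * b
    rw [show z * a * z⁻¹ * (z * b * z⁻¹) = z * (a * b) * z⁻¹ by group, hab', ← hoz, mul_inv_cancel_right]))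
  have ea : z * a = a * z := mul_inv_eq_iff_eq_mul.1 (congrArg (fun p : ↥Wx × ↥Wy => (p.1 : G)) hinj)
  have eb : z * b = b * z := mul_inv_eq_iff_eq_mul.1 (congrArg (fun p : ↥Wx × ↥Wy => (p.2 : G)) hinj)
  have hax : Commute a x := mem_centralizer_singleton_iff.1 ha.2
  have hby : Commute b y := mem_centralizer_singleton_iff.1 hb.2
  have hay : Commute a y := by
    rcases hz with rfl | rfl
    · have : Commute a (x⁻¹ * (x * y)) := hax.inv_right.mul_right (show Commute a (x * y) from ea.symm)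
      rwa [inv_mul_cancel_left] at this
    · have : Commute a (x⁻¹ * (x * y⁻¹)) := hax.inv_right.mul_right (show Commute a (x * y⁻¹) from ea.symm)
      rw [inv_mul_cancel_left] at this
      simpa using this.inv_right
  have hbx : Commute b x := by
    rcases hz with rfl | rfl
    · have : Commute b (x * y * y⁻¹) := (show Commute b (x * y) from eb.symm).mul_right hby.inv_right
      rwa [mul_inv_cancel_right] at this
    · have : Commute b (x * y⁻¹ * y) := (show Commute b (x * y⁻¹) from eb.symm).mul_right hby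
      rwa [inv_mul_cancel_right] at this
  refine ho1 ?_
  rw [← hab', triv a ha.1 hax hay, triv b hb.1 hbx hby, one_mul]

/-- a core meeting one centraliser meets a second one -/
theorem exists_line_at {c x y : G} (hc : orderOf c = 2) (hx : orderOf x = 3) (hxy : y * x = x * y)
    (nx : x ∈ NE c) (ny : y ∈ NE c) (mx : Meets c x) :
    Meets c y ∨ Meets c (x * y) ∨ Meets c (x * y⁻¹) := by
  classical
  obtain ⟨v, hv, hv1, hvx⟩ := mx
  have hW := (core_four H (core_order H hc hv hv1) hx hvx).1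
  rw [core_stable H hc hv hv1] at hW
  obtain ⟨-, -, hc16, -⟩ := isCore H hc
  have hx3 : x * x * x = 1 := by rw [← pow_two, ← pow_succ, show 2 + 1 = 3 from rfl, ← hx, pow_orderOf_eq_one]
  have hnx : ∀ a ∈ core c, x * a * x⁻¹ ∈ core c := fun a ha => (mem_normalizer_iff.1 nx a).1 ha
  let f : ↥(core c) →* ↥(core c) := MonoidHom.mk' (fun a => ⟨a.1 * (x * a.1 * x⁻¹), mul_mem a.2 (hnx _ a.2)⟩)
    fun a b => Subtype.ext (by
      show a.1 * b.1 * (x * (a.1 * b.1) * x⁻¹) = a.1 * (x * a.1 * x⁻¹) * (b.1 * (x * b.1 * x⁻¹))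
      calc _ = a.1 * (b.1 * (x * a.1 * x⁻¹)) * (x * b.1 * x⁻¹) := by group
        _ = a.1 * ((x * a.1 * x⁻¹) * b.1) * (x * b.1 * x⁻¹) := by rw [core_comm H hc b.2 (hnx _ a.2)]
        _ = _ := by group)
  have hker : Nat.card ↥f.ker = 4 := by
    rw [← hW]
    refine Nat.card_eq_of_bijective (fun a : ↥f.ker => (⟨a.1.1, mem_inf.2 ⟨a.1.2, mem_centralizer_singleton_iff.2 (by
        have h := congrArg Subtype.val (MonoidHom.mem_ker.1 a.2)
        have h' := (eq_inv_of_mul_eq_one_right h).trans (core_inv H hc a.1.2)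
        exact (mul_inv_eq_iff_eq_mul.1 h').symm)⟩⟩ : ↥(core c ⊓ centralizer ({x} : Set G) : Subgroup G))) ⟨?_, ?_⟩
    · exact fun a b e => Subtype.ext (Subtype.ext (Subtype.mk.inj e))
    · intro a
      refine ⟨⟨⟨a.1, a.2.1⟩, ?_⟩, rfl⟩
      rw [MonoidHom.mem_ker]
      refine Subtype.ext ?_
      show a.1 * (x * a.1 * x⁻¹) = 1
      rw [← mem_centralizer_singleton_iff.1 a.2.2, mul_inv_cancel_right, core_sq H hc _ a.2.1]
  have hrange : Nat.card ↥f.range = 4 := by
    have h := Subgroup.card_mul_index f.ker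
    rw [hker, Subgroup.index_ker, hc16] at h
    omega
  set U := f.range.map (core c).subtype
  have hU : Nat.card ↥U = 4 := by rw [Subgroup.card_map_of_injective (core c).subtype_injective, hrange]
  have hUm : ∀ z ∈ U, ∃ a ∈ core c, z = a * (x * a * x⁻¹) := by
    rintro _ ⟨_, ⟨a, rfl⟩, rfl⟩; exact ⟨a.1, a.2, rfl⟩
  have hUm' : ∀ a ∈ core c, a * (x * a * x⁻¹) ∈ U := fun a ha => ⟨f ⟨a, ha⟩, ⟨_, rfl⟩, rfl⟩
  have hUc : U ≤ core c := by rintro _ ⟨a, -, rfl⟩; exact a.2
  have hUfix : ∀ z ∈ U, x * z * x⁻¹ = z → z = 1 := by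
    intro z hz hxz
    obtain ⟨a, ha, rfl⟩ := hUm z hz
    set b := x * a * x⁻¹
    have e : b * (x * b * x⁻¹) = a * b := by rw [← hxz]; simp only [b]; group
    have e2 : x * b * x⁻¹ = a :=
      mul_left_cancel (a := b) (e.trans (core_comm H hc ha (hnx a ha)))
    have ha2 : b = a := by
      have e3 : x * x * a * (x * x)⁻¹ = a := Eq.trans (by simp only [b]; group) e2
      calc b = x * (x * x * a * (x * x)⁻¹) * x⁻¹ := by rw [e3]
        _ = (x * x * x) * a * (x * x * x)⁻¹ := by group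
        _ = a := by rw [hx3]; group
    rw [ha2, core_sq H hc a ha]
  obtain ⟨z, hz, hz1⟩ : ∃ z ∈ U, z ≠ 1 := by
    by_contra! hall
    have : Nat.card ↥U ≤ 1 := Finite.card_le_one_iff_subsingleton.2
      ⟨fun a b => Subtype.ext ((hall _ a.2).trans (hall _ b.2).symm)⟩
    omega
  have hUx : ∀ w ∈ U, x * w * x⁻¹ ∈ U := fun w hw => by
    obtain ⟨a, ha, rfl⟩ := hUm w hw
    have := hUm' _ (hnx a ha)
    rwa [show x * a * x⁻¹ * (x * (x * a * x⁻¹) * x⁻¹) = x * (a * (x * a * x⁻¹)) * x⁻¹ by group] at this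
  have hset : (U : Set G) = {1, z, x * z * x⁻¹, x * (x * z * x⁻¹) * x⁻¹} := by
    refine (Set.eq_of_subset_of_ncard_le ?_ ?_ (Set.toFinite _)).symm
    · rintro w (rfl | rfl | rfl | rfl)
      exacts [one_mem _, hz, hUx _ hz, hUx _ (hUx _ hz)]
    · rw [← Nat.card_coe_set_eq]
      change Nat.card ↥U ≤ _
      have n1 : x * z * x⁻¹ ≠ 1 := fun e => hz1 (conj_eq_one_iff.1 e)
      have n2 : x * (x * z * x⁻¹) * x⁻¹ ≠ 1 := fun e => n1 (conj_eq_one_iff.1 e)
      have n3 : z ≠ x * z * x⁻¹ := fun e => hz1 (hUfix z hz e.symm)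
      have n4 : z ≠ x * (x * z * x⁻¹) * x⁻¹ := fun e => n3 (by
        conv_rhs => rw [e]
        rw [show x * (x * (x * z * x⁻¹) * x⁻¹) * x⁻¹ = x * x * x * z * (x * x * x)⁻¹ by group, hx3]; group)
      have n5 : x * z * x⁻¹ ≠ x * (x * z * x⁻¹) * x⁻¹ := fun e => n3 ((MulAut.conj x).injective e)
      rw [hU, Set.ncard_insert_of_notMem (by simp [Ne.symm hz1, Ne.symm n1, Ne.symm n2]),
        Set.ncard_eq_three.2 ⟨_, _, _, n3, n4, n5, rfl⟩]
  obtain ⟨a, ha, hza⟩ := hUm z hz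
  have hyU : y * z * y⁻¹ ∈ U := by
    rw [hza, show y * (a * (x * a * x⁻¹)) * y⁻¹ = y * a * y⁻¹ * ((y * x) * a * (y * x)⁻¹) by group, hxy,
      show x * y * a * (x * y)⁻¹ = x * (y * a * y⁻¹) * x⁻¹ by group]
    exact hUm' _ ((mem_normalizer_iff.1 ny a).1 ha)
  rw [← SetLike.mem_coe, hset] at hyU
  rcases hyU with h | h | h | h
  · exact absurd (conj_eq_one_iff.1 h) hz1
  · exact Or.inl ⟨z, hUc hz, hz1, (mul_inv_eq_iff_eq_mul.1 h).symm⟩
  · right; right
    have hc2 : Commute z (x⁻¹ * y) := by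
      refine (mul_inv_eq_iff_eq_mul.1 (show x⁻¹ * y * z * (x⁻¹ * y)⁻¹ = z from ?_)).symm
      rw [show x⁻¹ * y * z * (x⁻¹ * y)⁻¹ = x⁻¹ * (y * z * y⁻¹) * x by group, h]; group
    refine ⟨z, hUc hz, hz1, ?_⟩
    have := hc2.inv_right
    rw [mul_inv_rev, inv_inv, (show Commute y x from hxy).inv_left.eq] at this
    exact this.eq
  · right; left
    have hc2 : Commute z (x * y) := by
      refine (mul_inv_eq_iff_eq_mul.1 (show x * y * z * (x * y)⁻¹ = z from ?_)).symm
      rw [show x * y * z * (x * y)⁻¹ = x * (y * z * y⁻¹) * x⁻¹ by group, h,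
        show x * (x * (x * z * x⁻¹) * x⁻¹) * x⁻¹ = x * x * x * z * (x * x * x)⁻¹ by group, hx3]
      group
    exact ⟨z, hUc hz, hz1, hc2.eq⟩

/-- involutions centralising an element of order three in one normalizer commute -/
theorem norm_pair {c z p p' q : G} (hc : orderOf c = 2) (hz : orderOf z = 3) (hp : orderOf p = 2)
    (hp' : orderOf p' = 2) (hq : orderOf q = 2) (nz : z ∈ NE c) (np : p ∈ NE c) (np' : p' ∈ NE c) (nq : q ∈ NE c)
    (hpz : p * z = z * p) (hpz' : p' * z = z * p') (hqz : q * z = z * q) (hpp : p * p' = p' * p) (hne : p ≠ p') :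
    q * p = p * q := by
  by_contra hqp
  obtain ⟨ψ, hψ⟩ := exists_side H hz
  obtain ⟨a, rfl, ha2, ha1⟩ := exists_tau H hz hψ hp hpz
  obtain ⟨b, rfl, hb2, hb1⟩ := exists_tau H hz hψ hp' hpz'
  obtain ⟨r, rfl, hr2, hr1⟩ := exists_tau H hz hψ hq hqz
  obtain ⟨g, hg⟩ := pair_conj a b ha2 hb2 (hψ.inj (by simpa using hpp)) ha1 hb1 fun e => hne (congrArg ψ e)
  set φ := MulAut.conj g
  have hra : r * a ≠ a * r := fun e => hqp (by rw [← map_mul, e, map_mul])
  obtain ⟨hq', hmem⟩ : (φ.symm r * i01 ≠ i01 * φ.symm r ∨ φ.symm r * i02 ≠ i02 * φ.symm r) ∧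
      (ψ (φ i01) ∈ NE c ∧ ψ (φ i02) ∈ NE c) := by
    rcases hg with ⟨h1, h2⟩ | ⟨h1, h2⟩
    · refine ⟨Or.inl fun e => hra ?_, ?_⟩
      · have := congrArg φ e
        rwa [map_mul, map_mul, MulEquiv.apply_symm_apply, show φ i01 = a from h1] at this
      · rw [show φ i01 = a from h1, show φ i02 = b from h2]; exact ⟨np, np'⟩
    · refine ⟨Or.inr fun e => hra ?_, ?_⟩
      · have := congrArg φ e
        rwa [map_mul, map_mul, MulEquiv.apply_symm_apply, show φ i02 = a from h2] at this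
      · rw [show φ i01 = b from h1, show φ i02 = a from h2]; exact ⟨np', np⟩
  obtain ⟨w, hw, hw5, hw1⟩ := two_fours (φ.symm r) (by rw [← map_mul, hr2, map_one]) hq'
  have hwN : ψ (φ w) ∈ NE c := by
    simp only [List.mem_cons, List.not_mem_nil, or_false] at hw
    rcases hw with rfl | rfl | rfl <;> simp only [map_mul, MulEquiv.apply_symm_apply]
    exacts [mul_mem hmem.1 nq, mul_mem hmem.2 nq, mul_mem (mul_mem hmem.1 hmem.2) nq]
  have hwo : orderOf (ψ (φ w)) = 5 := by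
    rw [orderOf_injective ψ hψ.inj, MulEquiv.orderOf_eq]
    exact orderOf_eq_prime (by simpa [pow_succ] using hw5) hw1
  obtain ⟨s', M'⟩ := exists_model H hc
  exact M'.order_pair H nz hwN hz hwo (hψ.comm _).symm

variable {t : G} {s : A7 →* G} (M : Model t s)
include M

/-- the outer involution with its relations -/
theorem exists_outer : ∃ u : G, u * u = 1 ∧ u * s la = s la * u ∧ u * s lb * u = s la * (s lb)⁻¹ ∧
    u * s lj = s lj * u ∧ (u * s v34) * (u * s v34) * (u * s v34) = 1 ∧ u * pt t s l2 * u = s v01 ∧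
    u ∉ NE t := by
  classical
  obtain ⟨hab, ha3, hb3, ha1, hb1, ⟨q34, q35, q01, q02⟩, ⟨o34, o35, o01, o02⟩, ⟨c34, c35, c01, c02⟩,
    ⟨v3435, v0102, nv35⟩, ⟨bv34, bv35⟩, ⟨ja, jb, jv34, jv35⟩, ⟨ia, ib, iv34⟩, ⟨nj02, nj06⟩⟩ := label_facts
  have sinj := M.inj H
  have hord : ∀ {σ : A7} {n : ℕ}, orderOf σ = n → orderOf (s σ) = n := fun h => (orderOf_injective s sinj _).trans h
  have o3 : ∀ {σ : A7}, σ * σ * σ = 1 → σ ≠ 1 → orderOf σ = 3 := fun h h1 =>
    orderOf_eq_prime (by simpa [pow_succ] using h) h1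
  have o2 : ∀ {σ : A7}, σ * σ = 1 → σ ≠ 1 → orderOf (s σ) = 2 := fun h h1 =>
    hord (orderOf_eq_prime (by rw [pow_two]; exact h) h1)
  have sc : ∀ {σ τ : A7}, σ * τ = τ * σ → s σ * s τ = s τ * s σ := fun h => by rw [← map_mul, h, map_mul]
  set A := s la with hAdef
  set B := s lb with hBdef
  set J := s lj with hJdef
  have hA : orderOf A = 3 := hord (o3 ha3 ha1)
  have hB : orderOf B = 3 := hord (o3 hb3 hb1)
  have hA3 : A * A * A = 1 := by simp only [A]; rw [← map_mul, ← map_mul, ha3, map_one]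
  have hBA : B * A = A * B := sc hab.symm
  obtain ⟨hl1, hw34, hw34', hl2, hlj2, hl01⟩ := word_facts
  -- the frame on the derived subgroup of the centraliser
  obtain ⟨ψ, hψ, hi1, hi2, k, hk, hP⟩ : ∃ ψ : A5 →* G, Side A ψ ∧ ψ i01 = s v34 ∧ ψ i02 = s v35 ∧
      ∃ k < 3, ψ p5 = A ^ k * B := by
    obtain ⟨ψ₀, hψ₀⟩ := exists_side H hA
    obtain ⟨α, hα, hα2, hα1⟩ := exists_tau H hA hψ₀ (o2 q34 o34) (sc c34)
    obtain ⟨β, hβ, hβ2, hβ1⟩ := exists_tau H hA hψ₀ (o2 q35 o35) (sc c35)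
    have hne : α ≠ β := fun e => absurd (sinj (hα.trans ((congrArg ψ₀ e).trans hβ.symm))) (by decide +kernel)
    obtain ⟨g, hg⟩ := pair_conj α β hα2 hβ2 (hψ₀.inj (by
      rw [map_mul, map_mul, ← hα, ← hβ]; exact sc v3435)) hα1 hβ1 hne
    obtain ⟨ψ₁, hψ₁, h1, h2⟩ : ∃ ψ : A5 →* G, Side A ψ ∧ ψ i01 = s v34 ∧ ψ i02 = s v35 := by
      rcases hg with ⟨h1, h2⟩ | ⟨h1, h2⟩
      · refine ⟨_, hψ₀.comp (MulAut.conj g), ?_, ?_⟩
        · show ψ₀ (g * i01 * g⁻¹) = _; rw [h1, hα]
        · show ψ₀ (g * i02 * g⁻¹) = _; rw [h2, hβ]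
      · refine ⟨_, hψ₀.comp (sw5.trans (MulAut.conj g)), ?_, ?_⟩
        · show ψ₀ (g * sw5 i01 * g⁻¹) = _; rw [sw5_facts.1, h2, hα]
        · show ψ₀ (g * sw5 i02 * g⁻¹) = _; rw [sw5_facts.2, h1, hβ]
    obtain ⟨m, r, hm, hr⟩ := hψ₁.cover B hBA
    have hcj : ∀ π : A5, ψ₁ (r * π * r⁻¹) = B * ψ₁ π * B⁻¹ := fun π => by
      have hcm : Commute (A ^ m) (ψ₁ (r * π * r⁻¹)) :=
        (show Commute (ψ₁ (r * π * r⁻¹)) A from hψ₁.comm _).symm.pow_left m
      rw [hr, show A ^ m * ψ₁ r * ψ₁ π * (A ^ m * ψ₁ r)⁻¹ = A ^ m * (ψ₁ r * ψ₁ π * (ψ₁ r)⁻¹) * (A ^ m)⁻¹ by group,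
        ← map_inv, ← map_mul, ← map_mul, hcm.eq, mul_inv_cancel_right]
    have r1 : r * i01 * r⁻¹ = i01 * i02 := hψ₁.inj (by
      rw [hcj, h1, map_mul, h1, h2, ← map_inv, ← map_mul, ← map_mul, bv34, map_mul])
    have r2 : r * i02 * r⁻¹ = i01 := hψ₁.inj (by rw [hcj, h2, h1, ← map_inv, ← map_mul, ← map_mul, bv35])
    have r3 : r * r * r = 1 := hψ₁.inj (by
      have hB3 : B ^ 3 = 1 := by rw [← hB, pow_orderOf_eq_one]
      rw [hr, ((show Commute (ψ₁ r) A from hψ₁.comm r).symm.pow_left m).mul_pow, ← pow_mul, mul_comm m 3, pow_mul,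
        show A ^ 3 = 1 by rw [← hA, pow_orderOf_eq_one], one_pow, one_mul, ← map_pow] at hB3
      rw [map_one, ← hB3, show r ^ 3 = r * r * r by simp [pow_succ]])
    obtain ⟨w, w1, w2, w3⟩ := p5_unique r r3 r1 r2
    refine ⟨_, hψ₁.comp (MulAut.conj w), ?_, ?_, (2 * m) % 3, Nat.mod_lt _ (by norm_num), ?_⟩
    · show ψ₁ (w * i01 * w⁻¹) = _; rw [w1, mul_inv_cancel_right, h1]
    · show ψ₁ (w * i02 * w⁻¹) = _; rw [w2, mul_inv_cancel_right, h2]
    · show ψ₁ (w * p5 * w⁻¹) = _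
      rw [w3, hr, ← hA, pow_mod_orderOf, ← mul_assoc, ← pow_add, show 2 * m + m = 3 * m by ring, pow_mul, ← hA,
        pow_orderOf_eq_one, one_pow, one_mul]
  obtain ⟨u52, u51, u5p, u5x, u5f, u5f1, u5n, e01, e02, n01, n02, p3, p1, u5p'⟩ := five_facts
  set u := ψ u5 with hudef
  have hu2 : u * u = 1 := by rw [hudef, ← map_mul, u52, map_one]
  have hui : u⁻¹ = u := inv_eq_of_mul_eq_one_left hu2
  have huo : orderOf u = 2 := orderOf_eq_prime (p := 2) (by rw [pow_two]; exact hu2)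
    fun e => u51 (hψ.inj (e.trans (map_one ψ).symm))
  have huA : u * A = A * u := hψ.comm u5
  have huAu : u * A * u⁻¹ = A := by rw [huA, mul_inv_cancel_right]
  have huBu : u * B * u = A ^ k * B⁻¹ := by
    have h := congrArg ψ u5p
    rw [map_mul, map_mul, map_inv, hP, mul_inv_rev] at h
    have hB' : Commute B⁻¹ A := (show Commute B A from hBA).inv_left
    have hz : A ^ (3 * k) = 1 := by rw [pow_mul, ← hA, pow_orderOf_eq_one, one_pow]
    calc u * B * u = (A ^ k)⁻¹ * (u * (A ^ k * B) * u) := by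
          rw [show u * (A ^ k * B) * u = u * A ^ k * B * u by group,
            ((show Commute u A from huA).pow_right k).eq]
          group
      _ = (A ^ k)⁻¹ * (B⁻¹ * (A ^ k)⁻¹) := by rw [hudef, h]
      _ = (A ^ k)⁻¹ * (A ^ k)⁻¹ * B⁻¹ := by rw [((hB'.pow_right k).inv_right).eq]; group
      _ = (A ^ (2 * k))⁻¹ * B⁻¹ := by rw [← mul_inv_rev, ← pow_add, two_mul]
      _ = A ^ k * B⁻¹ := by
        congr 1
        rw [inv_eq_iff_mul_eq_one, ← pow_add, show 2 * k + k = 3 * k by ring, hz]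
  have hJA : J * A * J⁻¹ = A⁻¹ := by simp only [J, A]; rw [← map_inv, ← map_mul, ← map_mul, ja, map_inv]
  have huJ : u * J = J * u := by
    have hJx : J * A⁻¹ * J⁻¹ = A := by rw [show J * A⁻¹ * J⁻¹ = (J * A * J⁻¹)⁻¹ by group, hJA, inv_inv]
    have hc : J * u * J⁻¹ * A = A * (J * u * J⁻¹) := by
      calc J * u * J⁻¹ * A = J * (u * A⁻¹) * J⁻¹ := by nth_rw 1 [← hJx]; group
        _ = J * (A⁻¹ * u) * J⁻¹ := by rw [(show Commute u A from huA).inv_right.eq]
        _ = _ := by nth_rw 2 [← hJx]; group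
    obtain ⟨r, hr, hr2, hr1⟩ := exists_tau H hA hψ (by rw [← MulAut.conj_apply, MulEquiv.orderOf_eq, huo]) hc
    have j1 : J * ψ i01 * J⁻¹ = ψ i01 := by rw [hi1]; simp only [J]; rw [← map_inv, ← map_mul, ← map_mul, jv34]
    have j2 : J * ψ i02 * J⁻¹ = ψ (i01 * i02) := by
      rw [map_mul, hi2, hi1]; simp only [J]; rw [← map_inv, ← map_mul, ← map_mul, jv35, map_mul]
    have jB : J * B * J⁻¹ = B⁻¹ := by simp only [J, B]; rw [← map_inv, ← map_mul, ← map_mul, jb, map_inv]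
    have jp : J * ψ p5 * J⁻¹ = ψ p5⁻¹ := by
      rw [map_inv, hP, mul_inv_rev, show J * (A ^ k * B) * J⁻¹ = (J * A ^ k * J⁻¹) * (J * B * J⁻¹) by group,
        ← conj_pow, hJA, jB, inv_pow]
      exact (((show Commute B A from hBA).pow_right k).inv_left.inv_right).eq.symm
    have hmul : ∀ {p p' : A5}, J * ψ p * J⁻¹ = ψ p' → cl (p' * r) = cl (p * u5) := fun {p p'} h =>
      cl_eq_of hψ.inj (n := J) (by
        rw [map_mul, map_mul, ← h, ← hr, hudef]; group)
    have hmul2 : ∀ {p p' q q' : A5}, J * ψ p * J⁻¹ = ψ p' → J * ψ q * J⁻¹ = ψ q' →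
        J * ψ (p * q) * J⁻¹ = ψ (p' * q') := fun {p p' q q'} h h' => by
      rw [map_mul, map_mul, ← h, ← h']; group
    have hru := u5_unique r hr2 hr1 (hmul j1) (hmul j2) (hmul jp) (hmul (hmul2 jp j1)) (hmul (hmul2 jp j2))
    rw [hru] at hr
    exact (mul_inv_eq_iff_eq_mul.1 hr).symm
  have hu34 : (u * s v34) * (u * s v34) * (u * s v34) = 1 := by
    rw [← hi1, hudef, ← map_mul, ← map_mul, ← map_mul, u5x, map_one]
  -- outside the normalizer
  have htN : ∀ σ, s σ ∈ NE t := M.mem H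
  have hun : u ∉ NE t := fun hn => by
    refine M.order_pair H (htN la) (mul_mem hn (htN v35)) hA (r := u * s v35) ?_ ?_
    · rw [← hi2, hudef, ← map_mul, orderOf_injective ψ hψ.inj]
      exact orderOf_eq_prime (by simpa [pow_succ] using u5f) u5f1
    · rw [← hi2, hudef, ← map_mul]; exact (hψ.comm _).symm
  suffices key : u * B * u = A * B⁻¹ ∧ u * pt t s l2 * u = s v01 from
    ⟨u, hu2, huA, key.1, huJ, hu34, key.2, hun⟩
  -- cores
  have ht := M.ord
  have hm34 := o2 q34 o34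
  set c1 := s v34 with hc1def
  set c2 := s v02 with hc2def
  set c3 := u * c1 * u⁻¹ with hc3def
  set c' := u * t * u⁻¹ with hc'def
  have hc2 : orderOf c2 = 2 := o2 q02 o02
  have hc3 : orderOf c3 = 2 := by rw [hc3def, ← MulAut.conj_apply, MulEquiv.orderOf_eq]; exact hm34
  have hc' : orderOf c' = 2 := by rw [hc'def, ← MulAut.conj_apply, MulEquiv.orderOf_eq]; exact ht
  have h35c : s v35 ∈ core c1 := (core_four H hm34 hA (sc c34)).2 _ (sc c35) (sc v3435.symm) (by rw [← map_mul, q35, map_one])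
  have h01c : s v01 ∈ core c2 := (core_four H hc2 hB (sc c02)).2 _ (sc c01) (sc v0102) (by rw [← map_mul, q01, map_one])
  have n1 : A ∈ NE c1 ∧ B ∈ NE c1 := by
    refine ⟨cent_le_NE H hm34 (mem_centralizer_singleton_iff.2 (sc c34).symm), mem_normalizer_of_conj _ fun v hv => ?_⟩
    have e : core (B * c1 * B⁻¹) = core c1 := by
      simp only [B, c1]; rw [← map_inv, ← map_mul, ← map_mul, bv34, map_mul]
      exact core_stable H hm34 (mul_mem (isCore H hm34).2.1 h35c) (fun e => by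
        rw [← map_mul] at e
        exact absurd (sinj (e.trans (map_one s).symm)) (by decide +kernel))
    rw [← e, core_conj H hm34]; exact ⟨v, hv, rfl⟩
  have hIc : s li * c1 * (s li)⁻¹ = c2 := by simp only [c1, c2]; rw [← map_inv, ← map_mul, ← map_mul, iv34]
  have hIA : s li * A * (s li)⁻¹ = B := by simp only [A, B]; rw [← map_inv, ← map_mul, ← map_mul, ia]
  have hIB : s li * B * (s li)⁻¹ = A⁻¹ := by simp only [A, B]; rw [← map_inv, ← map_mul, ← map_mul, ib, map_inv]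
  have n2 : A ∈ NE c2 ∧ B ∈ NE c2 := by
    refine ⟨?_, ?_⟩
    · have := NE_map H hm34 n1.2 (s li)
      rw [hIc, hIB] at this
      exact inv_mem_iff.1 this
    · have := NE_map H hm34 n1.1 (s li)
      rwa [hIc, hIA] at this
  have huBu' : u * B * u⁻¹ = A ^ k * B⁻¹ := by rw [hui]; exact huBu
  have ncj : ∀ {c : G}, orderOf c = 2 → A ∈ NE c → B ∈ NE c → A ∈ NE (u * c * u⁻¹) ∧ B ∈ NE (u * c * u⁻¹) := by
    intro c hc hA' hB'
    have h1 := NE_map H hc hA' u
    rw [huAu] at h1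
    refine ⟨h1, ?_⟩
    have h2 := NE_map H hc hB' u
    rw [huBu'] at h2
    have h3 := inv_mem (mul_mem (inv_mem (pow_mem h1 k)) h2)
    rw [inv_mul_cancel_left, inv_inv] at h3
    exact h3
  have n3 := ncj hm34 n1.1 n1.2
  have n' := ncj ht (htN la) (htN lb)
  rw [← hc3def] at n3
  rw [← hc'def] at n'
  -- lines
  have hI : Ind A B := fun v hv hvA hvB => by
    obtain ⟨τ, rfl, hτ2, hτ1⟩ := exists_tau H hA hψ hv hvA
    refine hτ1 (three_cent τ p5 hτ2 p3 p1 (hψ.inj ?_))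
    rw [map_mul, map_mul, hP]
    exact (((show Commute (ψ τ) A from hvA).pow_right k).mul_right hvB).eq
  have hI' : Ind B A := fun v hv h1 h2 => hI v hv h2 h1
  have hIp : Ind (A * B) A := fun v hv h1 h2 => hI v hv h2 (by
    have := (show Commute v A from h2).inv_right.mul_right (show Commute v (A * B) from h1)
    rwa [inv_mul_cancel_left] at this)
  have hIm : Ind (A * B⁻¹) A := fun v hv h1 h2 => hI v hv h2 (by
    have := ((show Commute v A from h2).inv_right.mul_right (show Commute v (A * B⁻¹) from h1)).inv_right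
    rwa [inv_mul_cancel_left, inv_inv] at this)
  have hAB : orderOf (A * B) = 3 := by
    simp only [A, B]; rw [← map_mul]; exact hord (o3 (by decide +kernel) (by decide +kernel))
  have hAB' : orderOf (A * B⁻¹) = 3 := by
    simp only [A, B]; rw [← map_inv, ← map_mul]; exact hord (o3 (by decide +kernel) (by decide +kernel))
  have cAB : A * (A * B) = A * B * A := by rw [mul_assoc, hBA]
  have cAB' : A * (A * B⁻¹) = A * B⁻¹ * A := by rw [mul_assoc, (show Commute B A from hBA).inv_left.eq]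
  set w1 := pt t s l1 with hw1def
  set f := pt t s l2 with hfdef
  have hw1z : w1 * (A * B) = A * B * w1 := by
    simp only [A, B]; rw [← map_mul]; exact M.pt_fix H _ hl1
  have hfz : f * (A * B⁻¹) = A * B⁻¹ * f := by
    simp only [A, B]; rw [← map_inv, ← map_mul]; exact M.pt_fix H _ hl2
  have hfJ : f * J = J * f := M.pt_fix H _ hlj2
  have hf01 : f * s v01 = s v01 * f := M.pt_fix H _ hl01
  have hw34 : w1 * c1 = c1 * w1 := M.pt_fix H _ hw34
  have mE : Meets t (A * B) := ⟨w1, M.pt_mem H _, M.pt_ne H _, hw1z⟩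
  have mE' : Meets t (A * B⁻¹) := ⟨f, M.pt_mem H _, M.pt_ne H _, hfz⟩
  have nmA : ¬ Meets t A := fun ⟨v, hv, hv1, hvA⟩ => hv1 (M.fpf H ha3 ha1 q34 o34 c34 hv hvA)
  have nmB : ¬ Meets t B := fun ⟨v, hv, hv1, hvB⟩ => hv1 (M.fpf H hb3 hb1 q01 o01 c01 hv hvB)
  have m1 : Meets c1 A := ⟨c1, (isCore H hm34).2.1, ne_one_two H hm34, sc c34⟩
  have m2 : Meets c2 B := ⟨c2, (isCore H hc2).2.1, ne_one_two H hc2, sc c02⟩
  have m3 : Meets c3 A := by
    have := m1.map H hm34 u
    rwa [huAu, ← hc3def] at this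
  have hE2 : core t ≠ core c2 := fun e => nmB (by
    obtain ⟨v, hv, h1, h2⟩ := m2; exact ⟨v, e ▸ hv, h1, h2⟩)
  have hE1 : core t ≠ core c1 := fun e => nmA (by
    obtain ⟨v, hv, h1, h2⟩ := m1; exact ⟨v, e ▸ hv, h1, h2⟩)
  have hE3 : core t ≠ core c3 := fun e => nmA (by
    obtain ⟨v, hv, h1, h2⟩ := m3; exact ⟨v, e ▸ hv, h1, h2⟩)
  have h12 : core c1 ≠ core c2 := fun e => nv35 (sinj (by
    rw [map_mul, map_mul]; exact core_comm H hm34 h35c (e.symm ▸ (isCore H hc2).2.1)))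
  have h13 : core c1 ≠ core c3 := fun e => u5n (hψ.inj (by
    have := core_comm H hm34 (e.symm ▸ (isCore H hc3).2.1 : c3 ∈ core c1) (isCore H hm34).2.1
    rw [hc3def, hui, ← hi1, hudef] at this
    simpa [map_mul, mul_assoc] using this))
  have hconj : ∀ {c d : G}, orderOf c = 2 → orderOf d = 2 → core (u * c * u⁻¹) = core (u * d * u⁻¹) →
      core c = core d := fun hc hd e => by
    rw [core_conj H hc, core_conj H hd] at e
    exact Subgroup.map_injective (MulAut.conj u).injective e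
  have h3' : core c3 ≠ core c' := fun e => hE1 (hconj ht hm34 e.symm)
  have hE' : core t ≠ core c' := fun e => hun (mem_normalizer_of_conj _ fun v hv => by
    rw [e, hc'def, core_conj H ht]; exact ⟨v, hv, rfl⟩)
  have hq : f ∈ core t → orderOf (u * f * u⁻¹) = 2 ∧ u * f * u⁻¹ ∈ core c' := fun hf => by
    refine ⟨by rw [← MulAut.conj_apply, MulEquiv.orderOf_eq]; exact M.pt_order H _, ?_⟩
    rw [hc'def, core_conj H ht]; exact ⟨f, hf, rfl⟩
  obtain ⟨hqo, hqc⟩ := hq (M.pt_mem H _)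
  set q := u * f * u⁻¹ with hqdef
  -- a point of the core does not commute with the transported point
  have hqno : ∀ (p z : G), p ∈ core t → p ≠ 1 → orderOf z = 3 → p * z = z * p → q * z = z * q → q * p ≠ p * q :=
    fun p z hp hp1 hz hpz hqz e => hE' (core_eq_of_meets H ht hc' hz hp hp1 hpz hqc (ne_one_two H hqo) hqz e).symm
  have hAw : ∀ (σ : A7) (z : G), z * A = A * z → pt t s σ * z = z * pt t s σ →
      A * pt t s σ * A⁻¹ * z = z * (A * pt t s σ * A⁻¹) := fun σ z hz h =>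
    (((show Commute A z from hz.symm).mul_left h).mul_left (show Commute A z from hz.symm).inv_left).eq
  have hAne : ∀ σ : A7, pt t s σ ≠ A * pt t s σ * A⁻¹ := fun σ e => M.pt_ne H σ
    (M.fpf H ha3 ha1 q34 o34 c34 (M.pt_mem H σ) (mul_inv_eq_iff_eq_mul.1 e.symm).symm)
  have hAmem : ∀ σ : A7, A * pt t s σ * A⁻¹ ∈ core t := fun σ => (mem_normalizer_iff.1 (htN la) _).1 (M.pt_mem H σ)
  -- the third relation from the value of the twist
  suffices hfin : k = 1 ∧ q = s v01 by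
    obtain ⟨rfl, hq1⟩ := hfin
    rw [hqdef, hui] at hq1
    exact ⟨by simpa using huBu, hq1⟩
  rcases exists_line_at H hm34 hA hBA n1.1 n1.2 m1 with mz | mz | mz
  · -- the second centraliser is that of the second three-cycle
    have m2A : Meets c2 A := by
      have := (mz.map H hm34 (s li))
      rw [hIc, hIB] at this
      simpa using this.inv
    have e23 : core c2 = core c3 :=
      ((two_cores_at H hA hB hBA hI hm34 hc2 hc3 m1 m2A m3 n1.2 n2.2 n3.2).resolve_left h12).resolve_left h13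
    have m3' : Meets c3 (A ^ k * B⁻¹) := by
      have := mz.map H hm34 u
      rwa [huBu', ← hc3def] at this
    have m3B : Meets c3 B := by
      obtain ⟨v, hv, h1, h2⟩ := m2; exact ⟨v, e23 ▸ hv, h1, h2⟩
    interval_cases k
    · exfalso
      -- three involutions in one normalizer
      have hqz : q * (A * B) = A * B * q := by
        have huz : u * (A * B⁻¹) * u⁻¹ = A * B := by
          rw [show u * (A * B⁻¹) * u⁻¹ = (u * A * u⁻¹) * (u * B * u⁻¹)⁻¹ by group, huAu, huBu']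
          simp
        rw [← huz, hqdef]
        calc _ = u * (f * (A * B⁻¹)) * u⁻¹ := by group
          _ = u * (A * B⁻¹ * f) * u⁻¹ := by rw [hfz]
          _ = _ := by group
      have hfN : f ∈ NE c3 := by
        rw [e23] at h01c
        exact NE_of_core H hc3 h01c (fun e => o01 (sinj (e.trans (map_one s).symm))) hf01
      have hqN : q ∈ NE c1 := by
        have := NE_map H hc3 hfN u
        rw [hc3def, show u * (u * c1 * u⁻¹) * u⁻¹ = (u * u) * c1 * (u * u)⁻¹ by group, hu2] at this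
        simpa [← hqdef] using this
      have hcl : (A * w1 * A⁻¹) * c1 = c1 * (A * w1 * A⁻¹) := by
        have := M.pt_fix H _ hw34'
        simpa [pt, A, w1, c1, mul_assoc] using this
      refine hqno w1 (A * B) (M.pt_mem H _) (M.pt_ne H _) hAB hw1z hqz ?_
      exact norm_pair H hm34 hAB (M.pt_order H _) (core_order H ht (hAmem l1) fun e => M.pt_ne H l1 (conj_eq_one_iff.1 e))
        hqo (mul_mem n1.1 n1.2) (cent_le_NE H hm34 (mem_centralizer_singleton_iff.2 hw34))
        (cent_le_NE H hm34 (mem_centralizer_singleton_iff.2 hcl)) hqN hw1z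
        (hAw l1 _ cAB.symm hw1z) hqz (core_comm H ht (M.pt_mem H _) (hAmem l1)) (hAne l1)
    · exfalso
      rw [pow_one] at m3'
      exact not_three_lines H hc3 hA hB hBA hI n3.1 n3.2 m3 m3B m3' (Or.inr rfl)
    · exfalso
      have e : (A ^ 2 * B⁻¹)⁻¹ = A * B := by
        rw [mul_inv_rev, inv_inv, show (A ^ 2)⁻¹ = A from inv_eq_of_mul_eq_one_right (by rw [pow_two, hA3]), hBA]
      have hm := m3'.inv
      rw [e] at hm
      exact not_three_lines H hc3 hA hB hBA hI n3.1 n3.2 m3 m3B hm (Or.inl rfl)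
  · -- the second centraliser is that of the product
    have m2' : Meets c2 (A * B⁻¹) := by
      have := mz.map H hm34 (s li)
      rw [hIc, show s li * (A * B) * (s li)⁻¹ = (s li * A * (s li)⁻¹) * (s li * B * (s li)⁻¹) by group, hIA, hIB] at this
      simpa [mul_inv_rev] using this.inv
    have m3' : Meets c3 (A * (A ^ k * B⁻¹)) := by
      have := mz.map H hm34 u
      rwa [show u * (A * B) * u⁻¹ = (u * A * u⁻¹) * (u * B * u⁻¹) by group, huAu, huBu', ← hc3def] at this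
    interval_cases k
    · exfalso
      rw [pow_zero, one_mul] at m3'
      have e23 : core c2 = core c3 := ((two_cores_at H hAB' hA cAB' hIm ht hc2 hc3 mE' m2' m3' (htN la) n2.1 n3.1).resolve_left
        hE2).resolve_left hE3
      have : Meets c3 B := by obtain ⟨v, hv, h1, h2⟩ := m2; exact ⟨v, e23 ▸ hv, h1, h2⟩
      exact not_three_lines H hc3 hA hB hBA hI n3.1 n3.2 m3 this m3' (Or.inr rfl)
    · exfalso
      have hm := m3'.inv
      rw [show (A * (A ^ 1 * B⁻¹))⁻¹ = A * B by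
        rw [pow_one, mul_inv_rev, mul_inv_rev, inv_inv, mul_assoc, ← mul_inv_rev,
          inv_eq_of_mul_eq_one_left (show A * (A * A) = 1 by rw [← mul_assoc, hA3]), hBA]] at hm
      rcases two_cores_at H hAB hA cAB hIp ht hm34 hc3 mE mz hm (htN la) n1.1 n3.1 with h | h | h
      exacts [hE1 h, hE3 h, h13 h]
    · exfalso
      have hA2 : A * (A ^ 2 * B⁻¹) = B⁻¹ := by rw [← mul_assoc, ← pow_succ', show 2 + 1 = 3 from rfl, ← hA, pow_orderOf_eq_one, one_mul]
      rw [hA2] at m3'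
      have m3B : Meets c3 B := by simpa using m3'.inv
      have m'B : Meets c' B := by
        have := (mE.map H ht u).inv
        rw [show u * (A * B) * u⁻¹ = (u * A * u⁻¹) * (u * B * u⁻¹) by group, huAu, huBu', hA2, inv_inv,
          ← hc'def] at this
        exact this
      have e2 : core c2 = core c' := by
        rcases two_cores_at H hB hA hBA.symm hI' hc2 hc3 hc' m2 m3B m'B n2.1 n3.1 n'.1 with h | h | h
        · exact (not_three_lines H hc3 hA hB hBA hI n3.1 n3.2 m3 m3B (by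
            obtain ⟨v, hv, h1, h2⟩ := m2'; exact ⟨v, h ▸ hv, h1, h2⟩) (Or.inr rfl)).elim
        · exact h
        · exact absurd h h3'
      have huz : u * (A * B⁻¹) * u⁻¹ = (A * B⁻¹)⁻¹ := by
        rw [show u * (A * B⁻¹) * u⁻¹ = (u * A * u⁻¹) * (u * B * u⁻¹)⁻¹ by group, huAu, huBu',
          mul_inv_rev, mul_inv_rev, inv_inv, inv_eq_of_mul_eq_one_right (show A ^ 2 * A = 1 by rw [pow_two, hA3]),
          hBA, ← mul_assoc, ← pow_two]
        refine eq_mul_inv_iff_mul_eq.2 ?_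
        rw [mul_assoc, hBA, ← mul_assoc, pow_two, hA3, one_mul]
      have hqz : q * (A * B⁻¹) = A * B⁻¹ * q := by
        have hc : Commute f (A * B⁻¹)⁻¹ := (show Commute f (A * B⁻¹) from hfz).inv_right
        have huz' : A * B⁻¹ = u * (A * B⁻¹)⁻¹ * u⁻¹ := by
          rw [show u * (A * B⁻¹)⁻¹ * u⁻¹ = (u * (A * B⁻¹) * u⁻¹)⁻¹ by group, huz, inv_inv]
        rw [huz', hqdef]
        calc _ = u * (f * (A * B⁻¹)⁻¹) * u⁻¹ := by group
          _ = u * ((A * B⁻¹)⁻¹ * f) * u⁻¹ := by rw [hc.eq]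
          _ = _ := by group
      have hw : u * s v01 * u⁻¹ ∈ core t := by
        have h := h01c
        rw [e2, hc'def, core_conj H ht] at h
        obtain ⟨v, hv, hve⟩ := h
        have : u * s v01 * u⁻¹ = v := by
          rw [← hve]; show u * (u * v * u⁻¹) * u⁻¹ = v
          rw [show u * (u * v * u⁻¹) * u⁻¹ = (u * u) * v * (u * u)⁻¹ by group, hu2]; group
        exact this ▸ hv
      have hqN : q ∈ NE t := NE_of_core H ht hw (fun e => o01 (sinj ((conj_eq_one_iff.1 e).trans (map_one s).symm))) (by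
        rw [hqdef]
        calc _ = u * (f * s v01) * u⁻¹ := by group
          _ = u * (s v01 * f) * u⁻¹ := by rw [hf01]
          _ = _ := by group)
      refine hqno f (A * B⁻¹) (M.pt_mem H _) (M.pt_ne H _) hAB' hfz hqz ?_
      exact norm_pair H ht hAB' (M.pt_order H _) (core_order H ht (hAmem l2) fun e => M.pt_ne H l2 (conj_eq_one_iff.1 e))
        hqo (mul_mem (htN la) (inv_mem (htN lb))) (le_normalizer (M.pt_mem H _)) (le_normalizer (hAmem l2)) hqN hfz
        (hAw l2 _ cAB'.symm hfz) hqz (core_comm H ht (M.pt_mem H _) (hAmem l2)) (hAne l2)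
  · -- the second centraliser is that of the quotient
    have m2' : Meets c2 (A * B) := by
      have := mz.map H hm34 (s li)
      rw [hIc, show s li * (A * B⁻¹) * (s li)⁻¹ = (s li * A * (s li)⁻¹) * (s li * B * (s li)⁻¹)⁻¹ by group, hIA, hIB,
        inv_inv, hBA] at this
      exact this
    have m3' : Meets c3 (A * (A ^ k * B⁻¹)⁻¹) := by
      have := mz.map H hm34 u
      rwa [show u * (A * B⁻¹) * u⁻¹ = (u * A * u⁻¹) * (u * B * u⁻¹)⁻¹ by group, huAu, huBu', ← hc3def] at this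
    interval_cases k
    · exfalso
      rw [pow_zero, one_mul, inv_inv] at m3'
      have e23 : core c2 = core c3 := ((two_cores_at H hAB hA cAB hIp ht hc2 hc3 mE m2' m3' (htN la) n2.1 n3.1).resolve_left
        hE2).resolve_left hE3
      have : Meets c3 B := by obtain ⟨v, hv, h1, h2⟩ := m2; exact ⟨v, e23 ▸ hv, h1, h2⟩
      exact not_three_lines H hc3 hA hB hBA hI n3.1 n3.2 m3 this m3' (Or.inl rfl)
    · have hA1 : A * (A ^ 1 * B⁻¹)⁻¹ = B := by
        rw [pow_one, mul_inv_rev, inv_inv, ← mul_assoc, ← hBA, mul_inv_cancel_right]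
      rw [hA1] at m3'
      have m'B : Meets c' B := by
        have := mE'.map H ht u
        rwa [show u * (A * B⁻¹) * u⁻¹ = (u * A * u⁻¹) * (u * B * u⁻¹)⁻¹ by group, huAu, huBu', hA1,
          ← hc'def] at this
      have e2 : core c2 = core c' := by
        rcases two_cores_at H hB hA hBA.symm hI' hc2 hc3 hc' m2 m3' m'B n2.1 n3.1 n'.1 with h | h | h
        · exact (not_three_lines H hc3 hA hB hBA hI n3.1 n3.2 m3 m3' (by
            obtain ⟨v, hv, h1, h2⟩ := m2'; exact ⟨v, h ▸ hv, h1, h2⟩) (Or.inl rfl)).elim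
        · exact h
        · exact absurd h h3'
      refine ⟨rfl, ?_⟩
      have hqB : q * B = B * q := by
        have huz : u * (A * B⁻¹) * u⁻¹ = B := by
          rw [show u * (A * B⁻¹) * u⁻¹ = (u * A * u⁻¹) * (u * B * u⁻¹)⁻¹ by group, huAu, huBu', hA1]
        rw [← huz, hqdef]
        calc _ = u * (f * (A * B⁻¹)) * u⁻¹ := by group
          _ = u * (A * B⁻¹ * f) * u⁻¹ := by rw [hfz]
          _ = _ := by group
      have hqJ : q * J = J * q :=
        (((show Commute u J from huJ).mul_left hfJ).mul_left (show Commute u J from huJ).inv_left).eq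
      have hqc2 : q ∈ core c2 := e2.symm ▸ hqc
      have hW := (core_four H hc2 hB (sc c02)).1
      have hset : (core c2 ⊓ centralizer ({B} : Set G) : Subgroup G) = ({1, s v01, c2, s v01 * c2} : Set G) := by
        refine (Set.eq_of_subset_of_ncard_le ?_ ?_ (Set.toFinite _)).symm
        · rintro z (rfl | rfl | rfl | rfl)
          · exact one_mem _
          · exact mem_inf.2 ⟨h01c, mem_centralizer_singleton_iff.2 (sc c01)⟩
          · exact mem_inf.2 ⟨(isCore H hc2).2.1, mem_centralizer_singleton_iff.2 (sc c02)⟩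
          · exact mem_inf.2 ⟨mul_mem h01c (isCore H hc2).2.1,
              mul_mem (mem_centralizer_singleton_iff.2 (sc c01)) (mem_centralizer_singleton_iff.2 (sc c02))⟩
        · rw [← Nat.card_coe_set_eq]
          change Nat.card ↥(core c2 ⊓ centralizer ({B} : Set G) : Subgroup G) ≤ _
          have z1 : s v01 ≠ 1 := fun e => o01 (sinj (e.trans (map_one s).symm))
          have z2 : c2 ≠ 1 := ne_one_two H hc2
          have z3 : s v01 ≠ c2 := fun e => absurd (sinj e) (by decide +kernel)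
          have z4 : s v01 * c2 ≠ 1 := fun e => z3 ((mul_eq_one_iff_eq_inv.1 e).trans (core_inv H hc2 (isCore H hc2).2.1))
          rw [hW, Set.ncard_insert_of_notMem (by simp [Ne.symm z1, Ne.symm z2, Ne.symm z4]),
            Set.ncard_eq_three.2 ⟨_, _, _, z3, fun e => z2 (mul_eq_left.1 e.symm), fun e => z1 (mul_eq_right.1 e.symm), rfl⟩]
      have hm : q ∈ ((core c2 ⊓ centralizer ({B} : Set G) : Subgroup G) : Set G) :=
        mem_inf.2 ⟨hqc2, mem_centralizer_singleton_iff.2 hqB⟩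
      rw [hset] at hm
      rcases hm with h | h | h | h
      · exact absurd h (ne_one_two H hqo)
      · exact h
      · rw [h] at hqJ
        exact absurd (sinj (by rw [map_mul, map_mul]; exact hqJ)) nj02
      · rw [h] at hqJ
        exact absurd (sinj (by simp only [map_mul]; exact hqJ)) nj06
    · exfalso
      have hm := m3'.inv
      rw [show (A * (A ^ 2 * B⁻¹)⁻¹)⁻¹ = A * B⁻¹ by
        rw [mul_inv_rev, inv_inv, mul_assoc, (show Commute B A from hBA).inv_left.inv_right.eq, ← mul_assoc,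
          show A ^ 2 * A⁻¹ = A by rw [pow_two, mul_inv_cancel_right]]] at hm
      rcases two_cores_at H hAB' hA cAB' hIm ht hm34 hc3 mE' mz hm (htN la) n1.1 n3.1 with h | h | h
      exacts [hE1 h, hE3 h, h13 h]

end Cfsg.Lib.M23Nse
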