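import Mathlib.GroupTheory.SpecificGroups.Alternating
import Mathlib.GroupTheory.Perm.Cycle.Type
import Mathlib.Tactic

/-!
Small facts on the alternating group of degree seven: normal forms of its stabilisers of order 168.
-/

set_option autoImplicit false
set_option maxRecDepth 100000
set_option synthInstance.maxSize 4000

namespace Cfsg.Lib.M23Nse

open Equiv

/-- a seven-cycle -/
def c0 : alternatingGroup (Fin 7) :=
  ⟨swap 0 1 * swap 1 2 * swap 2 3 * swap 3 5 * swap 5 4 * swap 4 6, Perm.mem_alternatingGroup.2 (by decide +kernel)⟩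

/-- an involution generating a group of order 168 with the seven-cycle -/
def t0 : alternatingGroup (Fin 7) := ⟨swap 1 2 * swap 3 4, Perm.mem_alternatingGroup.2 (by decide +kernel)⟩

/-- a permutation inducing all automorphisms on the seven-cycle -/
def mP : Perm (Fin 7) := swap 1 3 * swap 3 2 * swap 2 6 * swap 6 5 * swap 5 4

/-- order five, or order six -/
def Bad (p : Perm (Fin 7)) : Prop :=
  (p * p * p * p * p = 1 ∧ p ≠ 1) ∨ (p * p * p * (p * p * p) = 1 ∧ p * p ≠ 1 ∧ p * p * p ≠ 1)

instance (p : Perm (Fin 7)) : Decidable (Bad p) := by unfold Bad; infer_instance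

theorem invol_data : ∀ a b c d : Fin 7, a < b → c < d → a < c → b ≠ c → b ≠ d →
    Bad ((c0 : Perm (Fin 7)) * (swap a b * swap c d)) ∨
    Bad ((c0 : Perm (Fin 7)) * c0 * (swap a b * swap c d)) ∨
    Bad ((c0 : Perm (Fin 7)) * c0 * c0 * (swap a b * swap c d)) ∨
    ∃ i : Fin 7, ∃ j : Fin 6, ((c0 : Perm (Fin 7)) ^ (i : ℕ) * mP ^ (j : ℕ)) * (swap a b * swap c d) =
      (t0 : Perm (Fin 7)) * ((c0 : Perm (Fin 7)) ^ (i : ℕ) * mP ^ (j : ℕ)) := by decide +kernel

theorem norm_data : ∀ i : Fin 7, ∀ j : Fin 6, ∃ k : Fin 7, (c0 : Perm (Fin 7)) * ((c0 : Perm (Fin 7)) ^ (i : ℕ) * mP ^ (j : ℕ)) =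
    ((c0 : Perm (Fin 7)) ^ (i : ℕ) * mP ^ (j : ℕ)) * (c0 : Perm (Fin 7)) ^ (k : ℕ) := by decide +kernel

theorem invol_form (τ : alternatingGroup (Fin 7)) (h : τ * τ = 1) (h1 : τ ≠ 1) :
    ∃ a b c d : Fin 7, a < b ∧ c < d ∧ a < c ∧ b ≠ c ∧ b ≠ d ∧ (τ : Perm (Fin 7)) = swap a b * swap c d := by
  set p := (τ : Perm (Fin 7)) with hp
  have hpp : p * p = 1 := congrArg Subtype.val h
  have hinv : ∀ x, p (p x) = x := fun x => by rw [← Perm.mul_apply, hpp, Perm.one_apply]
  have ho : orderOf p = 2 := orderOf_eq_prime (p := 2) (by rw [pow_two, hpp]) fun e => h1 (Subtype.ext e)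
  obtain ⟨n, hn⟩ := Perm.cycleType_prime_order (σ := p) (by rw [ho]; exact Nat.prime_two)
  rw [ho] at hn
  have hsum := p.sum_cycleType
  rw [hn, Multiset.sum_replicate, smul_eq_mul] at hsum
  have hle : p.support.card ≤ 7 := by simpa using Finset.card_le_univ p.support
  have hs := Perm.sign_of_cycleType p
  rw [hn, Multiset.sum_replicate, Multiset.card_replicate, Perm.mem_alternatingGroup.1 τ.2, smul_eq_mul] at hs
  have h4 : p.support.card = 4 := by
    rcases n with _ | _ | n
    · norm_num at hs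
    · omega
    · rcases n with _ | n
      · norm_num at hs
      · omega
  have hmem : ∀ x, x ∈ p.support → p x ∈ p.support := fun x hx => Perm.apply_mem_support.2 hx
  have hne : p.support.Nonempty := Finset.card_pos.1 (by omega)
  set a := p.support.min' hne with ha
  have ham : a ∈ p.support := Finset.min'_mem _ _
  set b := p a
  have hab : a < b := lt_of_le_of_ne (Finset.min'_le _ _ (hmem _ ham)) (Ne.symm (Perm.mem_support.1 ham))
  set T := (p.support.erase a).erase b with hT
  have hTc : T.card = 2 := by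
    rw [hT, Finset.card_erase_of_mem (Finset.mem_erase.2 ⟨hab.ne', hmem _ ham⟩), Finset.card_erase_of_mem ham, h4]
  have hTne : T.Nonempty := Finset.card_pos.1 (by omega)
  set c := T.min' hTne
  have hc : c ∈ T := Finset.min'_mem _ _
  have hc' : c ≠ b ∧ c ≠ a ∧ c ∈ p.support := by simpa [hT] using hc
  set d := p c
  have hd : d ∈ T := by
    refine Finset.mem_erase.2 ⟨fun e => hc'.2.1 (p.injective e), Finset.mem_erase.2 ⟨fun e => hc'.1 ?_, hmem _ hc'.2.2⟩⟩
    rw [← hinv c]; exact congrArg p e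
  have hcd : c < d := lt_of_le_of_ne (Finset.min'_le _ _ hd) (Ne.symm (Perm.mem_support.1 hc'.2.2))
  have hac : a < c := lt_of_le_of_ne (Finset.min'_le _ _ hc'.2.2) (Ne.symm hc'.2.1)
  have hd' : d ≠ b ∧ d ≠ a ∧ d ∈ p.support := by simpa [hT] using hd
  refine ⟨a, b, c, d, hab, hcd, hac, Ne.symm hc'.1, Ne.symm hd'.1, ?_⟩
  have hsupp : p.support = {a, b, c, d} := by
    refine (Finset.eq_of_subset_of_card_le ?_ ?_).symm
    · intro x hx
      simp only [Finset.mem_insert, Finset.mem_singleton] at hx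
      rcases hx with rfl | rfl | rfl | rfl
      exacts [ham, hmem _ ham, hc'.2.2, hd'.2.2]
    · rw [h4, Finset.card_insert_of_notMem (by simp [hab.ne, hac.ne, Ne.symm hd'.2.1]),
        Finset.card_insert_of_notMem (by simp [Ne.symm hc'.1, Ne.symm hd'.1]), Finset.card_pair hcd.ne]
  ext x
  rw [Perm.mul_apply]
  by_cases hx : x ∈ p.support
  · rw [hsupp] at hx
    simp only [Finset.mem_insert, Finset.mem_singleton] at hx
    rcases hx with rfl | rfl | rfl | rfl
    · rw [swap_apply_of_ne_of_ne hac.ne (Ne.symm hd'.2.1), swap_apply_left]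
    · rw [swap_apply_of_ne_of_ne (Ne.symm hc'.1) (Ne.symm hd'.1), swap_apply_right]
      exact congrArg Fin.val (hinv a)
    · rw [swap_apply_left, swap_apply_of_ne_of_ne hd'.2.1 hd'.1]
    · rw [swap_apply_right, swap_apply_of_ne_of_ne hc'.2.1 hc'.1]
      exact congrArg Fin.val (hinv c)
  · have hx' := Perm.notMem_support.1 hx
    rw [hsupp] at hx
    simp only [Finset.mem_insert, Finset.mem_singleton, not_or] at hx
    rw [swap_apply_of_ne_of_ne hx.2.2.1 hx.2.2.2, swap_apply_of_ne_of_ne hx.1 hx.2.1, hx']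

/-- no element of order fifteen -/
theorem no_fifteen (σ : alternatingGroup (Fin 7)) (h : orderOf σ = 15) : False := by
  set p := (σ : Perm (Fin 7))
  have ho : orderOf p = 15 := by rw [Subgroup.orderOf_coe, h]
  have hl := p.lcm_cycleType
  rw [ho] at hl
  have hsum : p.cycleType.sum ≤ 7 := by
    rw [p.sum_cycleType]; simpa using Finset.card_le_univ p.support
  have hcases : ∀ n ∈ p.cycleType, n = 3 ∨ n = 5 := fun n hn => by
    have h2 := Perm.two_le_of_mem_cycleType hn
    have h7 : n ≤ 7 := (Multiset.le_sum_of_mem hn).trans hsum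
    have hd : n ∣ 15 := hl ▸ Multiset.dvd_lcm hn
    interval_cases n <;> norm_num at hd <;> simp
  by_cases h5 : 5 ∈ p.cycleType
  · obtain ⟨r, hr⟩ := Multiset.exists_cons_of_mem h5
    rw [hr, Multiset.sum_cons] at hsum
    have hr0 : r = 0 := Multiset.eq_zero_of_forall_notMem fun n hn => by
      have hn' : n ∈ p.cycleType := hr ▸ Multiset.mem_cons_of_mem hn
      have := Multiset.le_sum_of_mem hn
      rcases hcases n hn' with rfl | rfl <;> omega
    rw [hr, hr0] at hl
    simp at hl
  · have : p.cycleType.lcm ∣ 3 := Multiset.lcm_dvd.2 fun n hn => by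
      rcases hcases n hn with rfl | rfl
      · exact dvd_rfl
      · exact absurd hn h5
    rw [hl] at this
    norm_num at this

end Cfsg.Lib.M23Nse
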