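import Cfsg.Agent.M23Nse.Complement
import Cfsg.Agent.M23Nse.Lines

/-!
A normal form for the action of the alternating group of degree seven on a core.
-/

set_option autoImplicit false
set_option linter.unusedSectionVars false
set_option linter.style.haveILetI false
set_option maxRecDepth 100000

namespace Cfsg.Lib.M23Nse

open Subgroup Equiv Cfsg.Lib.SameOrder Cfsg.Lib.Small Cfsg.Lib.MathieuEleven

universe u

/-- a word in the two generators of the stabiliser -/
def wd : List Bool → A7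
  | [] => 1
  | b :: w => (if b then t0 else c0) * wd w

/-- the five even involutions used as generators -/
def gA : Fin 5 → A7 := ![k1, k2, k3, k4, ⟨swap 1 2 * swap 3 4, Perm.mem_alternatingGroup.2 (by decide +kernel)⟩]

variable {G : Type u} [Group G] [Finite G]

local instance fact_two_md : Fact (Nat.Prime 2) := ⟨Nat.prime_two⟩
local instance fact_three_md : Fact (Nat.Prime 3) := ⟨Nat.prime_three⟩
local instance fact_seven_md : Fact (Nat.Prime 7) := ⟨by norm_num⟩

/-- the point of the core with a given label -/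
def pt (t : G) (s : A7 →* G) (σ : A7) : G := s σ * t * (s σ)⁻¹

/-- the normalised action -/
structure Model (t : G) (s : A7 →* G) : Prop where
  ord : orderOf t = 2
  split : ∃ π : ↥(NE t) →* A7, Quo t π ∧ ∀ σ, ∃ h : s σ ∈ NE t, π ⟨s σ, h⟩ = σ
  c_fix : s c0 * t = t * s c0
  t_fix : s t0 * t = t * s t0

variable (H : Fields G)
include H

variable {t : G} {s : A7 →* G} (M : Model t s)
include M

theorem Model.mem (σ : A7) : s σ ∈ NE t := by
  obtain ⟨π, -, h⟩ := M.split
  exact (h σ).1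

theorem Model.inter {σ : A7} (h : s σ ∈ core t) : σ = 1 := by
  obtain ⟨π, Q, hs⟩ := M.split
  obtain ⟨hm, hσ⟩ := hs σ
  rw [← hσ]
  exact MonoidHom.mem_ker.1 (Q.ker.ge (mem_subgroupOf.2 h))

theorem Model.inj : Function.Injective s := by
  rw [injective_iff_map_eq_one]
  exact fun σ h => M.inter H (by rw [h]; exact one_mem _)

theorem Model.fpf {σ τ : A7} (hσ : σ * σ * σ = 1) (hσ1 : σ ≠ 1) (hτ : τ * τ = 1) (hτ1 : τ ≠ 1)
    (hc : τ * σ = σ * τ) {v : G} (hv : v ∈ core t) (hvs : v * s σ = s σ * v) : v = 1 := by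
  obtain ⟨π, Q, hs⟩ := M.split
  obtain ⟨hm, hπ⟩ := hs σ
  have := Q.fpf H M.ord (x := ⟨s σ, hm⟩) (v := ⟨v, le_normalizer hv⟩)
    (Subtype.ext (by simp [← map_mul, hσ])) (by rw [hπ]; exact hσ1) hτ hτ1 (by rw [hπ]; exact hc)
    (MonoidHom.mem_ker.1 (Q.ker.ge (mem_subgroupOf.2 hv))) (Subtype.ext hvs)
  exact congrArg Subtype.val this

theorem Model.bad {σ : A7} (hσ : Bad (σ : Perm (Fin 7))) {v : G} (hv : v ∈ core t)
    (hvs : v * s σ = s σ * v) : v = 1 := by
  rcases hσ with ⟨h5, h1⟩ | ⟨h6, h2, h3⟩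
  · by_contra hv1
    have hσ5 : σ * σ * σ * σ * σ = 1 := Subtype.ext h5
    haveI : Fact (Nat.Prime 5) := ⟨Nat.prime_five⟩
    have ho : orderOf (s σ) = 5 := by
      refine orderOf_eq_prime ?_ fun e => h1 ?_
      · rw [← map_pow, show σ ^ 5 = σ * σ * σ * σ * σ by simp [pow_succ], hσ5, map_one]
      · rw [M.inj H (e.trans (map_one s).symm)]; rfl
    have hm := comm_order H hvs (by rw [core_order H M.ord hv hv1, ho]; norm_num)
    rw [core_order H M.ord hv hv1, ho] at hm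
    revert hm; decide +kernel
  · have e6 : σ * σ * σ * (σ * σ * σ) = 1 := Subtype.ext h6
    refine M.fpf H (σ := σ * σ) (τ := σ * σ * σ) ?_ (fun e => h2 (congrArg Subtype.val e)) e6
      (fun e => h3 (congrArg Subtype.val e)) (by group) hv ?_
    · rw [← e6]; group
    · rw [map_mul, ← mul_assoc, hvs, mul_assoc, hvs, mul_assoc]

theorem Model.fix_wd : ∀ w : List Bool, s (wd w) * t = t * s (wd w)
  | [] => by simp [wd]
  | b :: w => by
    rw [wd, map_mul]
    refine ((show Commute (s (if b then t0 else c0)) t from ?_).mul_left (Model.fix_wd w)).eq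
    cases b
    exacts [M.c_fix, M.t_fix]

theorem Model.pt_mem (σ : A7) : pt t s σ ∈ core t :=
  (mem_normalizer_iff.1 (M.mem H σ) t).1 (isCore H M.ord).2.1

theorem Model.pt_ne (σ : A7) : pt t s σ ≠ 1 := fun e => ne_one_two H M.ord (conj_eq_one_iff.1 e)

theorem Model.pt_order (σ : A7) : orderOf (pt t s σ) = 2 := core_order H M.ord (M.pt_mem H σ) (M.pt_ne H σ)

theorem Model.pt_fix {σ ρ : A7} (w : List Bool) (h : ρ * σ = σ * wd w) :
    pt t s σ * s ρ = s ρ * pt t s σ := by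
  have hw := M.fix_wd H w
  have e : s ρ = s σ * s (wd w) * (s σ)⁻¹ := by
    rw [← map_mul, ← h, map_mul, mul_inv_cancel_right]
  rw [pt, e]
  calc s σ * t * (s σ)⁻¹ * (s σ * s (wd w) * (s σ)⁻¹) = s σ * (t * s (wd w)) * (s σ)⁻¹ := by group
    _ = s σ * (s (wd w) * t) * (s σ)⁻¹ := by rw [hw]
    _ = _ := by group

theorem Model.pt_distinct {σ σ' : A7} (w : List Bool) (h : Bad ((σ⁻¹ * σ' * wd w : A7) : Perm (Fin 7))) :
    pt t s σ ≠ pt t s σ' := fun e => by
  refine ne_one_two H M.ord (M.bad H h (isCore H M.ord).2.1 ?_)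
  have hw := M.fix_wd H w
  simp only [pt] at e
  have e' : (s σ)⁻¹ * s σ' * t = t * ((s σ)⁻¹ * s σ') := by
    calc (s σ)⁻¹ * s σ' * t = (s σ)⁻¹ * (s σ' * t * (s σ')⁻¹) * s σ' := by group
      _ = (s σ)⁻¹ * (s σ * t * (s σ)⁻¹) * s σ' := by rw [e]
      _ = _ := by group
  rw [map_mul, map_mul, map_inv, ← mul_assoc, ← e', mul_assoc ((s σ)⁻¹ * s σ'), ← hw]
  group

/-- three points fixed by one element of order three add up to zero -/
theorem Model.pt_sum {p q r ρ : A7} (hρ : ρ * ρ * ρ = 1) (hρ1 : ρ ≠ 1)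
    (hp : pt t s p * s ρ = s ρ * pt t s p) (hq : pt t s q * s ρ = s ρ * pt t s q)
    (hr : pt t s r * s ρ = s ρ * pt t s r) (hpq : pt t s p ≠ pt t s q) (hpr : pt t s p ≠ pt t s r)
    (hqr : pt t s q ≠ pt t s r) : pt t s p * pt t s q * pt t s r = 1 := by
  classical
  set a := pt t s p
  set b := pt t s q
  set c := pt t s r
  have hx : orderOf (s ρ) = 3 := by
    refine orderOf_eq_prime ?_ fun e => hρ1 (M.inj H (e.trans (map_one s).symm))
    rw [← map_pow, show ρ ^ 3 = ρ * ρ * ρ by simp [pow_succ], hρ, map_one]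
  have h4 := (core_four H (M.pt_order H p) hx hp).1
  rw [core_stable H M.ord (M.pt_mem H p) (M.pt_ne H p)] at h4
  set W := core t ⊓ centralizer ({s ρ} : Set G)
  have ha : a ∈ W := mem_inf.2 ⟨M.pt_mem H p, mem_centralizer_singleton_iff.2 hp⟩
  have hb : b ∈ W := mem_inf.2 ⟨M.pt_mem H q, mem_centralizer_singleton_iff.2 hq⟩
  have hc : c ∈ W := mem_inf.2 ⟨M.pt_mem H r, mem_centralizer_singleton_iff.2 hr⟩
  have hset : (W : Set G) = {1, a, b, c} := by
    refine (Set.eq_of_subset_of_ncard_le ?_ ?_ (Set.toFinite _)).symm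
    · rintro z (rfl | rfl | rfl | rfl)
      exacts [one_mem _, ha, hb, hc]
    · rw [← Nat.card_coe_set_eq]
      change Nat.card ↥W ≤ _
      rw [h4, Set.ncard_insert_of_notMem (by simp [Ne.symm (M.pt_ne H p), Ne.symm (M.pt_ne H q), Ne.symm (M.pt_ne H r), a, b, c]),
        Set.ncard_eq_three.2 ⟨a, b, c, hpq, hpr, hqr, rfl⟩]
  have hm : a * b ∈ W := mul_mem ha hb
  rw [← SetLike.mem_coe, hset] at hm
  rcases hm with h | h | h | h
  · exact absurd ((eq_inv_of_mul_eq_one_right h).trans (core_inv H M.ord (M.pt_mem H p))).symm hpq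
  · exact absurd (mul_eq_left.1 h) (M.pt_ne H q)
  · exact absurd (mul_eq_right.1 h) (M.pt_ne H p)
  · rw [h]; exact core_sq H M.ord c (M.pt_mem H r)

theorem Model.order_pair {g r : G} (hg : g ∈ NE t) (hr : r ∈ NE t) (hgo : orderOf g = 3) (hro : orderOf r = 5)
    (hc : g * r = r * g) : False := by
  obtain ⟨π, Q, -⟩ := M.split
  set g' : ↥(NE t) := ⟨g, hg⟩
  set r' : ↥(NE t) := ⟨r, hr⟩
  have hcard : ∀ z : ↥(NE t), π z = 1 → orderOf (z : G) ∣ 2 := fun z hz =>
    orderOf_dvd_of_pow_eq_one (by rw [pow_two]; exact core_sq H M.ord _ (Q.mem_core H hz))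
  haveI : Fact (Nat.Prime 5) := ⟨Nat.prime_five⟩
  have h3 : orderOf (π g') = 3 := by
    refine orderOf_eq_prime ?_ fun e => ?_
    · rw [← map_pow, show g' ^ 3 = 1 from Subtype.ext (by simp only [Subgroup.coe_pow, g']; rw [← hgo, pow_orderOf_eq_one]; rfl), map_one]
    · have := hcard g' e
      rw [show orderOf (g' : G) = 3 from hgo] at this
      norm_num at this
  have h5 : orderOf (π r') = 5 := by
    refine orderOf_eq_prime ?_ fun e => ?_
    · rw [← map_pow, show r' ^ 5 = 1 from Subtype.ext (by simp only [Subgroup.coe_pow, r']; rw [← hro, pow_orderOf_eq_one]; rfl), map_one]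
    · have := hcard r' e
      rw [show orderOf (r' : G) = 5 from hro] at this
      norm_num at this
  refine no_fifteen (π g' * π r') ?_
  rw [orderOf_mul_coprime (by rw [← map_mul, ← map_mul]; exact congrArg π (Subtype.ext hc)) h3 h5 (by norm_num)]

omit M in
theorem exists_model {t : G} (ht : orderOf t = 2) : ∃ s : A7 →* G, Model t s := by
  classical
  obtain ⟨π, Q⟩ := exists_quo H ht
  obtain ⟨s0, hs0⟩ := Q.exists_section H ht
  obtain ⟨hC, htE, hcE, hn⟩ := isCore H ht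
  set C' := (centralizer ({t} : Set G)).subgroupOf (NE t)
  set f : ↥C' →* A7 := π.comp C'.subtype
  have hker : Nat.card ↥f.ker = 16 := by
    rw [← hcE]
    refine Nat.card_eq_of_bijective (fun w : ↥f.ker =>
      (⟨((w.1.1 : ↥(NE t)) : G), Q.mem_core H (MonoidHom.mem_ker.1 w.2)⟩ : ↥(core t))) ⟨?_, ?_⟩
    · exact fun a b e => Subtype.ext (Subtype.ext (Subtype.ext (Subtype.mk.inj e)))
    · intro v
      refine ⟨⟨⟨⟨v.1, le_normalizer v.2⟩, mem_subgroupOf.2 (hC v.2)⟩, ?_⟩, rfl⟩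
      rw [MonoidHom.mem_ker]
      show π ⟨v.1, le_normalizer v.2⟩ = 1
      exact MonoidHom.mem_ker.1 (Q.ker.ge (mem_subgroupOf.2 v.2))
  have hrange : Nat.card ↥f.range = 168 := by
    have h := Subgroup.card_mul_index f.ker
    rw [hker, Subgroup.index_ker, Nat.card_congr (Subgroup.subgroupOfEquivOfLe (cent_le_NE H ht)).toEquiv,
      cent_two H ht] at h
    omega
  have hfix : ∀ σ ∈ f.range, ((s0 σ : ↥(NE t)) : G) * t = t * ((s0 σ : ↥(NE t)) : G) := by
    rintro _ ⟨g, rfl⟩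
    set v := (g.1)⁻¹ * s0 (f g) with hv
    have hv1 : π v = 1 := by simp [hv, hs0, f]
    have e : (s0 (f g) : ↥(NE t)) = g.1 * v := by rw [hv, mul_inv_cancel_left]
    rw [e, Subgroup.coe_mul]
    exact ((show Commute ((g.1 : ↥(NE t)) : G) t from mem_centralizer_singleton_iff.1 (mem_subgroupOf.1 g.2)).mul_left
      (core_comm H ht (Q.mem_core H hv1) htE)).eq
  obtain ⟨⟨c, hc⟩, hco⟩ := exists_prime_orderOf_dvd_card' (G := ↥f.range) 7 (by rw [hrange]; norm_num)
  obtain ⟨⟨τ, hτ⟩, hτo⟩ := exists_prime_orderOf_dvd_card' (G := ↥f.range) 2 (by rw [hrange]; norm_num)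
  rw [Subgroup.orderOf_mk] at hco hτo
  have hcP : orderOf (c : Perm (Fin 7)) = 7 := by rw [Subgroup.orderOf_coe, hco]
  have hcy : (c : Perm (Fin 7)).IsCycle := Perm.isCycle_of_prime_order'' (by simp; norm_num) (by simp [hcP])
  have hc0o : orderOf (c0 : Perm (Fin 7)) = 7 := orderOf_eq_prime (by decide +kernel) (by decide +kernel)
  have hc0y : (c0 : Perm (Fin 7)).IsCycle := Perm.isCycle_of_prime_order'' (by simp; norm_num) (by simp [hc0o])
  obtain ⟨g, hg⟩ := isConj_iff.1 (hcy.isConj hc0y (by rw [← hcy.orderOf, ← hc0y.orderOf, hcP, hc0o]))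
  set τ' := (MulAut.conjNormal g) τ with hτ'
  have hτ'v : (τ' : Perm (Fin 7)) = g * (τ : Perm (Fin 7)) * g⁻¹ := MulAut.conjNormal_apply g τ
  have hτ'o : orderOf τ' = 2 := by rw [hτ', MulEquiv.orderOf_eq, hτo]
  obtain ⟨a, b, p, d, h1, h2, h3, h4, h5, he⟩ := invol_form τ'
    (by rw [← pow_two, ← hτ'o, pow_orderOf_eq_one]) (fun e => by rw [e, orderOf_one] at hτ'o; norm_num at hτ'o)
  have nobad : ∀ σ ∈ f.range, ¬ Bad ((MulAut.conjNormal g σ : A7) : Perm (Fin 7)) := fun σ hσ hb => by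
    have hb' : Bad (σ : Perm (Fin 7)) := by
      rw [MulAut.conjNormal_apply] at hb
      rcases hb with ⟨h5, h1⟩ | ⟨h6, h2, h3⟩
      · refine Or.inl ⟨?_, fun e => h1 (by rw [e, mul_one, mul_inv_cancel])⟩
        rw [← conj_eq_one_iff (a := g)]; rw [← h5]; group
      · refine Or.inr ⟨?_, fun e => h2 ?_, fun e => h3 ?_⟩
        · rw [← conj_eq_one_iff (a := g)]; rw [← h6]; group
        · calc g * (σ : Perm (Fin 7)) * g⁻¹ * (g * σ * g⁻¹) = g * ((σ : Perm (Fin 7)) * σ) * g⁻¹ := by group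
            _ = 1 := by rw [e]; group
        · calc _ = g * ((σ : Perm (Fin 7)) * σ * σ) * g⁻¹ := by group
            _ = 1 := by rw [e]; group
    -- the fixed-point lemma only needs the splitting
    rcases hb' with ⟨h5, h1⟩ | ⟨h6, h2, h3⟩
    · haveI : Fact (Nat.Prime 5) := ⟨Nat.prime_five⟩
      have hσ5 : σ * σ * σ * σ * σ = 1 := Subtype.ext h5
      have ho : orderOf ((s0 σ : ↥(NE t)) : G) = 5 := by
        rw [Subgroup.orderOf_coe]
        refine orderOf_eq_prime ?_ fun e => h1 ?_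
        · rw [← map_pow, show σ ^ 5 = σ * σ * σ * σ * σ by simp [pow_succ], hσ5, map_one]
        · rw [← hs0 σ, e, map_one]; rfl
      have hm := comm_order H (hfix σ hσ).symm (by rw [ht, ho]; norm_num)
      rw [ht, ho] at hm
      revert hm; decide +kernel
    · have e6 : σ * σ * σ * (σ * σ * σ) = 1 := Subtype.ext h6
      have hcc : Commute (⟨t, le_normalizer htE⟩ : ↥(NE t)) (s0 σ) := Subtype.ext (hfix σ hσ).symm
      have := Q.fpf H ht (x := s0 (σ * σ)) (v := ⟨t, le_normalizer htE⟩)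
        (by rw [← map_mul, ← map_mul, show σ * σ * (σ * σ) * (σ * σ) = σ * σ * σ * (σ * σ * σ) by group, e6, map_one])
        (by rw [hs0]; exact fun e => h2 (congrArg Subtype.val e)) e6 (fun e => h3 (congrArg Subtype.val e))
        (by rw [hs0]; group) (MonoidHom.mem_ker.1 (Q.ker.ge (mem_subgroupOf.2 htE)))
        (by rw [map_mul]; exact (hcc.mul_right hcc).eq)
      exact ne_one_two H ht (congrArg Subtype.val this)
  have hcc : ((MulAut.conjNormal g c : A7) : Perm (Fin 7)) = (c0 : Perm (Fin 7)) := by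
    rw [MulAut.conjNormal_apply]; exact hg
  rcases invol_data a b p d h1 h2 h3 h4 h5 with hb | hb | hb | ⟨i, j, hν⟩
  · exact (nobad (c * τ) (mul_mem hc hτ) (by rw [map_mul, Subgroup.coe_mul, hcc, ← hτ', he]; exact hb)).elim
  · exact (nobad (c * c * τ) (mul_mem (mul_mem hc hc) hτ)
      (by rw [map_mul, map_mul, Subgroup.coe_mul, Subgroup.coe_mul, hcc, ← hτ', he]; exact hb)).elim
  · exact (nobad (c * c * c * τ) (mul_mem (mul_mem (mul_mem hc hc) hc) hτ)
      (by rw [map_mul, map_mul, map_mul, Subgroup.coe_mul, Subgroup.coe_mul, Subgroup.coe_mul, hcc, ← hτ', he]; exact hb)).elim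
  set ν := (c0 : Perm (Fin 7)) ^ (i : ℕ) * mP ^ (j : ℕ)
  obtain ⟨k, hk⟩ := norm_data i j
  set lam := ν * g with hlam
  set φ : A7 ≃* A7 := MulAut.conjNormal lam
  set s : A7 →* G := ((NE t).subtype.comp s0).comp φ.symm.toMonoidHom with hsdef
  have hkey : ∀ σ : A7, φ.symm σ ∈ f.range → s σ * t = t * s σ := fun σ hσ => hfix _ hσ
  refine ⟨s, ht, ⟨φ.toMonoidHom.comp π, ⟨φ.surjective.comp Q.surj, ?_⟩, fun σ => ⟨(s0 (φ.symm σ)).2, ?_⟩⟩, ?_, ?_⟩
  · ext z; rw [← Q.ker]; simp [MonoidHom.mem_ker]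
  · show φ (π (s0 (φ.symm σ))) = σ
    rw [hs0, MulEquiv.apply_symm_apply]
  · refine hkey _ ?_
    have e : φ.symm c0 = c ^ (k : ℕ) := by
      rw [MulEquiv.symm_apply_eq]
      refine Subtype.ext ?_
      show (c0 : Perm (Fin 7)) = (MulAut.conjNormal lam (c ^ (k : ℕ)) : A7)
      rw [MulAut.conjNormal_apply, Subgroup.coe_pow, hlam, mul_inv_rev]
      calc (c0 : Perm (Fin 7)) = (c0 : Perm (Fin 7)) * ν * ν⁻¹ := by group
        _ = ν * (g * (c : Perm (Fin 7)) * g⁻¹) ^ (k : ℕ) * ν⁻¹ := by rw [hk, hg]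
        _ = _ := by rw [conj_pow]; group
    rw [e]; exact pow_mem hc _
  · refine hkey _ ?_
    have e : φ.symm t0 = τ := by
      rw [MulEquiv.symm_apply_eq]
      refine Subtype.ext ?_
      show (t0 : Perm (Fin 7)) = (MulAut.conjNormal lam τ : A7)
      rw [MulAut.conjNormal_apply, hlam, mul_inv_rev]
      calc (t0 : Perm (Fin 7)) = (t0 : Perm (Fin 7)) * ν * ν⁻¹ := by group
        _ = ν * (g * (τ : Perm (Fin 7)) * g⁻¹) * ν⁻¹ := by rw [← hν, ← he, hτ'v]
        _ = _ := by group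
    rw [e]; exact hτ

end Cfsg.Lib.M23Nse
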