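import Cfsg.Agent.M23Nse.Stable
import Cfsg.Agent.Small.AltSeven.Generators

/-!
The normalizer of a core of order sixteen is an extension of it by the alternating group of degree seven.
-/

set_option autoImplicit false
set_option linter.unusedSectionVars false
set_option linter.style.haveILetI false

namespace Cfsg.Lib.M23Nse

open Subgroup Cfsg.Lib.SameOrder Cfsg.Lib.Small Cfsg.Lib.MathieuEleven

universe u

variable {G : Type u} [Group G] [Finite G]

local instance fact_two_nm : Fact (Nat.Prime 2) := ⟨Nat.prime_two⟩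
local instance fact_three_nm : Fact (Nat.Prime 3) := ⟨Nat.prime_three⟩
local instance fact_five_nm : Fact (Nat.Prime 5) := ⟨Nat.prime_five⟩
local instance fact_seven_nm : Fact (Nat.Prime 7) := ⟨by norm_num⟩

/-- the normalizer of a core -/
noncomputable abbrev NE (t : G) : Subgroup G := normalizer ((core t : Subgroup G) : Set G)

/-- the image of the core in its normalizer -/
noncomputable abbrev CE (t : G) : Subgroup ↥(NE t) := (core t).subgroupOf (NE t)

instance CE_normal (t : G) : (CE t).Normal := Subgroup.normal_in_normalizer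

variable (H : Fields G)
include H

theorem ne_one_two {t : G} (ht : orderOf t = 2) : t ≠ 1 := fun e => by
  rw [e, orderOf_one] at ht; norm_num at ht

theorem swap_pair {t s : G} (ht : orderOf t = 2) (hs : s ∈ core t) (hs1 : s ≠ 1) (hst : s ≠ t) :
    ∃ n : G, n * t = t * n ∧ n * s * n⁻¹ = t * s := by
  classical
  obtain ⟨x, hx, htx, hsx⟩ := exists_fixer H ht hs hs1 hst
  obtain ⟨n, hnt, hnx⟩ := exists_inverter H hx ht htx
  obtain ⟨hC, htE, hcE, hn⟩ := isCore H ht
  have ht1 := ne_one_two H ht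
  have hts1 : t * s ≠ 1 := fun e => hst (by rw [eq_inv_of_mul_eq_one_right e, core_inv H ht htE])
  set W := core t ⊓ centralizer ({x} : Set G) with hW
  have hW4 : (W : Set G) = {1, t, s, t * s} := by
    refine (Set.eq_of_subset_of_ncard_le ?_ ?_ (Set.toFinite _)).symm
    · rintro z (rfl | rfl | rfl | rfl)
      · exact one_mem _
      · exact mem_inf.2 ⟨htE, mem_centralizer_singleton_iff.2 htx⟩
      · exact mem_inf.2 ⟨hs, mem_centralizer_singleton_iff.2 hsx⟩
      · exact mem_inf.2 ⟨mul_mem htE hs, mul_mem (mem_centralizer_singleton_iff.2 htx)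
          (mem_centralizer_singleton_iff.2 hsx)⟩
    · rw [← Nat.card_coe_set_eq]
      change Nat.card ↥W ≤ _
      rw [(core_four H ht hx htx).1, Set.ncard_insert_of_notMem (by simp [Ne.symm ht1, Ne.symm hs1, Ne.symm hts1]),
        Set.ncard_eq_three.2 ⟨t, s, t * s, fun e => hst e.symm, fun e => hs1 (mul_eq_left.1 e.symm),
          fun e => ht1 (mul_eq_right.1 e.symm), rfl⟩]
  have hxn : n * x⁻¹ * n⁻¹ = x := by
    rw [show n * x⁻¹ * n⁻¹ = (n * x * n⁻¹)⁻¹ by group, hnx, inv_inv]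
  have hm : n * s * n⁻¹ ∈ W := mem_inf.2 ⟨hn n hnt s hs, mem_centralizer_singleton_iff.2 (by
    have hc : Commute s x⁻¹ := (show Commute s x from hsx).inv_right
    calc n * s * n⁻¹ * x = n * (s * x⁻¹) * n⁻¹ := by nth_rw 1 [← hxn]; group
      _ = n * (x⁻¹ * s) * n⁻¹ := by rw [hc.eq]
      _ = _ := by nth_rw 2 [← hxn]; group)⟩
  rw [← SetLike.mem_coe, hW4] at hm
  rcases hm with h | h | h | h
  · exact absurd (conj_eq_one_iff.1 h) hs1
  · refine absurd ((MulAut.conj n).injective (h.trans ?_)) hst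
    show t = n * t * n⁻¹
    rw [hnt, mul_inv_cancel_right]
  · exfalso
    obtain ⟨ψ, hψ⟩ := exists_side H hx
    obtain ⟨a, ha, ha2, ha1⟩ := exists_tau H hx hψ ht htx
    obtain ⟨b, hb, hb2, hb1⟩ := exists_tau H hx hψ (core_order H ht hs hs1) hsx
    refine outer H hx hψ hnx ha2 hb2 (hψ.inj ?_) ha1 hb1 (fun e => hst (by rw [hb, ← e, ha])) ?_ ?_
    · rw [map_mul, map_mul, ← ha, ← hb]; exact core_comm H ht htE hs
    · rw [← ha]; exact hnt
    · rw [← hb]; exact mul_inv_eq_iff_eq_mul.1 h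
  · exact ⟨n, hnt, h⟩

/-- the centraliser of an involution is transitive on the other involutions of its core -/
theorem trans_core {t s a : G} (ht : orderOf t = 2) (hs : s ∈ core t) (hs1 : s ≠ 1) (hst : s ≠ t)
    (ha : a ∈ core t) (ha1 : a ≠ 1) (hat : a ≠ t) : ∃ g : G, g * t = t * g ∧ g * s * g⁻¹ = a := by
  classical
  have := Fintype.ofFinite G
  obtain ⟨hC, htE, hcE, hn⟩ := isCore H ht
  have ht1 := ne_one_two H ht
  set O : Finset G := Finset.univ.filter fun b => ∃ g : G, g * t = t * g ∧ g * s * g⁻¹ = b with hO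
  have hOm : ∀ b, b ∈ O ↔ ∃ g : G, g * t = t * g ∧ g * s * g⁻¹ = b := fun b => by simp [hO]
  set T : Finset G := Finset.univ.filter fun b => b ∈ core t ∧ b ≠ 1 ∧ b ≠ t with hT
  have hTm : ∀ b, b ∈ T ↔ b ∈ core t ∧ b ≠ 1 ∧ b ≠ t := fun b => by simp [hT]
  have hOT : O ⊆ T := fun b hb => by
    obtain ⟨g, hg, rfl⟩ := (hOm b).1 hb
    refine (hTm _).2 ⟨hn g hg s hs, fun e => hs1 (conj_eq_one_iff.1 e), fun e => hst ?_⟩
    have e' : g * t * g⁻¹ = t := by rw [hg, mul_inv_cancel_right]
    exact (MulAut.conj g).injective (e.trans e'.symm)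
  have hmul : ∀ g : G, g * t = t * g → ∀ b ∈ O, g * b * g⁻¹ ∈ O := fun g hg b hb => by
    obtain ⟨k, hk, rfl⟩ := (hOm b).1 hb
    exact (hOm _).2 ⟨g * k, ((show Commute g t from hg).mul_left hk).eq, by group⟩
  obtain ⟨y, hyt, hyo⟩ := exists_in_cent H ht (q := 7) (by norm_num) (by norm_num)
  have h7 : 7 ∣ O.card := by
    rw [← Set.ncard_coe_finset]
    refine dvd_ncard_conj (x := y) (k := 1) (by rw [pow_one, ← hyo, pow_orderOf_eq_one])
      (fun b hb => Finset.mem_coe.2 (hmul y hyt b (Finset.mem_coe.1 hb))) ?_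
    intro b hb hby
    obtain ⟨hb1, hb2, hb3⟩ := (hTm b).1 (hOT hb)
    obtain ⟨c, hc⟩ := (Nat.card_eq_one_iff_exists).1 (cent_seven H hyo).2
    have e1 := hc ⟨b, core_order H ht hb1 hb2, hby.symm⟩
    have e2 := hc ⟨t, ht, hyt.symm⟩
    exact hb3 (congrArg Subtype.val (e1.trans e2.symm))
  have hev : Even O.card := by
    refine even_card_of_involution O (fun b => t * b) (fun b hb => ?_) (fun b _ => ?_) (fun b _ e => ?_)
    · obtain ⟨h1, h2, h3⟩ := (hTm b).1 (hOT hb)
      obtain ⟨n, hnt, hnb⟩ := swap_pair H ht h1 h2 h3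
      exact hnb ▸ hmul n hnt b hb
    · rw [← mul_assoc, core_sq H ht t htE, one_mul]
    · exact ht1 (mul_eq_right.1 e)
  have hpos : 0 < O.card := Finset.card_pos.2 ⟨s, (hOm s).2 ⟨1, by simp, by simp⟩⟩
  have hT14 : T.card ≤ 14 := by
    have hsub : (T : Set G) ⊆ ((core t : Set G) \ {1}) \ {t} := fun b hb => by
      obtain ⟨h1, h2, h3⟩ := (hTm b).1 hb
      exact ⟨⟨h1, h2⟩, h3⟩
    have := Set.ncard_le_ncard hsub (Set.toFinite _)
    rw [Set.ncard_coe_finset, Set.ncard_sdiff_singleton_of_mem (show t ∈ (core t : Set G) \ {1} from ⟨htE, ht1⟩),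
      Set.ncard_sdiff_singleton_of_mem (show (1 : G) ∈ (core t : Set G) from one_mem (core t)), ← Nat.card_coe_set_eq] at this
    change T.card ≤ Nat.card ↥(core t) - 1 - 1 at this
    omega
  have h14 : 14 ≤ O.card := by
    obtain ⟨c, hc⟩ := h7
    obtain ⟨m, hm⟩ := hev
    omega
  have hmem : a ∈ T := (hTm a).2 ⟨ha, ha1, hat⟩
  rw [← Finset.eq_of_subset_of_card_le hOT (by omega)] at hmem
  exact (hOm a).1 hmem

theorem cent_le_NE {t : G} (ht : orderOf t = 2) : centralizer ({t} : Set G) ≤ NE t := fun _g hg =>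
  mem_normalizer_of_conj _ fun u hu => (isCore H ht).2.2.2 _ (mem_centralizer_singleton_iff.1 hg) u hu

/-- the normalizer of a core is transitive on its involutions -/
theorem trans_all {t s : G} (ht : orderOf t = 2) (hs : s ∈ core t) (hs1 : s ≠ 1) :
    ∃ g ∈ NE t, g * t * g⁻¹ = s := by
  obtain ⟨g, hg⟩ := isConj_iff.1 (conj_two H ht (core_order H ht hs hs1))
  refine ⟨g, mem_normalizer_of_conj _ fun u hu => ?_, hg⟩
  rw [← core_stable H ht hs hs1, ← hg, core_conj H ht]
  exact ⟨u, hu, rfl⟩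

theorem card_NE {t : G} (ht : orderOf t = 2) : Nat.card ↥(NE t) = 40320 := by
  classical
  obtain ⟨hC, htE, hcE, hn⟩ := isCore H ht
  choose rep hrep hrep' using fun s : {s : G // s ∈ (core t : Set G) \ {1}} => trans_all H ht s.2.1 s.2.2
  have hconj : ∀ g ∈ NE t, g * t * g⁻¹ ∈ (core t : Set G) \ {1} := fun g hg =>
    ⟨(mem_normalizer_iff.1 hg t).1 htE, fun e => ne_one_two H ht (conj_eq_one_iff.1 e)⟩
  have e : ↥(NE t) ≃ {s : G // s ∈ (core t : Set G) \ {1}} × ↥(centralizer ({t} : Set G)) :=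
    { toFun := fun g => (⟨_, hconj g.1 g.2⟩, ⟨(rep ⟨_, hconj g.1 g.2⟩)⁻¹ * g.1, by
        refine mem_centralizer_singleton_iff.2 (mul_inv_eq_iff_eq_mul.1 ?_)
        set r := rep ⟨_, hconj g.1 g.2⟩ with hr
        have h : r * t * r⁻¹ = (g : G) * t * (g : G)⁻¹ := hrep' ⟨_, hconj g.1 g.2⟩
        calc r⁻¹ * (g : G) * t * (r⁻¹ * (g : G))⁻¹ = r⁻¹ * ((g : G) * t * (g : G)⁻¹) * r := by group
          _ = r⁻¹ * (r * t * r⁻¹) * r := by rw [h]
          _ = t := by group⟩)
      invFun := fun p => ⟨rep p.1 * p.2.1, mul_mem (hrep p.1) (cent_le_NE H ht p.2.2)⟩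
      left_inv := fun g => Subtype.ext (mul_inv_cancel_left _ _)
      right_inv := fun p => by
        have hs : (rep p.1 * p.2.1) * t * (rep p.1 * p.2.1)⁻¹ = p.1.1 := by
          rw [show rep p.1 * p.2.1 * t * (rep p.1 * p.2.1)⁻¹ = rep p.1 * (p.2.1 * t * p.2.1⁻¹) * (rep p.1)⁻¹ by group,
            mem_centralizer_singleton_iff.1 p.2.2, mul_inv_cancel_right, hrep' p.1]
        refine Prod.ext (Subtype.ext hs) (Subtype.ext ?_)
        simp only
        rw [show (⟨_, hconj _ (mul_mem (hrep p.1) (cent_le_NE H ht p.2.2))⟩ : {s : G // s ∈ (core t : Set G) \ {1}}) = p.1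
          from Subtype.ext hs]
        exact inv_mul_cancel_left _ _ }
  rw [Nat.card_congr e, Nat.card_prod, cent_two H ht]
  change Nat.card ↥((core t : Set G) \ {1}) * 2688 = _
  rw [Nat.card_coe_set_eq, Set.ncard_sdiff_singleton_of_mem (one_mem (core t)), ← Nat.card_coe_set_eq]
  change (Nat.card ↥(core t) - 1) * 2688 = _
  rw [hcE]

/-- the centraliser of an involution has no normal subgroup strictly between its core and itself -/
theorem cent_simple {t : G} (ht : orderOf t = 2) {R : Subgroup G} (hR : R ≤ centralizer ({t} : Set G))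
    (hE : core t ≤ R) (hn : ∀ g : G, g * t = t * g → ∀ u ∈ R, g * u * g⁻¹ ∈ R) :
    R = core t ∨ R = centralizer ({t} : Set G) := by
  classical
  obtain ⟨hC, htE, hcE, -⟩ := isCore H ht
  set C := centralizer ({t} : Set G) with hCdef
  by_cases hp : IsPGroup 2 ↥R
  · have h16 := (normal_two H ht R hp hR (hE htE) hn).resolve_left (fun e => by
      have := Subgroup.card_le_of_le hE; omega)
    exact Or.inl (Subgroup.eq_of_le_of_card_ge hE (by omega)).symm
  right
  set R' := R.subgroupOf C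
  haveI : R'.Normal := ⟨fun u hu g => by
    rw [mem_subgroupOf] at hu ⊢
    simpa using hn g (mem_centralizer_singleton_iff.1 g.2) u hu⟩
  have hidx : Nat.card ↥R * R'.index = 2688 := by
    rw [← Nat.card_congr (Subgroup.subgroupOfEquivOfLe hR).toEquiv, Subgroup.card_mul_index, cent_two H ht]
  have hdR : Nat.card ↥R ∣ 2688 := Dvd.intro _ hidx
  -- Sylow subgroups of prime order in the centraliser
  have hsyl : ∀ p : ℕ, ∀ [Fact p.Prime], (p = 3 ∨ p = 7) → p ∣ Nat.card ↥R →
      ∃ (y : G) (P : Sylow p ↥C) (hyC : y ∈ C), orderOf y = p ∧ y ∈ R ∧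
        (P : Subgroup ↥C) = zpowers (⟨y, hyC⟩ : ↥C) ∧
        Nat.card ↥(normalizer ((P : Subgroup ↥C) : Set ↥C)) ∣
          Nat.card ↥(normalizer (zpowers y : Set G) ⊓ C : Subgroup G) := by
    intro p _ hp' hd
    obtain ⟨y, hy, hyo⟩ := exists_elt_prime H (Fact.out : p.Prime) R hd
    obtain ⟨P, hP⟩ := M12Nse.exists_sylow_zpowers (G := ↥C) (p := p) (fun P => by
      rcases hp' with rfl | rfl
      · simpa using card_sylow_of_factor P (a := 1) (m := 896) (by rw [cent_two H ht]; norm_num) (by norm_num)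
      · simpa using card_sylow_of_factor P (a := 1) (m := 384) (by rw [cent_two H ht]; norm_num) (by norm_num))
      (x := (⟨y, hR hy⟩ : ↥C)) (by rw [Subgroup.orderOf_mk, hyo])
    refine ⟨y, P, hR hy, hyo, hy, hP, ?_⟩
    rw [← Subgroup.card_map_of_injective C.subtype_injective]
    refine Subgroup.card_dvd_of_le ?_
    rintro _ ⟨g, hg, rfl⟩
    refine mem_inf.2 ⟨mem_normalizer_of_conj _ fun u hu => ?_, g.2⟩
    obtain ⟨k, rfl⟩ := mem_zpowers_iff.1 hu
    rw [hP] at hg
    have := (mem_normalizer_iff.1 hg _).1 (zpow_mem (mem_zpowers (⟨y, hR hy⟩ : ↥C)) k)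
    obtain ⟨j, hj⟩ := mem_zpowers_iff.1 this
    exact ⟨j, by simpa using congrArg Subtype.val hj⟩
  by_cases h7 : 7 ∣ Nat.card ↥R
  · obtain ⟨y, P, hyC, hyo, hyR, hP, hN⟩ := hsyl 7 (Or.inr rfl) h7
    have hN42 : Nat.card ↥(normalizer ((P : Subgroup ↥C) : Set ↥C)) ∣ 42 := by
      refine hN.trans ((Subgroup.card_dvd_of_le inf_le_left).trans ?_)
      obtain ⟨S, hS⟩ := M12Nse.exists_sylow_zpowers (H.sylow_seven) hyo
      have h := card_normalizer_mul S
      rw [(H.cnt_seven).2, H.card, hS] at h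
      rw [show Nat.card ↥(normalizer (zpowers y : Set G)) = 42 by omega]
    set tc : ↥C := ⟨t, hC htE⟩
    set yc : ↥C := ⟨y, hyC⟩
    set K := zpowers (yc * tc)
    have hyt : y * t = t * y := mem_centralizer_singleton_iff.1 hyC
    have hytC : Commute yc tc := Subtype.ext hyt
    have hcz : ∀ z ∈ K, Commute z yc := fun z hz => by
      obtain ⟨j, rfl⟩ := mem_zpowers_iff.1 hz
      exact ((Commute.refl yc).mul_left hytC.symm).zpow_left j
    have hKN : K ≤ normalizer ((P : Subgroup ↥C) : Set ↥C) := fun z hz => mem_normalizer_of_conj _ fun u hu => by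
      rw [hP] at hu ⊢
      obtain ⟨j, rfl⟩ := mem_zpowers_iff.1 hu
      rw [((hcz z hz).zpow_right j).eq, mul_inv_cancel_right]
      exact zpow_mem (mem_zpowers yc) j
    have hKR : K ≤ R' := zpowers_le.2 (mem_subgroupOf.2 (mul_mem hyR (hE htE)))
    have hK14 : Nat.card ↥K = 14 := by
      rw [Nat.card_zpowers, orderOf_mul_coprime hytC.eq (m := 7) (n := 2) (by rw [Subgroup.orderOf_mk, hyo])
        (by rw [Subgroup.orderOf_mk, ht]) (by norm_num)]
    have hPR : (P : Subgroup ↥C) ≤ R' := by rw [hP]; exact zpowers_le.2 (mem_subgroupOf.2 hyR)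
    have hfr := frattini R' P hPR K hKN hKR
    have h3 : R'.index ∣ 3 := by
      have := hfr.trans hN42
      rw [hK14] at this
      exact Nat.dvd_of_mul_dvd_mul_right (by norm_num : 0 < 14) (this.trans (by norm_num))
    rcases (Nat.dvd_prime Nat.prime_three).1 h3 with h1 | h3'
    · refine Subgroup.eq_of_le_of_card_ge hR ?_
      rw [h1, mul_one] at hidx
      rw [hCdef, cent_two H ht]; omega
    exfalso
    rw [h3'] at hidx
    have hR896 : Nat.card ↥R' = 896 := by
      rw [Nat.card_congr (Subgroup.subgroupOfEquivOfLe hR).toEquiv]; omega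
    -- the normalizer of the Sylow subgroup in the subgroup
    set NR := normalizer ((P : Subgroup ↥C) : Set ↥C) ⊓ R'
    have hK' : K ≤ NR := le_inf hKN hKR
    have hNR : NR = K := by
      refine (Subgroup.eq_of_le_of_card_ge hK' ?_).symm
      have h := (frattini R' P hPR NR inf_le_left inf_le_right).trans hN42
      rw [h3'] at h
      have hd : Nat.card ↥NR ∣ 14 := Nat.dvd_of_mul_dvd_mul_left (by norm_num : 0 < 3) (h.trans (by norm_num))
      rw [hK14]
      exact Nat.le_of_dvd (by norm_num) hd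
    set Q : Sylow 7 ↥R' := P.subtype hPR
    have hburn : normalizer ((Q : Subgroup ↥R') : Set ↥R') ≤ centralizer ((Q : Subgroup ↥R') : Set ↥R') := by
      intro g hg
      have hgN : (g : ↥C) ∈ NR := mem_inf.2 ⟨mem_normalizer_of_conj _ fun u hu => by
        have := (mem_normalizer_iff.1 hg (⟨u, hPR hu⟩ : ↥R')).1 (by exact hu)
        exact this, g.2⟩
      rw [hNR] at hgN
      refine mem_centralizer_iff.2 fun u hu => Subtype.ext ?_
      have hu' : (u : ↥C) ∈ (P : Subgroup ↥C) := hu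
      rw [hP] at hu'
      obtain ⟨j, hj⟩ := mem_zpowers_iff.1 hu'
      show (u : ↥C) * (g : ↥C) = (g : ↥C) * (u : ↥C)
      rw [← hj]
      exact ((hcz _ hgN).zpow_right j).eq.symm
    have hcomp := MonoidHom.ker_transferSylow_isComplement' Q hburn
    set S := (MonoidHom.transferSylow Q hburn).ker
    have hQ7 : Nat.card ↥(Q : Subgroup ↥R') = 7 := by
      simpa using card_sylow_of_factor Q (a := 1) (m := 128) (by rw [hR896]; norm_num) (by norm_num)
    have hS128 : Nat.card ↥S = 128 := by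
      have := hcomp.card_mul_card
      rw [hQ7, hR896] at this
      omega
    have hSmem : ∀ u : ↥R', u ∈ S ↔ u ^ 128 = 1 := fun u => by
      refine ⟨fun hu => ?_, fun hu => ?_⟩
      · rw [← hS128]
        exact congrArg Subtype.val (pow_card_eq_one' (x := (⟨u, hu⟩ : ↥S)))
      · rw [MonoidHom.mem_ker]
        have h1 : (MonoidHom.transferSylow Q hburn u) ^ 128 = 1 := by rw [← map_pow, hu, map_one]
        have h2 : (MonoidHom.transferSylow Q hburn u) ^ 7 = 1 :=
          (congrArg (MonoidHom.transferSylow Q hburn u ^ ·) hQ7).symm.trans pow_card_eq_one'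
        have := pow_gcd_eq_one.2 ⟨h1, h2⟩
        rwa [show Nat.gcd 128 7 = 1 by rfl, pow_one] at this
    set S0 := (S.map R'.subtype).map C.subtype
    have hS0c : Nat.card ↥S0 = 128 := by
      rw [Subgroup.card_map_of_injective C.subtype_injective, Subgroup.card_map_of_injective R'.subtype_injective, hS128]
    have hS0R : S0 ≤ R := by
      rintro _ ⟨_, ⟨u, -, rfl⟩, rfl⟩
      exact u.2
    have hS0n : ∀ g : G, g * t = t * g → ∀ u ∈ S0, g * u * g⁻¹ ∈ S0 := by
      rintro g hg _ ⟨_, ⟨u, hu, rfl⟩, rfl⟩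
      have hm := hn g hg _ u.2
      refine ⟨⟨_, hR hm⟩, ⟨⟨⟨_, hR hm⟩, hm⟩, ?_, rfl⟩, rfl⟩
      rw [SetLike.mem_coe, hSmem]
      refine Subtype.ext (Subtype.ext ?_)
      have e : (((u : ↥C) : G)) ^ 128 = 1 := by
        have := congrArg (fun v : ↥R' => ((v : ↥C) : G)) ((hSmem u).1 hu)
        simpa using this
      simp only [Subgroup.coe_pow, Subgroup.coe_one]
      rw [conj_pow]
      exact e.symm ▸ by simp
    have htS : t ∈ S0 := by
      refine ⟨tc, ⟨⟨tc, mem_subgroupOf.2 (hE htE)⟩, ?_, rfl⟩, rfl⟩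
      rw [SetLike.mem_coe, hSmem]
      refine Subtype.ext (Subtype.ext ?_)
      simp only [Subgroup.coe_pow, Subgroup.coe_one]
      rw [show 128 = 2 * 64 from rfl, pow_mul, ← ht, pow_orderOf_eq_one, one_pow]
    have := normal_two H ht S0 (IsPGroup.of_card (n := 7) (by rw [hS0c]; norm_num)) (hS0R.trans hR) htS hS0n
    omega
  · exfalso
    have h3 : 3 ∣ Nat.card ↥R := by
      by_contra h3
      refine hp (IsPGroup.iff_card.2 ?_)
      have h128 : Nat.card ↥R ∣ 2 ^ 7 := by
        refine Nat.Coprime.dvd_of_dvd_mul_right ?_ (show Nat.card ↥R ∣ 2 ^ 7 * (3 * 7) by norm_num; exact hdR)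
        exact Nat.Coprime.mul_right ((Nat.Prime.coprime_iff_not_dvd Nat.prime_three).2 h3).symm
          ((Nat.Prime.coprime_iff_not_dvd (by norm_num)).2 h7).symm
      obtain ⟨j, -, hj⟩ := (Nat.dvd_prime_pow Nat.prime_two).1 h128
      exact ⟨j, hj⟩
    obtain ⟨x, P, hxC, hxo, hxR, hP, hN⟩ := hsyl 3 (Or.inl rfl) h3
    have hfr := frattini R' P (by rw [hP]; exact zpowers_le.2 (mem_subgroupOf.2 hxR)) ⊥ bot_le bot_le
    rw [Subgroup.card_bot, mul_one] at hfr
    have h7i : 7 ∣ R'.index :=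
      ((Nat.Prime.dvd_mul (by norm_num)).1 (hidx.symm ▸ (by norm_num : 7 ∣ 2688))).resolve_left h7
    have hxt : t * x = x * t := (mem_centralizer_singleton_iff.1 hxC).symm
    have h12 : 12 ∣ Nat.card ↥(normalizer (zpowers x : Set G) ⊓ C : Subgroup G) := by
      rw [← card_pair H hxo ht hxt]
      refine Subgroup.card_dvd_of_le fun g hg => mem_inf.2 ⟨mem_normalizer_of_conj _ fun u hu => ?_, (mem_inf.1 hg).2⟩
      obtain ⟨j, rfl⟩ := mem_zpowers_iff.1 hu
      rw [((show Commute g x from mem_centralizer_singleton_iff.1 (mem_inf.1 hg).1).zpow_right j).eq, mul_inv_cancel_right]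
      exact zpow_mem (mem_zpowers x) j
    have h84 : 84 ∣ Nat.card ↥(normalizer (zpowers x : Set G) ⊓ C : Subgroup G) :=
      (Nat.Coprime.mul_dvd_of_dvd_of_dvd (by norm_num : Nat.Coprime 7 12) ((h7i.trans hfr).trans hN) h12)
    have := Nat.le_of_dvd Nat.card_pos h84
    have := card_norm_cent H hxo ht hxt
    rw [← hCdef] at this
    omega

theorem quot_card {t : G} (ht : orderOf t = 2) : Nat.card (↥(NE t) ⧸ CE t) = 2520 := by
  have h := (CE t).card_eq_card_quotient_mul_card_subgroup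
  rw [card_NE H ht, Nat.card_congr (Subgroup.subgroupOfEquivOfLe (le_normalizer : core t ≤ NE t)).toEquiv,
    (isCore H ht).2.2.1] at h
  omega

theorem quot_simple {t : G} (ht : orderOf t = 2) : IsSimpleGroup (↥(NE t) ⧸ CE t) := by
  classical
  obtain ⟨hC, htE, hcE, hn⟩ := isCore H ht
  haveI : Nontrivial (↥(NE t) ⧸ CE t) := Finite.one_lt_card_iff_nontrivial.1 (by rw [quot_card H ht]; norm_num)
  refine ⟨fun K hK => ?_⟩
  set M' := K.comap (QuotientGroup.mk' (CE t))
  haveI : M'.Normal := hK.comap _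
  suffices h : M' = CE t ∨ M' = ⊤ by
    have hs := QuotientGroup.mk'_surjective (CE t)
    rcases h with h | h
    · left
      rw [← Subgroup.map_comap_eq_self_of_surjective hs K]
      rw [show K.comap (QuotientGroup.mk' (CE t)) = CE t from h]
      exact (Subgroup.map_eq_bot_iff _).2 (le_of_eq (QuotientGroup.ker_mk' _).symm)
    · right
      rw [← Subgroup.map_comap_eq_self_of_surjective hs K]
      rw [show K.comap (QuotientGroup.mk' (CE t)) = ⊤ from h, Subgroup.map_top_of_surjective _ hs]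
  have hEM : CE t ≤ M' := (QuotientGroup.ker_mk' (CE t)).symm.le.trans (Subgroup.ker_le_comap _ _)
  by_cases hMC : ∀ m ∈ M', (m : G) * t = t * (m : G)
  · left
    refine le_antisymm (fun m hm => mem_subgroupOf.2 (core_cent H ht fun u hu => ?_)) hEM
    by_cases hu1 : u = 1
    · simp [hu1]
    obtain ⟨g, hg, rfl⟩ := trans_all H ht hu hu1
    have hm' := hMC _ (Subgroup.Normal.conj_mem' inferInstance m hm ⟨g, hg⟩)
    simp only [Subgroup.coe_mul, Subgroup.coe_inv] at hm'
    calc (m : G) * (g * t * g⁻¹) = g * (g⁻¹ * (m : G) * g * t) * g⁻¹ := by group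
      _ = g * (t * (g⁻¹ * (m : G) * g)) * g⁻¹ := by rw [hm']
      _ = _ := by group
  right
  push Not at hMC
  obtain ⟨m₀, hm₀, hm₀t⟩ := hMC
  -- the subgroup is transitive
  have htr : ∀ a ∈ core t, a ≠ 1 → ∃ m ∈ M', (m : G) * t * (m : G)⁻¹ = a := by
    intro a ha ha1
    by_cases hat : a = t
    · exact ⟨1, one_mem _, by simp [hat]⟩
    set s := (m₀ : G) * t * (m₀ : G)⁻¹
    have hs : s ∈ core t := (mem_normalizer_iff.1 m₀.2 t).1 htE
    obtain ⟨g, hgt, hgs⟩ := trans_core H ht hs (fun e => ne_one_two H ht (conj_eq_one_iff.1 e))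
      (fun e => hm₀t (mul_inv_eq_iff_eq_mul.1 e)) ha ha1 hat
    refine ⟨⟨g, cent_le_NE H ht (mem_centralizer_singleton_iff.2 hgt)⟩ * m₀ *
      (⟨g, cent_le_NE H ht (mem_centralizer_singleton_iff.2 hgt)⟩)⁻¹, Subgroup.Normal.conj_mem inferInstance _ hm₀ _, ?_⟩
    simp only [Subgroup.coe_mul, Subgroup.coe_inv]
    have hg' : g⁻¹ * t * g = t := by rw [mul_assoc, ← hgt, inv_mul_cancel_left]
    calc g * (m₀ : G) * g⁻¹ * t * (g * (m₀ : G) * g⁻¹)⁻¹
        = g * ((m₀ : G) * (g⁻¹ * t * g) * (m₀ : G)⁻¹) * g⁻¹ := by group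
      _ = a := by rw [hg']; exact hgs
  set M := M'.map (NE t).subtype with hMdef
  set R := M ⊓ centralizer ({t} : Set G)
  have hEMG : core t ≤ M := fun u hu => ⟨⟨u, le_normalizer hu⟩, hEM (mem_subgroupOf.2 hu), rfl⟩
  have hRn : ∀ g : G, g * t = t * g → ∀ u ∈ R, g * u * g⁻¹ ∈ R := fun g hg u hu => by
    obtain ⟨⟨v, hv, rfl⟩, huC⟩ := mem_inf.1 hu
    have hgC : g ∈ centralizer ({t} : Set G) := mem_centralizer_singleton_iff.2 hg
    exact mem_inf.2 ⟨⟨_, Subgroup.Normal.conj_mem inferInstance v hv ⟨g, cent_le_NE H ht hgC⟩, rfl⟩,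
      mul_mem (mul_mem hgC huC) (inv_mem hgC)⟩
  have hsplit : ∀ g ∈ NE t, ∃ m ∈ M, m⁻¹ * g ∈ centralizer ({t} : Set G) := fun g hg => by
    obtain ⟨m, hm, hmt⟩ := htr _ ((mem_normalizer_iff.1 hg t).1 htE)
      (fun e => ne_one_two H ht (conj_eq_one_iff.1 e))
    refine ⟨m, ⟨m, hm, rfl⟩, mem_centralizer_singleton_iff.2 (mul_inv_eq_iff_eq_mul.1 ?_)⟩
    calc (m : G)⁻¹ * g * t * ((m : G)⁻¹ * g)⁻¹ = (m : G)⁻¹ * (g * t * g⁻¹) * (m : G) := by group
      _ = t := by rw [← hmt]; group
  rcases cent_simple H ht (R := R) inf_le_right (le_inf hEMG hC) hRn with hR | hR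
  · exfalso
    have hM : Nat.card ↥M' = 240 := by
      let f : ↥M' → {s : G // s ∈ (core t : Set G) \ {1}} := fun m =>
        ⟨(m.1 : G) * t * (m.1 : G)⁻¹, (mem_normalizer_iff.1 m.1.2 t).1 htE,
          fun e => ne_one_two H ht (conj_eq_one_iff.1 e)⟩
      choose rep hrep hrep' using fun s : {s : G // s ∈ (core t : Set G) \ {1}} => htr s.1 s.2.1 s.2.2
      have hmem : ∀ m : ↥M', (rep (f m) : G)⁻¹ * (m.1 : G) ∈ core t := fun m => hR.le (mem_inf.2
        ⟨⟨(rep (f m))⁻¹ * m.1, mul_mem (inv_mem (hrep _)) m.2, rfl⟩, mem_centralizer_singleton_iff.2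
          (mul_inv_eq_iff_eq_mul.1 (by
            calc (rep (f m) : G)⁻¹ * (m.1 : G) * t * ((rep (f m) : G)⁻¹ * (m.1 : G))⁻¹
                = (rep (f m) : G)⁻¹ * ((m.1 : G) * t * (m.1 : G)⁻¹) * (rep (f m) : G) := by group
              _ = (rep (f m) : G)⁻¹ * ((rep (f m) : G) * t * (rep (f m) : G)⁻¹) * (rep (f m) : G) := by
                rw [hrep' (f m)]
              _ = t := by group))⟩)
      let e : ↥M' ≃ {s : G // s ∈ (core t : Set G) \ {1}} × ↥(core t) :=
        { toFun := fun m => (f m, ⟨_, hmem m⟩)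
          invFun := fun p => ⟨rep p.1 * ⟨p.2.1, le_normalizer p.2.2⟩,
            mul_mem (hrep _) (hEM (mem_subgroupOf.2 p.2.2))⟩
          left_inv := fun m => Subtype.ext (Subtype.ext (mul_inv_cancel_left _ _))
          right_inv := fun p => by
            have hs : f ⟨rep p.1 * ⟨p.2.1, le_normalizer p.2.2⟩,
                mul_mem (hrep _) (hEM (mem_subgroupOf.2 p.2.2))⟩ = p.1 := by
              refine Subtype.ext ?_
              show (rep p.1 : G) * p.2.1 * t * ((rep p.1 : G) * p.2.1)⁻¹ = p.1.1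
              rw [show (rep p.1 : G) * p.2.1 * t * ((rep p.1 : G) * p.2.1)⁻¹ =
                  (rep p.1 : G) * (p.2.1 * t * p.2.1⁻¹) * (rep p.1 : G)⁻¹ by group,
                core_comm H ht p.2.2 htE, mul_inv_cancel_right, hrep' p.1]
            refine Prod.ext hs (Subtype.ext ?_)
            simp only
            rw [hs]
            exact inv_mul_cancel_left _ _ }
      rw [Nat.card_congr e, Nat.card_prod, hcE]
      change Nat.card ↥((core t : Set G) \ {1}) * 16 = _
      rw [Nat.card_coe_set_eq, Set.ncard_sdiff_singleton_of_mem (one_mem (core t)), ← Nat.card_coe_set_eq]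
      change (Nat.card ↥(core t) - 1) * 16 = _
      rw [hcE]
    have hidx : M'.index = 168 := by
      have := M'.card_mul_index
      rw [hM, card_NE H ht] at this
      omega
    obtain ⟨y, hy, hyo⟩ : ∃ y ∈ M', orderOf y = 5 := by
      obtain ⟨⟨y, hy⟩, hyo⟩ := exists_prime_orderOf_dvd_card' (G := ↥M') 5 (by rw [hM]; norm_num)
      exact ⟨y, hy, by rwa [← Subgroup.orderOf_coe] at hyo⟩
    obtain ⟨P, hP⟩ := M12Nse.exists_sylow_zpowers (G := ↥(NE t)) (p := 5) (fun P => by
      simpa using card_sylow_of_factor P (a := 1) (m := 8064) (by rw [card_NE H ht]; norm_num) (by norm_num)) hyo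
    have hfr := frattini M' P (by rw [hP]; exact zpowers_le.2 hy) ⊥ bot_le bot_le
    rw [Subgroup.card_bot, mul_one, hidx] at hfr
    have hyG : orderOf (y : G) = 5 := by rw [Subgroup.orderOf_coe, hyo]
    obtain ⟨S, hS⟩ := M12Nse.exists_sylow_zpowers (H.sylow_five) hyG
    have h60 := card_norm_five H S
    rw [hS] at h60
    have hle : (normalizer ((P : Subgroup ↥(NE t)) : Set ↥(NE t))).map (NE t).subtype ≤
        normalizer (zpowers (y : G) : Set G) := by
      rintro _ ⟨g, hg, rfl⟩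
      refine mem_normalizer_of_conj _ fun u hu => ?_
      obtain ⟨k, rfl⟩ := mem_zpowers_iff.1 hu
      rw [hP] at hg
      have := (mem_normalizer_iff.1 hg _).1 (zpow_mem (mem_zpowers y) k)
      obtain ⟨j, hj⟩ := mem_zpowers_iff.1 this
      exact ⟨j, by simpa using congrArg Subtype.val hj⟩
    have := Subgroup.card_dvd_of_le hle
    rw [Subgroup.card_map_of_injective (NE t).subtype_injective, h60] at this
    exact absurd (hfr.trans this) (by norm_num)
  · refine eq_top_iff.2 fun g _ => ?_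
    obtain ⟨m, ⟨m', hm', rfl⟩, hc⟩ := hsplit g g.2
    obtain ⟨v, hv, hve⟩ := (mem_inf.1 (hR.ge hc)).1
    have : g = m' * v := Subtype.ext (by
      show (g : G) = (m' : G) * (v : G)
      rw [show (v : G) = (m' : G)⁻¹ * (g : G) from hve, mul_inv_cancel_left])
    exact this ▸ mul_mem hm' hv

/-- the quotient is alternating of degree seven -/
theorem quot_equiv {t : G} (ht : orderOf t = 2) : Nonempty ((↥(NE t) ⧸ CE t) ≃* alternatingGroup (Fin 7)) := by
  haveI := quot_simple H ht
  exact AltSeven.nonempty_equiv (quot_card H ht)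

end Cfsg.Lib.M23Nse
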