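import Cfsg.Agent.M23Nse.Facts

/-!
The elements of orders twenty-three, eleven, seven and five in a group with the counts of the Mathieu group of degree twenty-three.
-/

set_option autoImplicit false
set_option linter.unusedSectionVars false
set_option linter.style.haveILetI false

namespace Cfsg.Lib.M23Nse

open Subgroup Cfsg.Lib.SameOrder Cfsg.Lib.Small Cfsg.Lib.MathieuEleven

universe u

variable {G : Type u} [Group G] [Finite G] (H : Hyp G)

local instance fact_eleven_mth : Fact (Nat.Prime 11) := ⟨by norm_num⟩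
local instance fact_seven_mth : Fact (Nat.Prime 7) := ⟨by norm_num⟩
local instance fact_twenty_three_mth : Fact (Nat.Prime 23) := ⟨by norm_num⟩
local instance fact_five_mth : Fact (Nat.Prime 5) := ⟨by norm_num⟩

include H

theorem sylow_twenty_three (P : Sylow 23 G) : Nat.card ↥(P : Subgroup G) = 23 :=
  card_sylow H (m := 443520) (by norm_num) (by norm_num) P

theorem sylow_eleven (P : Sylow 11 G) : Nat.card ↥(P : Subgroup G) = 11 :=
  card_sylow H (m := 927360) (by norm_num) (by norm_num) P

theorem sylow_seven (P : Sylow 7 G) : Nat.card ↥(P : Subgroup G) = 7 :=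
  card_sylow H (m := 1457280) (by norm_num) (by norm_num) P

theorem sylow_five (P : Sylow 5 G) : Nat.card ↥(P : Subgroup G) = 5 :=
  card_sylow H (m := 2040192) (by norm_num) (by norm_num) P

theorem cnt_twenty_three : cnt G 23 = 887040 ∧ Nat.card (Sylow 23 G) = 40320 := by
  obtain ⟨h1, h2⟩ := cnt_prime_value H (sylow_twenty_three H) (m := 443520) (v := 887040) (by norm_num) (by decide +kernel)
  exact ⟨h1, by omega⟩

theorem cnt_eleven : cnt G 11 = 1854720 ∧ Nat.card (Sylow 11 G) = 185472 := by
  obtain ⟨h1, h2⟩ := cnt_prime_value H (sylow_eleven H) (m := 927360) (v := 1854720) (by norm_num) (by decide +kernel)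
  exact ⟨h1, by omega⟩

theorem cnt_seven : cnt G 7 = 1457280 ∧ Nat.card (Sylow 7 G) = 242880 := by
  obtain ⟨h1, h2⟩ := cnt_prime_value H (sylow_seven H) (m := 1457280) (v := 1457280) (by norm_num) (by decide +kernel)
  exact ⟨h1, by omega⟩

theorem cnt_five : cnt G 5 = 680064 ∧ Nat.card (Sylow 5 G) = 170016 := by
  obtain ⟨h1, h2⟩ := cnt_prime_value H (sylow_five H) (m := 2040192) (v := 680064) (by norm_num) (by decide +kernel)
  exact ⟨h1, by omega⟩

/-- Generic: the orders of elements with order divisible by a prime. -/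
theorem order_options {p N : ℕ} [Fact p.Prime] (hS : ∀ P : Sylow p G, Nat.card ↥(P : Subgroup G) = p)
    (hN : Nat.card (Sylow p G) * N = 10200960) {g : G} (hg : p ∣ orderOf g) :
    orderOf g ∣ N ∧ (orderOf g = N → cnt G N % p = Nat.totient N % p) := by
  set x := g ^ (orderOf g / p)
  have hx : orderOf x = p := orderOf_pow_orderOf_div (orderOf_pos g).ne' hg
  have hc : g * x = x * g := (Commute.self_pow g _).eq
  have hpos : 0 < Nat.card (Sylow p G) := Nat.card_pos
  have h := cent_dvd H hS hx
  rw [← hN] at h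
  have hCN := Nat.dvd_of_mul_dvd_mul_left hpos h
  have hgC := M12Nse.dvd_centralizer_orderOf hc
  refine ⟨hgC.trans hCN, fun e => ?_⟩
  have hC : Nat.card ↥(centralizer ({x} : Set G)) = orderOf g := Nat.dvd_antisymm (e ▸ hCN) hgC
  exact e ▸ cnt_mod_totient hx hc hC

theorem orderOf_of_twenty_three_dvd {g : G} (h : 23 ∣ orderOf g) : orderOf g = 23 := by
  obtain ⟨hd, hmod⟩ := order_options H (N := 253) (sylow_twenty_three H) (by rw [(cnt_twenty_three H).2]) h
  have hall : ∀ j ∈ Nat.divisors 253, 23 ∣ j → j = 23 ∨ j = 253 := by decide +kernel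
  refine (hall _ (Nat.mem_divisors.2 ⟨hd, by norm_num⟩) h).resolve_right fun e => ?_
  have hv : ∀ c ∈ nseVals, c % 23 ≠ Nat.totient 253 % 23 := by decide +kernel
  exact hv _ (H.mem 253) (hmod e)

theorem orderOf_of_eleven_dvd {g : G} (h : 11 ∣ orderOf g) : orderOf g = 11 := by
  obtain ⟨hd, hmod⟩ := order_options H (N := 55) (sylow_eleven H) (by rw [(cnt_eleven H).2]) h
  have hall : ∀ j ∈ Nat.divisors 55, 11 ∣ j → j = 11 ∨ j = 55 := by decide +kernel
  refine (hall _ (Nat.mem_divisors.2 ⟨hd, by norm_num⟩) h).resolve_right fun e => ?_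
  have hv : ∀ c ∈ nseVals, c % 11 ≠ Nat.totient 55 % 11 := by decide +kernel
  exact hv _ (H.mem 55) (hmod e)

theorem orderOf_of_seven_dvd {g : G} (h : 7 ∣ orderOf g) : orderOf g ∣ 42 :=
  (order_options H (N := 42) (sylow_seven H) (by rw [(cnt_seven H).2]) h).1

theorem orderOf_of_five_dvd {g : G} (h : 5 ∣ orderOf g) : orderOf g ∣ 60 :=
  (order_options H (N := 60) (sylow_five H) (by rw [(cnt_five H).2]) h).1

/-- The counts outside one, eleven and twenty-three. -/
theorem cnt_vals {n : ℕ} (h1 : n ≠ 1) (h11 : n ≠ 11) (h23 : n ≠ 23) :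
    cnt G n ∈ ([0, 3795, 56672, 318780, 680064, 850080, 1275120, 1360128, 1457280] : List ℕ) := by
  have key : ∀ (p : ℕ) [Fact p.Prime], p ∣ 10200960 → (∀ g : G, p ∣ orderOf g → orderOf g = p) →
      (∀ P : Sylow p G, Nat.card ↥(P : Subgroup G) = p) → n ≠ p → p ∣ cnt G n := by
    intro p _ hpd hord hS hnp
    obtain ⟨x, hx⟩ := exists_prime_orderOf_dvd_card' (G := G) p (by rw [H.card]; exact hpd)
    have h : p ∣ {g : G | orderOf g = n}.ncard := by
      refine dvd_ncard_conj (x := x) (k := 1) (by rw [pow_one, ← hx, pow_orderOf_eq_one]) ?_ ?_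
      · intro a ha
        show orderOf (x * a * x⁻¹) = n
        rw [← MulAut.conj_apply, MulEquiv.orderOf_eq]
        exact ha
      · intro a (ha : orderOf a = n) hc
        by_cases hd : p ∣ n
        · exact hnp (ha ▸ hord a (ha ▸ hd))
        · have hcop : Nat.Coprime (orderOf x) (orderOf a) := by
            rw [hx, ha]; exact (Nat.Prime.coprime_iff_not_dvd Fact.out).2 hd
          have ho := (show Commute x a from hc).orderOf_mul_eq_mul_orderOf_of_coprime hcop
          rw [hx, ha] at ho
          have := hord (x * a) (ho ▸ Dvd.intro n rfl)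
          rw [ho] at this
          exact h1 (by nlinarith [(Fact.out : p.Prime).two_le])
    rwa [← Nat.card_coe_set_eq] at h
  have d23 := key 23 (by norm_num) (fun g hg => orderOf_of_twenty_three_dvd H hg) (sylow_twenty_three H) h23
  have d11 := key 11 (by norm_num) (fun g hg => orderOf_of_eleven_dvd H hg) (sylow_eleven H) h11
  have hv : ∀ c ∈ nseVals, 23 ∣ c → 11 ∣ c → c ∈ ([0, 3795, 56672, 318780, 680064, 850080, 1275120, 1360128, 1457280] : List ℕ) := by
    decide +kernel
  exact hv _ (H.mem n) d23 d11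

theorem cnt_two : cnt G 2 = 3795 := by
  have : Fact (Nat.Prime 2) := ⟨Nat.prime_two⟩
  have hz := dvd_sum_divisors (G := G) (n := 2) (by rw [H.card]; norm_num)
  rw [show Nat.divisors 2 = {1, 2} by decide +kernel, Finset.sum_pair (by norm_num), cnt_one] at hz
  have hv : ∀ c ∈ ([0, 3795, 56672, 318780, 680064, 850080, 1275120, 1360128, 1457280] : List ℕ), (1 + c) % 2 = 0 → c = 3795 := by decide +kernel
  exact hv _ (cnt_vals H (by norm_num) (by norm_num) (by norm_num)) (Nat.mod_eq_zero_of_dvd hz)

theorem cnt_three : cnt G 3 = 56672 := by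
  have hz := dvd_sum_divisors (G := G) (n := 3) (by rw [H.card]; norm_num)
  rw [show Nat.divisors 3 = {1, 3} by decide +kernel, Finset.sum_pair (by norm_num), cnt_one] at hz
  have hv : ∀ c ∈ ([0, 3795, 56672, 318780, 680064, 850080, 1275120, 1360128, 1457280] : List ℕ), (1 + c) % 3 = 0 → c = 56672 := by decide +kernel
  exact hv _ (cnt_vals H (by norm_num) (by norm_num) (by norm_num)) (Nat.mod_eq_zero_of_dvd hz)

end Cfsg.Lib.M23Nse
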