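import Cfsg.Agent.M23Nse.ThreeCent

/-!
An element inverting an element of order three induces an outer automorphism on the derived subgroup
of its centraliser.
-/

set_option autoImplicit false
set_option linter.unusedSectionVars false
set_option linter.style.haveILetI false
set_option maxRecDepth 100000
set_option synthInstance.maxSize 4000

namespace Cfsg.Lib.M23Nse

open Subgroup Equiv Cfsg.Lib.SameOrder

universe u

/-- a double transposition -/
def i01 : A5 := ⟨swap 0 1 * swap 2 3, Perm.mem_alternatingGroup.2 (by decide +kernel)⟩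

/-- a double transposition commuting with the first one -/
def i02 : A5 := ⟨swap 0 2 * swap 1 3, Perm.mem_alternatingGroup.2 (by decide +kernel)⟩

/-- a five-cycle -/
def r5 : A5 := ⟨swap 0 1 * swap 1 2 * swap 2 3 * swap 3 4, Perm.mem_alternatingGroup.2 (by decide +kernel)⟩

/-- the orders one to five told apart by powers -/
def cl (π : A5) : Bool × Bool × Bool := (decide (π * π = 1), decide (π * π * π = 1), decide (π * π * π * π * π = 1))

theorem r5_facts : r5 * r5 * r5 * r5 * r5 = 1 ∧ r5 ≠ 1 := by decide +kernel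

theorem r5_unique : ∀ r : A5, cl r = cl r5 → cl (i01 * r) = cl (i01 * r5) → cl (i02 * r) = cl (i02 * r5) →
    cl (i01 * i02 * r) = cl (i01 * i02 * r5) →
    ∃ s : A5, s * i01 = i01 * s ∧ s * i02 = i02 * s ∧ s * r5 * s⁻¹ = r := by decide +kernel

theorem pair_conj : ∀ a b : A5, a * a = 1 → b * b = 1 → a * b = b * a → a ≠ 1 → b ≠ 1 → a ≠ b →
    ∃ g : A5, g * i01 * g⁻¹ = a ∧ g * i02 * g⁻¹ = b ∨ g * i01 * g⁻¹ = b ∧ g * i02 * g⁻¹ = a := by decide +kernel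

theorem invol_conj : ∀ a : A5, a * a = 1 → a ≠ 1 → ∀ b : A5, b * b = 1 → b ≠ 1 → ∃ g : A5, g * b * g⁻¹ = a := by
  decide +kernel

theorem three_cent : ∀ a b : A5, a * a = 1 → b * b * b = 1 → b ≠ 1 → a * b = b * a → a = 1 := by decide +kernel

variable {G : Type u} [Group G] [Finite G]

local instance fact_five_out : Fact (Nat.Prime 5) := ⟨Nat.prime_five⟩

theorem Side.comp {x : G} {ψ : A5 →* G} (h : Side x ψ) (e : A5 ≃* A5) : Side x (ψ.comp e.toMonoidHom) := by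
  refine ⟨h.inj.comp e.injective, fun π => h.comm _, fun hx => ?_, fun g hg => ?_⟩
  · obtain ⟨π, hπ⟩ := hx
    exact h.avoid ⟨e π, hπ⟩
  · obtain ⟨k, π, hk, rfl⟩ := h.cover g hg
    exact ⟨k, e.symm π, hk, by simp⟩

theorem conj_five {g n : G} : (n * g * n⁻¹) * (n * g * n⁻¹) * (n * g * n⁻¹) * (n * g * n⁻¹) * (n * g * n⁻¹) =
    n * (g * g * g * g * g) * n⁻¹ := by group

theorem cl_eq_of {ψ : A5 →* G} (hψ : Function.Injective ψ) {n : G} {π π' : A5}
    (h : n * ψ π * n⁻¹ = ψ π') : cl π' = cl π := by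
  have key : ∀ (w : A5) (v : G), ψ w = v → (w = 1 ↔ v = 1) := fun w v e => by
    rw [← e, map_eq_one_iff ψ hψ]
  simp only [cl, Prod.mk.injEq, decide_eq_decide]
  refine ⟨?_, ?_, ?_⟩ <;> rw [key _ _ rfl, key _ _ rfl] <;> simp only [map_mul, ← h, conj_five]
  · rw [show n * ψ π * n⁻¹ * (n * ψ π * n⁻¹) = n * (ψ π * ψ π) * n⁻¹ by group, conj_eq_one_iff]
  · rw [show n * ψ π * n⁻¹ * (n * ψ π * n⁻¹) * (n * ψ π * n⁻¹) = n * (ψ π * ψ π * ψ π) * n⁻¹ by group, conj_eq_one_iff]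
  · rw [conj_eq_one_iff]

variable (H : Fields G)
include H

theorem outer {x n : G} (hx : orderOf x = 3) {ψ : A5 →* G} (hψ : Side x ψ) (hn : n * x * n⁻¹ = x⁻¹)
    {a b : A5} (ha : a * a = 1) (hb : b * b = 1) (hab : a * b = b * a) (ha1 : a ≠ 1) (hb1 : b ≠ 1) (hne : a ≠ b)
    (hna : n * ψ a = ψ a * n) (hnb : n * ψ b = ψ b * n) : False := by
  obtain ⟨g, hg⟩ := pair_conj a b ha hb hab ha1 hb1 hne
  set ψ' := ψ.comp (MulAut.conj g).toMonoidHom
  have hψ' : Side x ψ' := hψ.comp _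
  obtain ⟨c1, c2⟩ : n * ψ' i01 * n⁻¹ = ψ' i01 ∧ n * ψ' i02 * n⁻¹ = ψ' i02 := by
    have e : ∀ i c : A5, g * i * g⁻¹ = c → n * ψ c = ψ c * n → n * ψ' i * n⁻¹ = ψ' i := fun i c hic hc => by
      rw [show ψ' i = ψ c from congrArg ψ hic, hc, mul_inv_cancel_right]
    rcases hg with ⟨h1, h2⟩ | ⟨h1, h2⟩
    · exact ⟨e _ _ h1 hna, e _ _ h2 hnb⟩
    · exact ⟨e _ _ h1 hnb, e _ _ h2 hna⟩
  have hr : orderOf r5 = 5 := orderOf_eq_prime (p := 5) (by
    simpa [pow_succ] using r5_facts.1) r5_facts.2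
  have hy : orderOf (ψ' r5) = 5 := (orderOf_injective ψ' hψ'.inj _).trans hr
  have hyc : n * ψ' r5 * n⁻¹ * x = x * (n * ψ' r5 * n⁻¹) := by
    have hc : Commute (ψ' r5) x⁻¹ := (show Commute (ψ' r5) x from hψ'.comm r5).inv_right
    have hxn : n * x⁻¹ * n⁻¹ = x := by
      rw [show n * x⁻¹ * n⁻¹ = (n * x * n⁻¹)⁻¹ by group, hn, inv_inv]
    calc n * ψ' r5 * n⁻¹ * x = n * (ψ' r5 * x⁻¹) * n⁻¹ := by nth_rw 1 [← hxn]; group
      _ = n * (x⁻¹ * ψ' r5) * n⁻¹ := by rw [hc.eq]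
      _ = _ := by nth_rw 2 [← hxn]; group
  obtain ⟨k, r, -, hr'⟩ := hψ'.cover _ hyc
  obtain ⟨hk, -⟩ := hψ'.order_pair hx (n := 5) (k := k) (π := r) (by norm_num) (by
    rw [← hr', ← MulAut.conj_apply, MulEquiv.orderOf_eq, hy])
  rw [hk, one_mul] at hr'
  have hmul : ∀ u : A5, n * ψ' u * n⁻¹ = ψ' u → n * ψ' (u * r5) * n⁻¹ = ψ' (u * r) := fun u hu => by
    rw [map_mul, map_mul, ← hr']
    nth_rw 2 [← hu]
    group
  obtain ⟨s, -, -, hs⟩ := r5_unique r (cl_eq_of hψ'.inj hr') (cl_eq_of hψ'.inj (hmul _ c1))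
    (cl_eq_of hψ'.inj (hmul _ c2)) (cl_eq_of hψ'.inj (hmul _ (by
      rw [map_mul, show n * (ψ' i01 * ψ' i02) * n⁻¹ = (n * ψ' i01 * n⁻¹) * (n * ψ' i02 * n⁻¹) by group, c1, c2])))
  -- a corrected element centralises an element of order five and inverts the element of order three
  set n0 := (ψ' s)⁻¹ * n with hn0
  have h0y : n0 * ψ' r5 = ψ' r5 * n0 := by
    rw [← mul_inv_eq_iff_eq_mul, hn0, show (ψ' s)⁻¹ * n * ψ' r5 * ((ψ' s)⁻¹ * n)⁻¹ =
      (ψ' s)⁻¹ * (n * ψ' r5 * n⁻¹) * ψ' s by group, hr', ← hs, map_mul, map_mul, map_inv]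
    group
  have h0x : n0 * x * n0⁻¹ = x⁻¹ := by
    rw [hn0, show (ψ' s)⁻¹ * n * x * ((ψ' s)⁻¹ * n)⁻¹ = (ψ' s)⁻¹ * (n * x * n⁻¹) * ψ' s by group, hn,
      mul_assoc, ← (show Commute (ψ' s) x from hψ'.comm s).inv_right.eq, inv_mul_cancel_left]
  set C := centralizer ({ψ' r5} : Set G)
  have hxC : x ∈ C := mem_centralizer_singleton_iff.2 (hψ'.comm r5).symm
  have hyC : ψ' r5 ∈ C := mem_centralizer_singleton_iff.2 rfl
  have hgen : zpowers (x * ψ' r5) = C := Subgroup.eq_of_le_of_card_ge (zpowers_le.2 (mul_mem hxC hyC)) (by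
    rw [Nat.card_zpowers, orderOf_mul_coprime (hψ'.comm r5).symm hx hy (by norm_num), (cent_five H hy).1])
  have hn0C : n0 ∈ zpowers (x * ψ' r5) := hgen.symm ▸ mem_centralizer_singleton_iff.2 h0y
  obtain ⟨j, hj⟩ := mem_zpowers_iff.1 hn0C
  have hcx : Commute (x * ψ' r5) x := (Commute.refl x).mul_left (hψ'.comm r5)
  rw [show n0 * x = x * n0 by rw [← hj]; exact (hcx.zpow_left j).eq, mul_inv_cancel_right] at h0x
  have h2 : x ^ 2 = 1 := by rw [pow_two]; exact mul_eq_one_iff_eq_inv.2 h0x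
  have := orderOf_dvd_of_pow_eq_one h2
  rw [hx] at this
  norm_num at this

end Cfsg.Lib.M23Nse
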