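import Cfsg.Agent.M23Nse.Core
import Cfsg.Agent.M23Nse.Bilinear

/-!
Every involution in a core of order sixteen has the same core, and the normalizer is transitive on
those fifteen involutions.
-/

set_option autoImplicit false
set_option linter.unusedSectionVars false
set_option linter.style.haveILetI false

namespace Cfsg.Lib.M23Nse

open Subgroup Cfsg.Lib.SameOrder Cfsg.Lib.Small Cfsg.Lib.MathieuEleven

universe u

variable {G : Type u} [Group G] [Finite G]

local instance fact_two_st : Fact (Nat.Prime 2) := ⟨Nat.prime_two⟩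
local instance fact_three_st : Fact (Nat.Prime 3) := ⟨Nat.prime_three⟩
local instance fact_seven_st : Fact (Nat.Prime 7) := ⟨by norm_num⟩

theorem relIndex_sup_norm {N K : Subgroup G} (h : K ≤ normalizer (N : Set G)) :
    N.relIndex (N ⊔ K) = N.relIndex K := by
  haveI := Subgroup.normal_subgroupOf_of_le_normalizer h
  haveI := Subgroup.normal_subgroupOf_sup_of_le_normalizer h
  have := Nat.card_congr (QuotientGroup.quotientInfEquivProdNormalizerQuotient K N h).toEquiv
  rw [sup_comm]
  exact this.symm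

theorem inf_mul_relIndex (N K : Subgroup G) :
    Nat.card ↥(N ⊓ K : Subgroup G) * N.relIndex K = Nat.card ↥K := by
  have := Subgroup.relIndex_mul_relIndex ⊥ (N ⊓ K) K bot_le inf_le_right
  rwa [Subgroup.relIndex_bot_left, Subgroup.relIndex_bot_left, Subgroup.inf_relIndex_right] at this

theorem mem_sup_norm {N K : Subgroup G} (h : K ≤ normalizer (N : Set G)) {m : G} (hm : m ∈ N ⊔ K) :
    ∃ a ∈ N, ∃ b ∈ K, m = a * b := by
  rw [← SetLike.mem_coe, Subgroup.coe_mul_of_right_le_normalizer_left N K h] at hm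
  obtain ⟨a, ha, b, hb, rfl⟩ := hm
  exact ⟨a, ha, b, hb, rfl⟩

variable (H : Fields G)
include H

theorem core_order {t : G} (ht : orderOf t = 2) {u : G} (hu : u ∈ core t) (hu1 : u ≠ 1) : orderOf u = 2 :=
  orderOf_eq_prime (p := 2) (by rw [pow_two]; exact core_sq H ht u hu) hu1

/-- two distinct cores through two commuting involutions with a common fixing element of order three -/
theorem two_cores {t s x : G} (ht : orderOf t = 2) (hs : orderOf s = 2) (hx : orderOf x = 3)
    (htx : t * x = x * t) (hsx : s * x = x * s) (hne : core t ≠ core s) :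
    (∀ v, v * x = x * v → v ∈ core t → v ∈ core s → v * v = 1) ∧
    (s ∈ core t → t ∈ core s → core t ⊓ core s = core t ⊓ centralizer ({x} : Set G) ∧
      IsPGroup 2 ↥(core t ⊔ core s) ∧ core t ⊔ core s ≤ centralizer ({t} : Set G) ⊓ centralizer ({s} : Set G)) := by
  refine ⟨fun v _ hv _ => core_sq H ht v hv, fun hst hts => ?_⟩
  obtain ⟨hC, htE, hcE, hn⟩ := isCore H ht
  obtain ⟨hC', hsE, hcE', hn'⟩ := isCore H hs
  have hEs : core t ≤ centralizer ({s} : Set G) := fun u hu => mem_centralizer_singleton_iff.2 (core_comm H ht hu hst)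
  have hEt : core s ≤ centralizer ({t} : Set G) := fun u hu => mem_centralizer_singleton_iff.2 (core_comm H hs hu hts)
  refine ⟨?_, ?_, sup_le (le_inf hC hEs) (le_inf hEt hC')⟩
  · set W := core t ⊓ centralizer ({x} : Set G)
    have hW := (core_four H ht hx htx).1
    have hWle : W ≤ core t ⊓ core s := fun v hv => by
      obtain ⟨hv1, hv2⟩ := mem_inf.1 hv
      exact mem_inf.2 ⟨hv1, (core_four H hs hx hsx).2 v (mem_centralizer_singleton_iff.1 hv2)
        (core_comm H ht hv1 hst) (core_sq H ht v hv1)⟩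
    set I := core t ⊓ core s
    have hd : Nat.card ↥I ∣ 16 := hcE ▸ Subgroup.card_dvd_of_le inf_le_left
    have hI4 : 4 ≤ Nat.card ↥I := hW ▸ Subgroup.card_le_of_le hWle
    have hI16 : Nat.card ↥I ≠ 16 := fun e => hne (by
      rw [← Subgroup.eq_of_le_of_card_ge (inf_le_left : I ≤ core t) (hcE.trans e.symm).le]
      exact Subgroup.eq_of_le_of_card_ge (inf_le_right : I ≤ core s) (hcE'.trans e.symm).le)
    have hm := fix_mod (p := 3) I hx fun u hu =>
      mem_inf.2 ⟨hn x htx.symm u (mem_inf.1 hu).1, hn' x hsx.symm u (mem_inf.1 hu).2⟩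
    have hIx : I ⊓ centralizer ({x} : Set G) = W :=
      le_antisymm (fun v hv => mem_inf.2 ⟨(mem_inf.1 (mem_inf.1 hv).1).1, (mem_inf.1 hv).2⟩)
        (fun v hv => mem_inf.2 ⟨hWle hv, (mem_inf.1 hv).2⟩)
    rw [hIx, hW] at hm
    have h4 : Nat.card ↥I = 4 := by
      have : ∀ d ∈ Nat.divisors 16, 4 ≤ d → d ≠ 16 → d % 3 = 4 % 3 → d = 4 := by decide +kernel
      exact this _ (Nat.mem_divisors.2 ⟨hd, by norm_num⟩) hI4 hI16 hm
    exact (Subgroup.eq_of_le_of_card_ge hWle (h4.trans hW.symm).le).symm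
  · exact IsPGroup.to_sup_of_normal_left' (IsPGroup.of_card (n := 4) (by rw [hcE]; norm_num))
      (IsPGroup.of_card (n := 4) (by rw [hcE']; norm_num))
      fun g hg => mem_normalizer_of_conj _ (hn g (mem_centralizer_singleton_iff.1 (hEt hg)))

set_option maxHeartbeats 1600000 in
/-- the core does not depend on the involution chosen in a fixed four-group -/
theorem core_stable_four {t s x : G} (ht : orderOf t = 2) (hx : orderOf x = 3) (htx : t * x = x * t)
    (hs : s ∈ core t) (hsx : s * x = x * s) (hs1 : s ≠ 1) (hst : s ≠ t) : core s = core t := by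
  classical
  have hso := core_order H ht hs hs1
  obtain ⟨ψ, hψ⟩ := exists_side H hx
  obtain ⟨a, ha, ha2, ha1⟩ := exists_tau H hx hψ ht htx
  obtain ⟨b, hb, hb2, hb1⟩ := exists_tau H hx hψ hso hsx
  have hab : a * b = b * a := hψ.inj (by
    rw [map_mul, map_mul, ← ha, ← hb]; exact core_comm H ht (isCore H ht).2.1 hs)
  obtain ⟨σ, -, hσ1, hσ2⟩ := three_cycle a b ha2 hb2 hab ha1 hb1 fun e => hst (by rw [hb, ← e, ha])
  set g := ψ σ
  have hgx : g * x = x * g := hψ.comm σ
  have gt : g * t * g⁻¹ = s := by rw [ha, hb, ← hσ1, map_mul, map_mul, map_inv]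
  have gs : g * s * g⁻¹ = t * s := by rw [ha, hb, ← map_mul ψ a b, ← hσ2, map_mul, map_mul, map_inv]
  set u := t * s with hu
  have htE := (isCore H ht).2.1
  have huE : u ∈ core t := mul_mem htE hs
  have hu1 : u ≠ 1 := fun e => hst (by
    have := eq_inv_of_mul_eq_one_right e
    rw [this, core_inv H ht htE])
  have huo := core_order H ht huE hu1
  have hux : u * x = x * u := ((show Commute t x from htx).mul_left hsx).eq
  by_contra hne
  have e2 : core s = (core t).map (MulAut.conj g).toMonoidHom := by rw [← gt, core_conj H ht]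
  have e3 : core u = (core s).map (MulAut.conj g).toMonoidHom := by rw [show u = g * s * g⁻¹ from hu.trans gs.symm, core_conj H hso]
  have htEs : t ∈ core s := (core_four H hso hx hsx).2 t htx (core_comm H ht htE hs) (core_sq H ht t htE)
  have htEu : t ∈ core u := (core_four H huo hx hux).2 t htx (core_comm H ht htE huE) (core_sq H ht t htE)
  have hsEs := (isCore H hso).2.1
  have huEu := (isCore H huo).2.1
  have hsEu : s ∈ core u := (core_four H huo hx hux).2 s hsx (core_comm H ht hs huE) (core_sq H ht s hs)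
  have huEs : u ∈ core s := mul_mem htEs hsEs
  have h23 : core s ≠ core u := fun e => by
    rw [e3, e2] at e
    refine hne ?_
    rw [e2]
    exact (Subgroup.map_injective (f := (MulAut.conj g).toMonoidHom) (MulAut.conj g).injective e).symm
  have h13 : core t ≠ core u := fun e => by
    have e31 : (core u).map (MulAut.conj g).toMonoidHom = core t := by
      rw [← core_conj H huo, show g * u * g⁻¹ = t by
        rw [hu, show g * (t * s) * g⁻¹ = (g * t * g⁻¹) * (g * s * g⁻¹) by group, gt, gs, hu, ← mul_assoc,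
          ← core_comm H ht htE hs, mul_assoc, core_sq H ht s hs, mul_one]]
    rw [← e] at e31
    exact hne (e2.trans e31)
  obtain ⟨hI12, hP12, hle12⟩ := (two_cores H ht hso hx htx hsx (fun e => hne e.symm)).2 hs htEs
  obtain ⟨hI13, hP13, hle13⟩ := (two_cores H ht huo hx htx hux h13).2 huE htEu
  obtain ⟨hI23, -, -⟩ := (two_cores H hso huo hx hsx hux h23).2 huEs hsEu
  set V := core t ⊓ centralizer ({x} : Set G) with hV
  have hVs : core s ⊓ centralizer ({x} : Set G) = V := by
    refine le_antisymm (fun v hv => ?_) fun v hv => ?_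
    · obtain ⟨hv1, hv2⟩ := mem_inf.1 hv
      exact mem_inf.2 ⟨(core_four H ht hx htx).2 v (mem_centralizer_singleton_iff.1 hv2)
        (core_comm H hso hv1 htEs) (core_sq H hso v hv1), hv2⟩
    · obtain ⟨hv1, hv2⟩ := mem_inf.1 hv
      exact mem_inf.2 ⟨(core_four H hso hx hsx).2 v (mem_centralizer_singleton_iff.1 hv2)
        (core_comm H ht hv1 hs) (core_sq H ht v hv1), hv2⟩
  rw [hVs] at hI23
  -- the products of two cores
  obtain ⟨hC, -, hcE, hn⟩ := isCore H ht
  have hcard : ∀ K : Subgroup G, K ≤ centralizer ({t} : Set G) → IsPGroup 2 ↥K → Nat.card ↥K ∣ 2 ^ 7 := by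
    intro K hK hp
    obtain ⟨j, hj⟩ := IsPGroup.iff_card.1 hp
    have hd : Nat.card ↥K ∣ 2688 := cent_two H ht ▸ Subgroup.card_dvd_of_le hK
    refine Nat.Coprime.dvd_of_dvd_mul_right ?_ (show Nat.card ↥K ∣ 2 ^ 7 * 21 by norm_num; exact hd)
    rw [hj]; exact Nat.Coprime.pow_left j (by norm_num)
  set M2 := core t ⊔ core s
  set M3 := core t ⊔ core u
  have hnorm : ∀ (K : Subgroup G), (∀ k ∈ K, k * t = t * k) → K ≤ normalizer (core t : Set G) :=
    fun K hK k hk => mem_normalizer_of_conj _ (hn k (hK k hk))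
  have hM : ∀ w : G, orderOf w = 2 → t ∈ core w → core t ⊓ core w = V →
      Nat.card ↥(core t ⊔ core w) = 64 := by
    intro w hw htw hI
    have hle : core w ≤ normalizer (core t : Set G) := hnorm _ fun k hk => core_comm H hw hk htw
    have hr : (core t).relIndex (core w) * Nat.card ↥V = 16 := by
      rw [← hI, ← (isCore H hw).2.2.1, mul_comm]
      exact inf_mul_relIndex (core t) (core w)
    have hV4 : Nat.card ↥V = 4 := (core_four H ht hx htx).1
    rw [hV4] at hr
    have h2 := Subgroup.card_mul_index ((core t).subgroupOf (core t ⊔ core w))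
    rw [Nat.card_congr (Subgroup.subgroupOfEquivOfLe (le_sup_left : core t ≤ core t ⊔ core w)).toEquiv, hcE] at h2
    have h3 := relIndex_sup_norm hle
    rw [← h2]
    change 16 * (core t).relIndex (core t ⊔ core w) = 64
    rw [h3]
    omega
  have hM2 : Nat.card ↥M2 = 64 := hM s hso htEs hI12
  have hM3 : Nat.card ↥M3 = 64 := hM u huo htEu hI13
  have hMeq : M2 = M3 := by
    by_contra hMne
    have hTle : core u ≤ normalizer (M2 : Set G) := fun k hk => mem_normalizer_of_conj _ fun m hm => by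
      have hkt : k * t = t * k := core_comm H huo hk htEu
      have hks : k * s = s * k := core_comm H huo hk hsEu
      have hmap : M2.map (MulAut.conj k).toMonoidHom ≤ M2 := by
        rw [Subgroup.map_sup]
        refine sup_le ?_ ?_
        · rintro _ ⟨v, hv, rfl⟩; exact mem_sup_left (hn k hkt v hv)
        · rintro _ ⟨v, hv, rfl⟩; exact mem_sup_right ((isCore H hso).2.2.2 k hks v hv)
      exact hmap ⟨m, hm, rfl⟩
    have hTp : IsPGroup 2 ↥(M2 ⊔ core u) := IsPGroup.to_sup_of_normal_left' hP12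
      (IsPGroup.of_card (n := 4) (by rw [(isCore H huo).2.2.1]; norm_num)) hTle
    have hTd := hcard _ (sup_le (hle12.trans inf_le_left) (le_sup_right.trans (hle13.trans inf_le_left))) hTp
    have h2 := Subgroup.card_mul_index (M2.subgroupOf (M2 ⊔ core u))
    rw [Nat.card_congr (Subgroup.subgroupOfEquivOfLe (le_sup_left : M2 ≤ M2 ⊔ core u)).toEquiv, hM2] at h2
    have h3 := relIndex_sup_norm hTle
    change 64 * M2.relIndex (M2 ⊔ core u) = _ at h2
    rw [h3] at h2
    set I := M2 ⊓ core u
    have hI : Nat.card ↥I * M2.relIndex (core u) = 16 :=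
      (inf_mul_relIndex M2 (core u)).trans (isCore H huo).2.2.1
    have hT : Nat.card ↥(M2 ⊔ core u) ≤ 2 ^ 7 := Nat.le_of_dvd (by norm_num) hTd
    have hr2 : M2.relIndex (core u) ≤ 2 := by omega
    have hI8 : 8 ≤ Nat.card ↥I := by
      by_contra! h
      have := Nat.mul_le_mul (show Nat.card ↥I ≤ 7 by omega) hr2
      omega
    have hxu : x * u = u * x := hux.symm
    have hm := fix_mod (p := 3) I hx fun v hv => mem_inf.2 ⟨by
      have hmap : M2.map (MulAut.conj x).toMonoidHom ≤ M2 := by
        rw [Subgroup.map_sup]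
        refine sup_le ?_ ?_
        · rintro _ ⟨w, hw, rfl⟩; exact mem_sup_left (hn x htx.symm w hw)
        · rintro _ ⟨w, hw, rfl⟩; exact mem_sup_right ((isCore H hso).2.2.2 x hsx.symm w hw)
      exact hmap ⟨v, (mem_inf.1 hv).1, rfl⟩, (isCore H huo).2.2.2 x hxu v (mem_inf.1 hv).2⟩
    have hIx : Nat.card ↥(I ⊓ centralizer ({x} : Set G) : Subgroup G) = 4 := by
      rw [← (core_four H ht hx htx).1]
      refine congrArg (fun K : Subgroup G => Nat.card ↥K) (le_antisymm (fun v hv => ?_) fun v hv => ?_)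
      · obtain ⟨hv1, hv2⟩ := mem_inf.1 hv
        have hvu := (mem_inf.1 hv1).2
        exact mem_inf.2 ⟨(core_four H ht hx htx).2 v (mem_centralizer_singleton_iff.1 hv2)
          (core_comm H huo hvu htEu) (core_sq H huo v hvu), hv2⟩
      · obtain ⟨hv1, hv2⟩ := mem_inf.1 hv
        exact mem_inf.2 ⟨mem_inf.2 ⟨mem_sup_left hv1, (core_four H huo hx hux).2 v
          (mem_centralizer_singleton_iff.1 hv2) (core_comm H ht hv1 huE) (core_sq H ht v hv1)⟩, hv2⟩
    rw [hIx] at hm
    have hId : Nat.card ↥I ∣ 16 := Dvd.intro _ hI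
    have h16 : Nat.card ↥I = 16 := by
      have : ∀ d ∈ Nat.divisors 16, 8 ≤ d → d % 3 = 4 % 3 → d = 16 := by decide +kernel
      exact this _ (Nat.mem_divisors.2 ⟨hId, by norm_num⟩) hI8 hm
    have huM : core u ≤ M2 := by
      rw [← Subgroup.eq_of_le_of_card_ge (inf_le_right : I ≤ core u) (by rw [h16, (isCore H huo).2.2.1])]
      exact inf_le_left
    exact hMne (Subgroup.eq_of_le_of_card_ge (sup_le le_sup_left huM) (hM2.trans hM3.symm).le).symm
  -- the configuration of the three cores
  have hns : core s ≤ normalizer (core t : Set G) := hnorm _ fun l hl => core_comm H hso hl htEs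
  have hnu : core u ≤ normalizer (core t : Set G) := hnorm _ fun l hl => core_comm H huo hl htEu
  have hfix : ∀ w : G, orderOf w = 2 → w * x = x * w → core w ⊓ centralizer ({x} : Set G) = V →
      ∀ a ∈ core w, x * a = a * x → a ∈ V := fun w _ _ hV' a ha hax =>
    hV' ▸ mem_inf.2 ⟨ha, mem_centralizer_singleton_iff.2 hax.symm⟩
  have T : Triple (core t) (core s) (core u) V x :=
    { sqA := core_sq H ht
      sqB := core_sq H hso
      sqD := core_sq H huo
      cardA := hcE
      cardB := (isCore H hso).2.2.1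
      cardV := (core_four H ht hx htx).1
      VA := inf_le_left
      VB := hVs ▸ inf_le_left
      AD := hI13
      BD := hI23
      comm := fun e he h hh => by
        rw [← hI12]
        refine mem_inf.2 ⟨?_, ?_⟩
        · rw [cc, show e * h * e * h = e * (h * e * h⁻¹) * (h * h) by group, core_sq H hso h hh, mul_one]
          exact mul_mem he (hn h (core_comm H hso hh htEs) e he)
        · rw [cc, show e * h * e * h = (e * h * e⁻¹) * (e * e) * h by group, core_sq H ht e he, mul_one]
          exact mul_mem ((isCore H hso).2.2.2 e (core_comm H ht he hs) h hh) hh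
      prod := fun m hm => by
        have hmM : m ∈ M3 := hMeq ▸ mem_sup_right hm
        obtain ⟨e, he, k, hk, rfl⟩ := mem_sup_norm hnu hmM
        exact ⟨e⁻¹, inv_mem he, by rwa [inv_mul_cancel_left]⟩
      covers := fun d hd => by
        have hdM : d ∈ M2 := hMeq.symm ▸ mem_sup_right hd
        obtain ⟨e, he, k, hk, rfl⟩ := mem_sup_norm hns hdM
        exact ⟨e, he, k, hk, rfl⟩
      normA := hn x htx.symm
      normB := (isCore H hso).2.2.2 x hsx.symm
      normD := (isCore H huo).2.2.2 x hux.symm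
      fixV := fun v hv => (mem_centralizer_singleton_iff.1 (mem_inf.1 hv).2).symm
      fixA := hfix t ht htx rfl
      fixB := hfix s hso hsx hVs
      cube := by rw [← hx, pow_orderOf_eq_one] }
  obtain ⟨w, hwV, hAB, hBD⟩ := T.exists_line
  obtain ⟨p, hp, k, hk, hpk⟩ : ∃ p ∈ core t, ∃ k ∈ core s, cc p k ≠ 1 := by
    by_contra! hall
    refine hne ?_
    have hle : core s ≤ core t := fun m hm => core_cent H ht fun e he => by
      have h1 := hall e he m hm
      rw [cc, mul_assoc (e * m)] at h1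
      have h' := eq_inv_of_mul_eq_one_right h1
      rw [mul_inv_rev, core_inv H hso hm, core_inv H ht he] at h'
      exact h'.symm
    exact Subgroup.eq_of_le_of_card_ge hle (by rw [hcE, (isCore H hso).2.2.1])
  have hw : cc p k = w := (hAB p hp k hk).resolve_left hpk
  have hgw : g * w * g⁻¹ = w := by
    rw [← hw, ← cc_conj]
    rw [hw]
    refine (hBD _ (e2 ▸ ⟨p, hp, rfl⟩) _ (e3 ▸ ⟨k, hk, rfl⟩)).resolve_left fun h1 => hpk ?_
    rw [cc_conj, conj_eq_one_iff] at h1
    exact h1
  have ht1 : t ≠ 1 := fun e => by rw [e, orderOf_one] at ht; norm_num at ht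
  have htu : t ≠ u := fun e => hs1 (mul_eq_left.1 e.symm)
  have hsu : s ≠ u := fun e => ht1 (mul_eq_right.1 e.symm)
  have hV4 : (V : Set G) = {1, t, s, u} := by
    refine (Set.eq_of_subset_of_ncard_le ?_ ?_ (Set.toFinite _)).symm
    · rintro z (rfl | rfl | rfl | rfl)
      · exact one_mem _
      · exact mem_inf.2 ⟨htE, mem_centralizer_singleton_iff.2 htx⟩
      · exact mem_inf.2 ⟨hs, mem_centralizer_singleton_iff.2 hsx⟩
      · exact mem_inf.2 ⟨huE, mem_centralizer_singleton_iff.2 hux⟩
    · rw [← Nat.card_coe_set_eq]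
      change Nat.card ↥V ≤ _
      rw [(core_four H ht hx htx).1, Set.ncard_insert_of_notMem (by simp [Ne.symm ht1, Ne.symm hs1, Ne.symm hu1]),
        Set.ncard_eq_three.2 ⟨t, s, u, fun e => hst e.symm, htu, hsu, rfl⟩]
  have gu : g * u * g⁻¹ = t := by
    rw [hu, show g * (t * s) * g⁻¹ = (g * t * g⁻¹) * (g * s * g⁻¹) by group, gt, gs, hu, ← mul_assoc,
      ← core_comm H ht htE hs, mul_assoc, core_sq H ht s hs, mul_one]
  have hwm : w ∈ ({1, t, s, u} : Set G) := hV4 ▸ hwV
  rcases hwm with rfl | rfl | rfl | rfl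
  · exact hpk hw
  · rw [gt] at hgw; exact hst hgw
  · rw [gs] at hgw; exact hsu hgw.symm
  · rw [gu] at hgw; exact htu hgw

theorem exists_fixer {t s : G} (ht : orderOf t = 2) (hs : s ∈ core t) (hs1 : s ≠ 1) (hst : s ≠ t) :
    ∃ x, orderOf x = 3 ∧ t * x = x * t ∧ s * x = x * s := by
  classical
  obtain ⟨hC, htE, hcE, hn⟩ := isCore H ht
  have := Fintype.ofFinite G
  set S : Finset G := Finset.univ.filter fun a => a ∈ core t ∧ a ≠ 1 ∧ a ≠ t ∧
    ∃ x, orderOf x = 3 ∧ t * x = x * t ∧ a * x = x * a with hS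
  have hSm : ∀ a, a ∈ S ↔ a ∈ core t ∧ a ≠ 1 ∧ a ≠ t ∧ ∃ x, orderOf x = 3 ∧ t * x = x * t ∧ a * x = x * a :=
    fun a => by simp [hS]
  obtain ⟨y, hyt, hyo⟩ := exists_in_cent H ht (q := 7) (by norm_num) (by norm_num)
  have hd7 : 7 ∣ S.card := by
    rw [← Set.ncard_coe_finset]
    refine dvd_ncard_conj (x := y) (k := 1) (by rw [pow_one, ← hyo, pow_orderOf_eq_one]) ?_ ?_
    · intro a ha
      rw [Finset.mem_coe, hSm] at ha ⊢
      obtain ⟨ha1, ha2, ha3, x, hx, htx, hax⟩ := ha
      refine ⟨hn y hyt a ha1, fun e => ha2 (conj_eq_one_iff.1 e), fun e => ha3 ?_, y * x * y⁻¹, ?_, ?_, ?_⟩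
      · have e' : y * t * y⁻¹ = t := by rw [hyt, mul_inv_cancel_right]
        exact (MulAut.conj y).injective (e.trans e'.symm)
      · rw [← MulAut.conj_apply, MulEquiv.orderOf_eq, hx]
      · have e' : y * t * y⁻¹ = t := by rw [hyt, mul_inv_cancel_right]
        calc t * (y * x * y⁻¹) = y * t * y⁻¹ * (y * x * y⁻¹) := by rw [e']
          _ = y * (t * x) * y⁻¹ := by group
          _ = y * (x * t) * y⁻¹ := by rw [htx]
          _ = y * x * y⁻¹ * (y * t * y⁻¹) := by group
          _ = _ := by rw [e']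
      · calc y * a * y⁻¹ * (y * x * y⁻¹) = y * (a * x) * y⁻¹ := by group
          _ = y * (x * a) * y⁻¹ := by rw [hax]
          _ = _ := by group
    · intro a ha hay
      rw [Finset.mem_coe, hSm] at ha
      obtain ⟨b, hb⟩ := (Nat.card_eq_one_iff_exists).1 (cent_seven H hyo).2
      have e1 := hb ⟨a, core_order H ht ha.1 ha.2.1, hay.symm⟩
      have e2 := hb ⟨t, ht, hyt.symm⟩
      exact ha.2.2.1 (congrArg Subtype.val (e1.trans e2.symm))
  have ht1 : t ≠ 1 := fun e => by rw [e, orderOf_one] at ht; norm_num at ht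
  have hev : Even S.card := by
    refine even_card_of_involution S (fun a => t * a) (fun a ha => ?_) (fun a _ => ?_) (fun a _ e => ?_)
    · rw [hSm] at ha ⊢
      obtain ⟨ha1, ha2, ha3, x, hx, htx, hax⟩ := ha
      refine ⟨mul_mem htE ha1, fun e => ha3 ?_, fun e => ha2 (mul_eq_left.1 e), x, hx, htx,
        ((show Commute t x from htx).mul_left hax).eq⟩
      rw [eq_inv_of_mul_eq_one_right e, core_inv H ht htE]
    · rw [← mul_assoc, core_sq H ht t htE, one_mul]
    · exact ht1 (mul_eq_right.1 e)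
  obtain ⟨x, hxt, hxo⟩ := exists_in_cent H ht (q := 3) Nat.prime_three (by norm_num)
  obtain ⟨a, ha, ha1, hat⟩ : ∃ a ∈ core t ⊓ centralizer ({x} : Set G), a ≠ 1 ∧ a ≠ t := by
    by_contra! hall
    have hsub : ((core t ⊓ centralizer ({x} : Set G) : Subgroup G) : Set G) ⊆ {1, t} := fun a ha => by
      by_cases h : a = 1
      · exact Or.inl h
      · exact Or.inr (hall a ha h)
    have := Set.ncard_le_ncard hsub (Set.toFinite _)
    rw [Set.ncard_pair (Ne.symm ht1), ← Nat.card_coe_set_eq] at this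
    change Nat.card ↥(core t ⊓ centralizer ({x} : Set G) : Subgroup G) ≤ 2 at this
    rw [(core_four H ht hxo hxt.symm).1] at this
    omega
  have haS : a ∈ S := (hSm a).2
    ⟨(mem_inf.1 ha).1, ha1, hat, x, hxo, hxt.symm, mem_centralizer_singleton_iff.1 (mem_inf.1 ha).2⟩
  have hpos : 0 < S.card := Finset.card_pos.2 ⟨a, haS⟩
  set T : Finset G := Finset.univ.filter fun a => a ∈ core t ∧ a ≠ 1 ∧ a ≠ t
  have hST : S ⊆ T := fun a ha => by
    simp only [T, Finset.mem_filter, Finset.mem_univ, true_and]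
    exact ⟨((hSm a).1 ha).1, ((hSm a).1 ha).2.1, ((hSm a).1 ha).2.2.1⟩
  have hT14 : T.card ≤ 14 := by
    have hsub : (T : Set G) ⊆ ((core t : Set G) \ {1}) \ {t} := fun a ha => by
      simp only [T, Finset.coe_filter, Finset.mem_univ, true_and, Set.mem_ofPred_eq] at ha
      exact ⟨⟨ha.1, ha.2.1⟩, ha.2.2⟩
    have := Set.ncard_le_ncard hsub (Set.toFinite _)
    rw [Set.ncard_coe_finset, Set.ncard_sdiff_singleton_of_mem (show t ∈ (core t : Set G) \ {1} from ⟨htE, ht1⟩),
      Set.ncard_sdiff_singleton_of_mem (show (1 : G) ∈ (core t : Set G) from one_mem (core t)), ← Nat.card_coe_set_eq] at this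
    change T.card ≤ Nat.card ↥(core t) - 1 - 1 at this
    omega
  have hS14 : 14 ≤ S.card := by
    obtain ⟨c, hc⟩ := hd7
    obtain ⟨m, hm⟩ := hev
    omega
  have hsT : s ∈ T := by
    simp only [T, Finset.mem_filter, Finset.mem_univ, true_and]
    exact ⟨hs, hs1, hst⟩
  rw [← Finset.eq_of_subset_of_card_le hST (by omega)] at hsT
  exact ((hSm s).1 hsT).2.2.2

/-- every involution in a core has the same core -/
theorem core_stable {t s : G} (ht : orderOf t = 2) (hs : s ∈ core t) (hs1 : s ≠ 1) : core s = core t := by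
  by_cases hst : s = t
  · rw [hst]
  obtain ⟨x, hx, htx, hsx⟩ := exists_fixer H ht hs hs1 hst
  exact core_stable_four H ht hx htx hs hsx hs1 hst

end Cfsg.Lib.M23Nse
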