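import Cfsg.Agent.M23Nse.Fields
import Cfsg.Agent.Classical.Misc.SixtyGroup

/-!
The centralisers of the elements of orders five and three: the latter are direct products of a group
of order three with an alternating group of degree five.
-/

set_option autoImplicit false
set_option linter.unusedSectionVars false
set_option linter.style.haveILetI false

namespace Cfsg.Lib.M23Nse

open Subgroup Cfsg.Lib.SameOrder Cfsg.Lib.Small Cfsg.Lib.MathieuEleven

universe u

variable {G : Type u} [Group G] [Finite G]

local instance fact_two_thr : Fact (Nat.Prime 2) := ⟨Nat.prime_two⟩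
local instance fact_three_thr : Fact (Nat.Prime 3) := ⟨Nat.prime_three⟩
local instance fact_five_thr : Fact (Nat.Prime 5) := ⟨Nat.prime_five⟩

/-- the alternating group of degree five -/
abbrev A5 := alternatingGroup (Fin 5)

theorem orderOf_mul_coprime {a b : G} {m n : ℕ} (h : a * b = b * a) (ha : orderOf a = m) (hb : orderOf b = n)
    (hc : Nat.Coprime m n) : orderOf (a * b) = m * n := by
  rw [(show Commute a b from h).orderOf_mul_eq_mul_orderOf_of_coprime (by rw [ha, hb]; exact hc), ha, hb]

theorem order_pow_split {g : G} {p q a : ℕ} (hg : orderOf g = p * q) (hap : a % p = 1) (haq : a % q = 0)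
    (hp : 0 < p) (hq : 0 < q) : orderOf (g ^ a) = p := by
  obtain ⟨c, rfl⟩ := Nat.dvd_of_mod_eq_zero haq
  have ho : orderOf (g ^ q) = p := by
    rw [orderOf_pow' _ hq.ne', hg, Nat.gcd_mul_left_left p q, Nat.mul_div_cancel _ hq]
  have hcop : Nat.gcd p c = 1 := Nat.eq_one_of_dvd_one (by
    have h1 : Nat.gcd p c ∣ q * c := (Nat.gcd_dvd_right p c).trans (Dvd.intro_left q rfl)
    have h2 : Nat.gcd p c ∣ p * (q * c / p) := (Nat.gcd_dvd_left p c).trans (Dvd.intro _ rfl)
    have h3 := Nat.div_add_mod (q * c) p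
    rw [hap] at h3
    rw [← h3] at h1
    exact (Nat.dvd_add_right h2).1 h1)
  by_cases hc : c = 0
  · subst hc
    have : p = 1 := by simpa using hcop
    simp [this]
  · rw [pow_mul, orderOf_pow' _ hc, ho, hcop, Nat.div_one]

/-- elements whose order is a product of two coprime numbers against commuting pairs -/
def pairEquiv (p q a b : ℕ) (hp : 0 < p) (hq : 0 < q) (hcop : Nat.Coprime p q) (hap : a % p = 1) (haq : a % q = 0)
    (hbq : b % q = 1) (hbp : b % p = 0) (hab : (a + b) % (p * q) = 1) :
    {g : G // orderOf g = p * q} ≃ Σ x : {x : G // orderOf x = p}, {y : G // orderOf y = q ∧ y * x.1 = x.1 * y} where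
  toFun g := ⟨⟨g.1 ^ a, order_pow_split g.2 hap haq hp hq⟩,
    ⟨g.1 ^ b, order_pow_split (g.2.trans (Nat.mul_comm p q)) hbq hbp hq hp, (Commute.pow_pow_self g.1 b a).eq⟩⟩
  invFun z := ⟨z.1.1 * z.2.1, orderOf_mul_coprime z.2.2.2.symm z.1.2 z.2.2.1 hcop⟩
  left_inv g := Subtype.ext (by
    show g.1 ^ a * g.1 ^ b = g.1
    rw [← pow_add, ← pow_mod_orderOf, g.2, hab, pow_one])
  right_inv z := by
    obtain ⟨⟨x, hx⟩, ⟨y, hy, hc⟩⟩ := z
    have hpow : ∀ (w : G) (m k r : ℕ), orderOf w = m → k % m = r → w ^ k = w ^ r := fun w m k r hw hk => by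
      rw [← pow_mod_orderOf, hw, hk]
    have h1 : (x * y) ^ a = x := by
      rw [(show Commute x y from hc.symm).mul_pow, hpow x p a 1 hx hap, hpow y q a 0 hy haq, pow_one, pow_zero, mul_one]
    refine Sigma.subtype_ext (Subtype.ext h1) ?_
    show (x * y) ^ b = y
    rw [(show Commute x y from hc.symm).mul_pow, hpow x p b 0 hx hbp, hpow y q b 1 hy hbq, pow_one, pow_zero, one_mul]

theorem card_class_le {n : ℕ} {v : G} (hv : orderOf v = n) :
    Nat.card G ≤ cnt G n * Nat.card ↥(centralizer ({v} : Set G)) := by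
  rw [← M12Nse.card_isConj_mul v]
  exact Nat.mul_le_mul_right _ (Nat.card_le_card_of_injective
    (fun x : {x : G // IsConj v x} => (⟨x.1, (M12Nse.conj_orderOf x.2).trans hv⟩ : {g : G // orderOf g = n}))
    fun a b h => Subtype.ext (congrArg (fun y : {g : G // orderOf g = n} => y.1) h))

variable (H : Fields G)
include H

theorem order_mem (g : G) : orderOf g ∈ fieldOrders := H.orders g

theorem comm_order {v w : G} (hc : v * w = w * v) (hcop : Nat.Coprime (orderOf v) (orderOf w)) :
    orderOf v * orderOf w ∈ fieldOrders := by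
  have := order_mem H (v * w)
  rwa [orderOf_mul_coprime hc rfl rfl hcop] at this

theorem exists_elt_prime {q : ℕ} (hq : q.Prime) (K : Subgroup G) (h : q ∣ Nat.card ↥K) :
    ∃ w ∈ K, orderOf w = q := by
  haveI := Fact.mk hq
  obtain ⟨⟨w, hw⟩, hwo⟩ := exists_prime_orderOf_dvd_card' (G := ↥K) q h
  rw [← Subgroup.orderOf_coe] at hwo
  exact ⟨w, hw, hwo⟩

/-- a prime dividing a centraliser -/
theorem prime_dvd_cent {v : G} {q : ℕ} (hq : q.Prime) (hcop : Nat.Coprime (orderOf v) q)
    (h : q ∣ Nat.card ↥(centralizer ({v} : Set G))) : orderOf v * q ∈ fieldOrders := by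
  obtain ⟨w, hw, hwo⟩ := exists_elt_prime H hq _ h
  have := comm_order H (mem_centralizer_singleton_iff.1 hw).symm (hwo ▸ hcop)
  rwa [hwo] at this

theorem cent_five {y : G} (hy : orderOf y = 5) :
    Nat.card ↥(centralizer ({y} : Set G)) = 15 ∧ Nat.card {x : G // orderOf x = 3 ∧ x * y = y * x} = 2 := by
  classical
  have := Fintype.ofFinite G
  have key : ∀ v : {v : G // orderOf v = 5}, (Nat.card ↥(centralizer ({v.1} : Set G)) = 5 ∨
      Nat.card ↥(centralizer ({v.1} : Set G)) = 15) ∧
      Nat.card {x : G // orderOf x = 3 ∧ x * v.1 = v.1 * x} ≤ 2 ∧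
      (Nat.card ↥(centralizer ({v.1} : Set G)) = 5 → Nat.card {x : G // orderOf x = 3 ∧ x * v.1 = v.1 * x} = 0) := by
    rintro ⟨v, hv⟩
    set C := centralizer ({v} : Set G)
    have hd : Nat.card ↥C ∣ 60 := by
      have h := cent_dvd_of_card H.card (H.sylow_five) hv
      rw [(H.cnt_five).2, show (10200960 : ℕ) = 170016 * 60 by norm_num] at h
      exact Nat.dvd_of_mul_dvd_mul_left (by norm_num) h
    have h2 : ¬ 2 ∣ Nat.card ↥C := fun h => by
      have := prime_dvd_cent H Nat.prime_two (by rw [hv]; norm_num) h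
      simp [hv, fieldOrders] at this
    have h5 : 5 ∣ Nat.card ↥C := hv ▸ M12Nse.dvd_centralizer_orderOf rfl
    have hcases : Nat.card ↥C = 5 ∨ Nat.card ↥C = 15 := by
      have : ∀ d ∈ Nat.divisors 60, ¬ 2 ∣ d → 5 ∣ d → d = 5 ∨ d = 15 := by decide +kernel
      exact this _ (Nat.mem_divisors.2 ⟨hd, by norm_num⟩) h2 h5
    refine ⟨hcases, ?_, fun e => ?_⟩
    · rcases hcases with e | e
      · have h0 : Nat.card {x : G // orderOf x = 3 ∧ x * v = v * x} = 0 := by
          haveI : IsEmpty {x : G // orderOf x = 3 ∧ x * v = v * x} := ⟨fun x => by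
            have := M12Nse.dvd_centralizer_orderOf x.2.2
            rw [x.2.1, e] at this
            norm_num at this⟩
          exact Nat.card_of_isEmpty
        show Nat.card {x : G // orderOf x = 3 ∧ x * v = v * x} ≤ 2
        omega
      · obtain ⟨w, hw, hwo⟩ := exists_elt_prime H Nat.prime_three C (by rw [e]; norm_num)
        have hgen : orderOf (w * v) = 15 := orderOf_mul_coprime (mem_centralizer_singleton_iff.1 hw) hwo hv (by norm_num)
        have hwvC : w * v ∈ C := mul_mem hw (mem_centralizer_singleton_iff.2 rfl)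
        haveI : IsCyclic ↥C := isCyclic_of_orderOf_eq_card ⟨_, hwvC⟩ (by rw [Subgroup.orderOf_mk, hgen, e])
        have := Fintype.ofFinite ↥C
        have hle : Nat.card {x : G // orderOf x = 3 ∧ x * v = v * x} ≤ Nat.card {c : ↥C // orderOf c = 3} :=
          Nat.card_le_card_of_injective (fun x => ⟨⟨x.1, mem_centralizer_singleton_iff.2 x.2.2⟩, by
            rw [Subgroup.orderOf_mk]; exact x.2.1⟩) fun a b h => Subtype.ext (congrArg (fun c : {c : ↥C // orderOf c = 3} => (c.1 : G)) h)
        refine hle.trans ?_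
        rw [Nat.card_eq_fintype_card, Fintype.card_subtype,
          IsCyclic.card_orderOf_eq_totient (by rw [← Nat.card_eq_fintype_card, e]; norm_num)]
        decide
    · haveI : IsEmpty {x : G // orderOf x = 3 ∧ x * v = v * x} := ⟨fun x => by
        have := M12Nse.dvd_centralizer_orderOf x.2.2
        rw [x.2.1, e] at this
        norm_num at this⟩
      exact Nat.card_of_isEmpty
  have hsum : ∑ v : {v : G // orderOf v = 5}, Nat.card {x : G // orderOf x = 3 ∧ x * v.1 = v.1 * x} = 1360128 := by
    rw [← H.fifteen, cnt, Nat.card_congr (pairEquiv (G := G) 5 3 6 10 (by norm_num) (by norm_num) (by norm_num)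
      (by norm_num) (by norm_num) (by norm_num) (by norm_num) (by norm_num)), Nat.card_sigma]
  have hall := (Finset.sum_eq_sum_iff_of_le (s := Finset.univ)
    (f := fun v : {v : G // orderOf v = 5} => Nat.card {x : G // orderOf x = 3 ∧ x * v.1 = v.1 * x}) (g := fun _ => 2)
    fun v _ => (key v).2.1).1 (by
      rw [hsum, Finset.sum_const, Finset.card_univ, ← Nat.card_eq_fintype_card, smul_eq_mul]
      have := (H.cnt_five).1
      rw [cnt] at this
      rw [this])
  have h2 : Nat.card {x : G // orderOf x = 3 ∧ x * y = y * x} = 2 := hall ⟨y, hy⟩ (Finset.mem_univ _)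
  refine ⟨(key ⟨y, hy⟩).1.resolve_left fun e => ?_, h2⟩
  have := (key ⟨y, hy⟩).2.2 e
  simp only [h2] at this
  exact absurd this (by norm_num)

/-- the shape of the centraliser of an element of order three -/
theorem cent_three_shape {x : G} (hx : orderOf x = 3) :
    ∃ a c, Nat.card ↥(centralizer ({x} : Set G)) = 2 ^ a * 9 * 5 ^ c ∧ 1 ≤ a + c ∧ a ≤ 5 ∧ c ≤ 1 := by
  classical
  set C := centralizer ({x} : Set G) with hC
  have hdG : Nat.card ↥C ∣ 10200960 := H.card ▸ Subgroup.card_subgroup_dvd_card C
  obtain ⟨S, hS⟩ := IsPGroup.exists_le_sylow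
    (IsPGroup.of_card (p := 3) (n := 1) (by rw [Nat.card_zpowers, hx, pow_one]) : IsPGroup 3 ↥(zpowers x))
  have hS9 : Nat.card ↥(S : Subgroup G) = 9 := by
    simpa using Cfsg.Lib.Small.card_sylow_of_factor S (a := 2) (m := 1133440) (by rw [H.card]; norm_num) (by norm_num)
  have h9 : 9 ∣ Nat.card ↥C := hS9 ▸ Subgroup.card_dvd_of_le (fun a ha => mem_centralizer_singleton_iff.2 (by
    have := IsPGroup.isMulCommutative_of_card_eq_prime_sq (p := 3) (G := ↥(S : Subgroup G)) (by rw [hS9]; norm_num)
    exact congrArg Subtype.val (this.is_comm.comm ⟨a, ha⟩ ⟨x, hS (mem_zpowers x)⟩)))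
  have hnot : ∀ q ∈ [7, 11, 23], ¬ q ∣ Nat.card ↥C := by
    intro q hq hd
    have hqp : q.Prime := by
      simp only [List.mem_cons, List.not_mem_nil, or_false] at hq; rcases hq with rfl | rfl | rfl <;> norm_num
    simp only [List.mem_cons, List.not_mem_nil, or_false] at hq
    have := prime_dvd_cent H hqp (by rw [hx]; rcases hq with rfl | rfl | rfl <;> norm_num) hd
    rcases hq with rfl | rfl | rfl <;> simp [hx, fieldOrders] at this
  have hall : ∀ d ∈ Nat.divisors 5760, 9 ∣ d → ∃ a : Fin 8, ∃ c : Fin 2, d = 2 ^ a.val * 9 * 5 ^ c.val := by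
    decide +kernel
  have hd' : Nat.card ↥C ∣ 5760 := by
    refine Nat.Coprime.dvd_of_dvd_mul_right ?_ (show Nat.card ↥C ∣ 5760 * 1771 by simpa using hdG)
    rw [show (1771 : ℕ) = 7 * 11 * 23 by norm_num]
    exact Nat.Coprime.mul_right (Nat.Coprime.mul_right
      ((Nat.Prime.coprime_iff_not_dvd (by norm_num)).2 (hnot 7 (by simp))).symm
      ((Nat.Prime.coprime_iff_not_dvd (by norm_num)).2 (hnot 11 (by simp))).symm)
      ((Nat.Prime.coprime_iff_not_dvd (by norm_num)).2 (hnot 23 (by simp))).symm
  obtain ⟨a, c, hac⟩ := hall _ (Nat.mem_divisors.2 ⟨hd', by norm_num⟩) h9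
  refine ⟨a.val, c.val, hac, ?_, ?_, by omega⟩
  · by_contra! h0
    have hle := card_class_le hx
    rw [H.card, H.three, ← hC, hac, show a.val = 0 by omega, show c.val = 0 by omega] at hle
    norm_num at hle
  · by_contra! h6
    exact H.threeBound x hx (hac ▸ Dvd.dvd.mul_right (Dvd.dvd.mul_right (pow_dvd_pow 2 h6) _) _)

theorem card_norm_five (P : Sylow 5 G) : Nat.card ↥(normalizer ((P : Subgroup G) : Set G)) = 60 := by
  have h := card_normalizer_mul P
  rw [H.card, (H.cnt_five).2] at h
  omega

/-- a normalised subgroup of order five meets the centraliser of a commuting element of order three -/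
theorem norm_five_cent {x y : G} (hx : orderOf x = 3) (hy : orderOf y = 5) (hc : x * y = y * x) :
    Nat.card ↥(centralizer ({x} : Set G) ⊓ normalizer (zpowers y : Set G) : Subgroup G) = 30 := by
  classical
  obtain ⟨P, hP⟩ := M12Nse.exists_sylow_zpowers (H.sylow_five) hy
  set N := normalizer (zpowers y : Set G) with hN
  have hN60 : Nat.card ↥N = 60 := by rw [hN, ← hP]; exact card_norm_five H P
  obtain ⟨hCy, h2⟩ := cent_five H hy
  have hx1 : x ≠ 1 := fun e => by simp [e] at hx
  have hne : x ≠ x⁻¹ := fun e => by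
    have : x ^ 2 = 1 := by rw [pow_two]; exact mul_eq_one_iff_eq_inv.2 e
    have := orderOf_dvd_of_pow_eq_one this
    rw [hx] at this; norm_num at this
  -- every element of the normalizer fixes or inverts the element of order three
  have hinv : ∀ g ∈ N, g * x * g⁻¹ = x ∨ g * x * g⁻¹ = x⁻¹ := by
    intro g hg
    have hmem : g * x * g⁻¹ * y = y * (g * x * g⁻¹) := by
      have hy' : g⁻¹ * y * g ∈ zpowers y := (mem_normalizer_iff''.1 hg y).1 (mem_zpowers y)
      have h := (M12Nse.mem_cent_zpowers (hc))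
      have h' := mem_centralizer_iff.1 h _ hy'
      calc g * x * g⁻¹ * y = g * (x * (g⁻¹ * y * g)) * g⁻¹ := by group
        _ = g * (g⁻¹ * y * g * x) * g⁻¹ := by rw [h']
        _ = _ := by group
    by_contra! hcon
    have hcard : Nat.card {z : G // orderOf z = 3 ∧ z * y = y * z} ≥ 3 := by
      rw [ge_iff_le, ← Set.coe_ofPred, Nat.card_coe_set_eq]
      refine le_trans ?_ (Set.ncard_le_ncard (s := {x, x⁻¹, g * x * g⁻¹}) ?_ (Set.toFinite _))
      · rw [Set.ncard_eq_three.2 ⟨x, x⁻¹, g * x * g⁻¹, hne, hcon.1.symm, hcon.2.symm, rfl⟩]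
      · rintro z (rfl | rfl | rfl)
        · exact ⟨hx, hc⟩
        · exact ⟨by rw [orderOf_inv, hx], (show Commute x y from hc).inv_left.eq⟩
        · exact ⟨by rw [← MulAut.conj_apply, MulEquiv.orderOf_eq, hx], hmem⟩
    omega
  set K : Subgroup G := centralizer ({x} : Set G) ⊓ N
  have hKN : K ≤ N := inf_le_right
  have hK : ∀ g, g ∈ N → (g ∈ K ↔ g * x * g⁻¹ = x) := fun g hg => by
    simp only [K, mem_inf, mem_centralizer_singleton_iff, hg, and_true]
    exact ⟨fun h => by rw [h, mul_inv_cancel_right], fun h => (mul_inv_eq_iff_eq_mul.1 h)⟩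
  have hidx : (K.subgroupOf N).index ≤ 2 := by
    rw [Subgroup.index_eq_card]
    refine le_trans (Nat.card_le_card_of_surjective
      (fun b : Bool => if b then (QuotientGroup.mk (1 : ↥N) : ↥N ⧸ K.subgroupOf N)
        else if h : ∃ g : ↥N, (g : G) ∉ K then QuotientGroup.mk h.choose else QuotientGroup.mk 1) ?_) (by simp)
    intro q
    induction q using QuotientGroup.induction_on with
    | H g =>
      by_cases hg : (g : G) ∈ K
      · exact ⟨true, by simpa [QuotientGroup.eq, mem_subgroupOf] using hg⟩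
      · have h : ∃ g : ↥N, (g : G) ∉ K := ⟨g, hg⟩
        refine ⟨false, ?_⟩
        simp only [Bool.false_eq_true, if_false, dif_pos h, QuotientGroup.eq, mem_subgroupOf, Subgroup.coe_mul,
          Subgroup.coe_inv]
        have hh := h.choose_spec
        set r := (h.choose : G)
        have e1 : r * x * r⁻¹ = x⁻¹ := (hinv r h.choose.2).resolve_left fun e => hh ((hK r h.choose.2).2 e)
        have e2 : (g : G) * x * (g : G)⁻¹ = x⁻¹ := (hinv _ g.2).resolve_left fun e => hg ((hK _ g.2).2 e)
        refine (hK _ (mul_mem (inv_mem h.choose.2) g.2)).2 ?_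
        calc r⁻¹ * (g : G) * x * (r⁻¹ * (g : G))⁻¹ = r⁻¹ * ((g : G) * x * (g : G)⁻¹) * r := by group
          _ = r⁻¹ * (r * x * r⁻¹) * r := by rw [e2, e1]
          _ = x := by group
  have hmul := Subgroup.card_mul_index (K.subgroupOf N)
  rw [Nat.card_congr (Subgroup.subgroupOfEquivOfLe hKN).toEquiv, hN60] at hmul
  have hpos : (K.subgroupOf N).index ≠ 0 := fun e => by rw [e] at hmul; omega
  have hK60 : Nat.card ↥K ≠ 60 := by
    intro e
    have hKeq : K = N := Subgroup.eq_of_le_of_card_ge hKN (by omega)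
    -- the whole normalizer would centralise the element of order three
    obtain ⟨T, hT⟩ := Sylow.exists_subgroup_card_pow_prime (G := ↥N) 2 (n := 2) (by rw [hN60]; norm_num)
    obtain ⟨t, ht, ht1, ht2⟩ : ∃ t : ↥N, t ∈ T ∧ t ≠ 1 ∧ orderOf t ≠ 2 := by
      by_contra! hall
      -- otherwise an involution would centralise the element of order five
      let f : ↥T → ℕ := fun t => ((List.range 5).find? fun k => decide ((t.1 : G) * y * (t.1 : G)⁻¹ = y ^ k)).getD 0
      have hf : ∀ t : ↥T, f t < 5 ∧ (t.1 : G) * y * (t.1 : G)⁻¹ = y ^ f t := by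
        intro t
        have hm : (t.1 : G) * y * (t.1 : G)⁻¹ ∈ zpowers y := (mem_normalizer_iff.1 t.1.2 y).1 (mem_zpowers y)
        rw [← mem_powers_iff_mem_zpowers, Submonoid.mem_powers_iff] at hm
        obtain ⟨k, hk⟩ := hm
        have hk' : (t.1 : G) * y * (t.1 : G)⁻¹ = y ^ (k % 5) := by rw [← hk, ← hy, pow_mod_orderOf]
        cases hfd : (List.range 5).find? fun k => decide ((t.1 : G) * y * (t.1 : G)⁻¹ = y ^ k) with
        | none => exact absurd (List.find?_eq_none.1 hfd (k % 5) (List.mem_range.2 (Nat.mod_lt _ (by norm_num)))) (by simpa using hk')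
        | some m =>
          simp only [f, hfd, Option.getD_some]
          exact ⟨List.mem_range.1 (List.mem_of_find?_eq_some hfd), by simpa using List.find?_some hfd⟩
      have hsq : ∀ t : ↥T, (f t * f t) % 5 = 1 := by
        intro t
        by_cases h1 : t.1 = 1
        · have := (hf t).2
          rw [h1] at this
          simp only [Subgroup.coe_one, one_mul, inv_one, mul_one] at this
          have h' : y ^ 1 = y ^ f t := by rw [pow_one]; exact this
          rw [pow_inj_mod, hy] at h'
          have := (hf t).1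
          rw [Nat.mod_eq_of_lt this] at h'
          rw [← h']
        · have h2' := pow_orderOf_eq_one t.1
          rw [hall t.1 t.2 h1] at h2'
          have hh : (t.1 : G) * (t.1 : G) = 1 := by rw [← pow_two]; exact congrArg Subtype.val h2'
          have e1 := (hf t).2
          have e3 : y = y ^ (f t * f t) := by
            rw [pow_mul, ← e1, conj_pow, ← e1]
            calc y = (t.1 : G) * (t.1 : G) * y * ((t.1 : G) * (t.1 : G))⁻¹ := by rw [hh]; group
              _ = _ := by group
          nth_rw 1 [← pow_one y] at e3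
          rw [pow_inj_mod, hy] at e3
          exact e3.symm
      obtain ⟨t, t', hne', heq⟩ : ∃ t t' : ↥T, t ≠ t' ∧ f t = f t' := by
        by_contra! h
        have hle : Nat.card ↥T ≤ Nat.card ({1, 4} : Finset ℕ) := Nat.card_le_card_of_injective
          (fun t => ⟨f t, by
            have h1 := hsq t
            have h2 := (hf t).1
            simp only [Finset.mem_insert, Finset.mem_singleton]
            have : ∀ m, m < 5 → m * m % 5 = 1 → m = 1 ∨ m = 4 := by decide +kernel
            exact this _ h2 h1⟩)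
          (fun p q e => by_contra fun hpq => h p q hpq (congrArg Subtype.val e))
        rw [hT, Nat.card_eq_fintype_card, Fintype.card_coe] at hle
        simp at hle
      have hcomm : ((t'⁻¹ * t : ↥T).1 : G) * y = y * ((t'⁻¹ * t : ↥T).1 : G) := by
        simp only [Subgroup.coe_mul, Subgroup.coe_inv]
        have e1 := (hf t).2
        rw [heq, ← (hf t').2] at e1
        rw [← mul_inv_eq_iff_eq_mul]
        calc (t'.1 : G)⁻¹ * (t.1 : G) * y * ((t'.1 : G)⁻¹ * (t.1 : G))⁻¹
            = (t'.1 : G)⁻¹ * ((t.1 : G) * y * (t.1 : G)⁻¹) * (t'.1 : G) := by group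
          _ = (t'.1 : G)⁻¹ * ((t'.1 : G) * y * (t'.1 : G)⁻¹) * (t'.1 : G) := by rw [e1]
          _ = y := by group
      have hne1 : (t'⁻¹ * t : ↥T).1 ≠ 1 := fun e => hne' (inv_mul_eq_one.1 (Subtype.ext e)).symm
      have := M12Nse.dvd_centralizer_orderOf hcomm
      rw [Subgroup.orderOf_coe, hall _ (t'⁻¹ * t : ↥T).2 hne1, hCy] at this
      norm_num at this
    have ho : orderOf (t : G) = 4 := by
      rw [Subgroup.orderOf_coe]
      obtain ⟨k, hk2, hk⟩ := (Nat.dvd_prime_pow Nat.prime_two).1 (hT ▸ Subgroup.orderOf_dvd_natCard T ht)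
      interval_cases k
      · exact absurd (orderOf_eq_one_iff.1 (by simpa using hk)) ht1
      · exact absurd (by simpa using hk) ht2
      · simpa using hk
    have htK : (t : G) ∈ K := by rw [hKeq]; exact t.2
    have := comm_order H (v := x) (w := (t : G))
      (mem_centralizer_singleton_iff.1 htK.1).symm (by rw [hx, ho]; norm_num)
    simp [hx, ho, fieldOrders] at this
  have : (K.subgroupOf N).index = 1 ∨ (K.subgroupOf N).index = 2 := by omega
  rcases this with e | e <;> rw [e] at hmul <;> omega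

end Cfsg.Lib.M23Nse
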