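import Cfsg.Agent.M23Nse.Three

/-!
The centraliser of an element of order three is the direct product of its span with an alternating
group of degree five.
-/

set_option autoImplicit false
set_option linter.unusedSectionVars false
set_option linter.style.haveILetI false

namespace Cfsg.Lib.M23Nse

open Subgroup Cfsg.Lib.SameOrder Cfsg.Lib.Small Cfsg.Lib.MathieuEleven

universe u

variable {G : Type u} [Group G] [Finite G]

local instance fact_two_tc : Fact (Nat.Prime 2) := ⟨Nat.prime_two⟩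
local instance fact_three_tc : Fact (Nat.Prime 3) := ⟨Nat.prime_three⟩
local instance fact_five_tc : Fact (Nat.Prime 5) := ⟨Nat.prime_five⟩

/-- an alternating group of degree five complementing an element of order three in its centraliser -/
structure Side (x : G) (ψ : A5 →* G) : Prop where
  inj : Function.Injective ψ
  comm : ∀ π, ψ π * x = x * ψ π
  avoid : x ∉ ψ.range
  cover : ∀ g : G, g * x = x * g → ∃ k π, k < 3 ∧ g = x ^ k * ψ π

theorem Side.pow_eq_one {x : G} {ψ : A5 →* G} (h : Side x ψ) (hx : orderOf x = 3) {k : ℕ}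
    (hk : x ^ k ∈ ψ.range) : x ^ k = 1 := by
  rw [← pow_mod_orderOf, hx] at hk ⊢
  have h3 : k % 3 < 3 := Nat.mod_lt _ (by norm_num)
  interval_cases hk' : k % 3
  · simp
  · exact absurd (by simpa using hk) h.avoid
  · refine absurd ?_ h.avoid
    have := pow_mem hk 2
    rwa [← pow_mul, show 2 * 2 = 3 + 1 from rfl, pow_succ, ← hx, pow_orderOf_eq_one, one_mul] at this

theorem Side.order_pair {x : G} {ψ : A5 →* G} (h : Side x ψ) (hx : orderOf x = 3) {k n : ℕ} {π : A5}
    (hn : Nat.Coprime 3 n) (ho : orderOf (x ^ k * ψ π) = n) : x ^ k = 1 ∧ orderOf π = n := by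
  have h1 := pow_orderOf_eq_one (x ^ k * ψ π)
  rw [ho, (show Commute (x ^ k) (ψ π) from (show Commute (ψ π) x from h.comm π).symm.pow_left k).mul_pow,
    ← pow_mul, ← map_pow] at h1
  have h2 : x ^ (k * n) = 1 := h.pow_eq_one hx ⟨(π ^ n)⁻¹, by rw [map_inv]; exact (eq_inv_of_mul_eq_one_left h1).symm⟩
  have h3 : 3 ∣ k * n := hx ▸ orderOf_dvd_of_pow_eq_one h2
  have h4 : x ^ k = 1 := orderOf_dvd_iff_pow_eq_one.1 (hx.symm ▸ hn.dvd_of_dvd_mul_right h3)
  rw [h4, one_mul, orderOf_injective ψ h.inj] at ho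
  exact ⟨h4, ho⟩

theorem Side.card_order {x : G} {ψ : A5 →* G} (h : Side x ψ) (hx : orderOf x = 3) {n : ℕ} (hn : Nat.Coprime 3 n) :
    Nat.card {g : G // orderOf g = n ∧ g * x = x * g} = Nat.card {π : A5 // orderOf π = n} := by
  refine (Nat.card_eq_of_bijective (fun π : {π : A5 // orderOf π = n} =>
    (⟨ψ π.1, (orderOf_injective ψ h.inj _).trans π.2, h.comm _⟩ : {g : G // orderOf g = n ∧ g * x = x * g})) ⟨?_, ?_⟩).symm
  · exact fun a b e => Subtype.ext (h.inj (congrArg (fun g : {g : G // orderOf g = n ∧ g * x = x * g} => g.1) e))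
  · rintro ⟨g, hg, hc⟩
    obtain ⟨k, π, -, rfl⟩ := h.cover g hc
    obtain ⟨h1, h2⟩ := h.order_pair hx hn hg
    exact ⟨⟨π, h2⟩, Subtype.ext (by simp [h1])⟩

variable (H : Fields G)
include H

theorem card_cent_of_five {x y : G} (hx : orderOf x = 3) (hy : orderOf y = 5) (hc : x * y = y * x) :
    Nat.card ↥(centralizer ({x} : Set G)) = 180 ∧
      Nat.card (Sylow 5 ↥(centralizer ({x} : Set G))) = 6 := by
  classical
  set C := centralizer ({x} : Set G) with hC
  obtain ⟨a, c, hcard, -, ha, hc1⟩ := cent_three_shape H hx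
  rw [← hC] at hcard
  have hyC : y ∈ C := mem_centralizer_singleton_iff.2 hc.symm
  have h5 : 5 ∣ Nat.card ↥C := hy ▸ Subgroup.orderOf_dvd_natCard _ hyC
  have hc' : c = 1 := by
    by_contra hne
    rw [show c = 0 by omega, pow_zero, mul_one, hcard.symm.trans hcard] at hcard
    rw [hcard] at h5
    interval_cases a <;> norm_num at h5
  subst hc'
  have hP : Nat.card ↥(zpowers (⟨y, hyC⟩ : ↥C)) = 5 := by rw [Nat.card_zpowers, Subgroup.orderOf_mk, hy]
  obtain ⟨P, hle⟩ := IsPGroup.exists_le_sylow (IsPGroup.of_card (p := 5) (n := 1) (by rw [hP, pow_one]) :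
    IsPGroup 5 ↥(zpowers (⟨y, hyC⟩ : ↥C)))
  have hP5 : Nat.card ↥(P : Subgroup ↥C) = 5 :=
    (card_sylow_of_factor P (a := 1) (m := 2 ^ a * 9) (by rw [hcard]; ring) (by interval_cases a <;> norm_num)).trans
      (pow_one 5)
  have hPeq : (P : Subgroup ↥C) = zpowers (⟨y, hyC⟩ : ↥C) := (Subgroup.eq_of_le_of_card_ge hle (by omega)).symm
  have hN : Nat.card ↥(normalizer ((P : Subgroup ↥C) : Set ↥C)) = 30 := by
    rw [← norm_five_cent H hx hy hc, ← Subgroup.card_map_of_injective C.subtype_injective]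
    have hmz : ∀ h : ↥C, h ∈ (P : Subgroup ↥C) ↔ (h : G) ∈ zpowers y := fun h => by
      rw [hPeq, mem_zpowers_iff, mem_zpowers_iff]
      exact ⟨fun ⟨k, hk⟩ => ⟨k, by rw [← hk]; simp⟩, fun ⟨k, hk⟩ => ⟨k, Subtype.ext (by simpa using hk)⟩⟩
    refine congrArg (fun K : Subgroup G => Nat.card ↥K) (Subgroup.ext fun g => ?_)
    simp only [Subgroup.mem_map, Subgroup.coe_subtype, mem_inf]
    constructor
    · rintro ⟨g, hg, rfl⟩
      refine ⟨g.2, mem_normalizer_iff.2 fun h => ⟨fun hh => ?_, fun hh => ?_⟩⟩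
      · obtain ⟨k, rfl⟩ := mem_zpowers_iff.1 hh
        have hk : (⟨y ^ k, zpow_mem hyC k⟩ : ↥C) ∈ (P : Subgroup ↥C) := (hmz _).2 (zpow_mem (mem_zpowers y) k)
        simpa using (hmz _).1 ((mem_normalizer_iff.1 hg _).1 hk)
      · have hh' : (g : G) * h * (g : G)⁻¹ ∈ C :=
          (zpowers_le.2 hyC : zpowers y ≤ C) hh
        have hhC : h ∈ C := by
          have := mul_mem (mul_mem (inv_mem g.2) hh') g.2
          simpa [mul_assoc] using this
        exact (hmz ⟨h, hhC⟩).1 ((mem_normalizer_iff.1 hg ⟨h, hhC⟩).2 ((hmz _).2 (by simpa using hh)))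
    · rintro ⟨hgC, hg⟩
      refine ⟨⟨g, hgC⟩, mem_normalizer_iff.2 fun h => ?_, rfl⟩
      rw [hmz, hmz]
      simpa using mem_normalizer_iff.1 hg (h : G)
  have hn := card_normalizer_mul P
  rw [hN, hcard] at hn
  have hmod : Nat.card (Sylow 5 ↥C) % 5 = 1 := card_sylow_modEq_one 5 ↥C
  interval_cases a <;> norm_num at hn <;> first | omega | exact ⟨by rw [hcard]; norm_num, by omega⟩

theorem exists_side_of_five {x y : G} (hx : orderOf x = 3) (hy : orderOf y = 5) (hc : x * y = y * x) :
    ∃ ψ : A5 →* G, Side x ψ := by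
  classical
  obtain ⟨h180, hn6⟩ := card_cent_of_five H hx hy hc
  set C := centralizer ({x} : Set G) with hC
  have hxC : x ∈ C := mem_centralizer_singleton_iff.2 rfl
  have hyC : y ∈ C := mem_centralizer_singleton_iff.2 hc.symm
  set xc : ↥C := ⟨x, hxC⟩
  have hxo : orderOf xc = 3 := by rw [Subgroup.orderOf_mk, hx]
  have hcen : ∀ g : ↥C, g * xc = xc * g := fun g => Subtype.ext (mem_centralizer_singleton_iff.1 g.2)
  set Z := zpowers xc
  haveI hZn : Z.Normal := ⟨fun z hz g => by
    obtain ⟨k, rfl⟩ := mem_zpowers_iff.1 hz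
    rw [((show Commute g xc from hcen g).zpow_right k).eq, mul_inv_cancel_right]
    exact zpow_mem (mem_zpowers _) k⟩
  have hZ : Nat.card ↥Z = 3 := by rw [Nat.card_zpowers, hxo]
  have hQ : Nat.card (↥C ⧸ Z) = 60 := by
    have := Z.card_eq_card_quotient_mul_card_subgroup
    rw [hZ, h180] at this
    omega
  -- the quotient is simple
  have hsimple : IsSimpleGroup (↥C ⧸ Z) := by
    refine Cfsg.Lib.Classical.SixtyGroup.simple_of_sixty hQ fun N hN hcN => ?_
    set M' := N.comap (QuotientGroup.mk' Z)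
    have hM'n : M'.Normal := hN.comap _
    have hM' : Nat.card ↥M' = 3 * Nat.card ↥N := by
      have h1 : M'.index = N.index := Subgroup.index_comap_of_surjective _ (QuotientGroup.mk'_surjective Z)
      have h2 := Subgroup.card_mul_index M'
      have h3 := Subgroup.card_mul_index N
      rw [h1, h180] at h2
      rw [hQ] at h3
      have hi : 0 < N.index := Nat.pos_of_ne_zero fun e => by rw [e] at h3; omega
      refine Nat.eq_of_mul_eq_mul_right hi ?_
      rw [h2, mul_assoc, h3]
      all_goals norm_num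
    set M := M'.map C.subtype
    have hM : Nat.card ↥M = 3 * Nat.card ↥N := by
      rw [Subgroup.card_map_of_injective C.subtype_injective, hM']
    have hconj : ∀ g ∈ C, ∀ m ∈ M, g * m * g⁻¹ ∈ M := by
      rintro g hg _ ⟨m, hm, rfl⟩
      exact ⟨⟨g, hg⟩ * m * ⟨g, hg⟩⁻¹, hM'n.conj_mem m hm _, by simp⟩
    have hxM : x ∈ M := ⟨xc, by
      show (QuotientGroup.mk' Z) xc ∈ N
      rw [QuotientGroup.mk'_apply, (QuotientGroup.eq_one_iff xc).2 (mem_zpowers _)]
      exact one_mem _, rfl⟩
    set I := M ⊓ centralizer ({y} : Set G)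
    have hfix : {m ∈ (M : Set G) | y * m = m * y} = (I : Set G) := by
      ext m
      simp only [Set.mem_ofPred_eq, SetLike.mem_coe, I, mem_inf, mem_centralizer_singleton_iff, eq_comm]
    have hmod := ncard_conj_mod (p := 5) (x := y) (k := 1) (by rw [pow_one, ← hy, pow_orderOf_eq_one])
      (s := (M : Set G)) fun m hm => hconj y hyC m hm
    rw [hfix, ← Nat.card_coe_set_eq, ← Nat.card_coe_set_eq] at hmod
    change Nat.card ↥M % 5 = Nat.card ↥I % 5 at hmod
    have hI15 : Nat.card ↥I ∣ 15 := (cent_five H hy).1 ▸ Subgroup.card_dvd_of_le (inf_le_right : I ≤ _)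
    have hI3 : 3 ∣ Nat.card ↥I := hx ▸ Subgroup.orderOf_dvd_natCard I ⟨hxM, mem_centralizer_singleton_iff.2 hc⟩
    have hIM : Nat.card ↥I ∣ Nat.card ↥M := Subgroup.card_dvd_of_le inf_le_left
    have h15 : ∀ d ∈ Nat.divisors 15, 3 ∣ d → d = 3 ∨ d = 15 := by decide +kernel
    simp only [Finset.mem_insert, Finset.mem_singleton] at hcN
    rcases h15 _ (Nat.mem_divisors.2 ⟨hI15, by norm_num⟩) hI3 with e | e
    · rw [e, hM] at hmod
      rcases hcN with e' | e' | e' | e' <;> rw [e'] at hmod <;> norm_num at hmod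
    · rw [e, hM] at hIM
      rcases hcN with e' | e' | e' | e' <;> rw [e'] at hIM hM <;> norm_num at hIM
      have hIM' : I = M := Subgroup.eq_of_le_of_card_ge inf_le_left (by rw [e, hM])
      -- every conjugate of the element of order five lies in its span
      have hyI : y ∈ I := by
        have := Subgroup.eq_of_le_of_card_ge (inf_le_right : I ≤ centralizer ({y} : Set G)) (by rw [e, (cent_five H hy).1])
        exact (SetLike.ext_iff.1 this y).2 (mem_centralizer_singleton_iff.2 rfl)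
      have hyM : y ∈ M := hyI.1
      have hCN : C ≤ normalizer (zpowers y : Set G) := fun g hg => by
        refine Subgroup.mem_normalizer_iff.2 fun h => ?_
        have key : ∀ g ∈ C, g * y * g⁻¹ ∈ zpowers y := fun g hg => by
          have hgM := hconj g hg y hyM
          rw [← hIM'] at hgM
          have hxy : orderOf (x * y) = 15 := orderOf_mul_coprime hc hx hy (by norm_num)
          have hCy : zpowers (x * y) = centralizer ({y} : Set G) := Subgroup.eq_of_le_of_card_ge
            (zpowers_le.2 (mul_mem (mem_centralizer_singleton_iff.2 hc) (mem_centralizer_singleton_iff.2 rfl)))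
            (by rw [Nat.card_zpowers, hxy, (cent_five H hy).1])
          have hmem : g * y * g⁻¹ ∈ zpowers (x * y) := by rw [hCy]; exact hgM.2
          obtain ⟨k, hk⟩ := mem_zpowers_iff.1 hmem
          have hxyc : Commute x y := hc
          rw [hxyc.mul_zpow] at hk
          have h5 : (g * y * g⁻¹) ^ (5 : ℤ) = 1 := by
            rw [conj_zpow, show y ^ (5 : ℤ) = 1 by rw [show (5 : ℤ) = ((5 : ℕ) : ℤ) from rfl, zpow_natCast, ← hy, pow_orderOf_eq_one]]
            simp
          rw [← hk, ((hxyc.zpow_left k).zpow_right k).mul_zpow, ← zpow_mul, ← zpow_mul] at h5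
          rw [show y ^ (k * 5) = 1 by rw [mul_comm, zpow_mul, show y ^ (5 : ℤ) = 1 by
            rw [show (5 : ℤ) = ((5 : ℕ) : ℤ) from rfl, zpow_natCast, ← hy, pow_orderOf_eq_one], one_zpow], mul_one] at h5
          have h3 : (3 : ℤ) ∣ k * 5 := by
            have := orderOf_dvd_iff_zpow_eq_one.2 h5
            rwa [hx] at this
          obtain ⟨j, rfl⟩ : (3 : ℤ) ∣ k := by omega
          have hx0 : x ^ (3 * j) = 1 := orderOf_dvd_iff_zpow_eq_one.1 (by rw [hx]; exact Int.dvd_mul_right 3 j)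
          rw [hx0, one_mul] at hk
          rw [← hk]; exact zpow_mem (mem_zpowers y) _
        constructor
        · intro hh
          obtain ⟨k, rfl⟩ := mem_zpowers_iff.1 hh
          rw [← conj_zpow]
          exact zpow_mem (key g hg) k
        · intro hh
          obtain ⟨k, hk⟩ := mem_zpowers_iff.1 hh
          have : h = (g⁻¹ * y * g) ^ k := by
            rw [show (g⁻¹ * y * g) ^ k = g⁻¹ * y ^ k * g by simpa using conj_zpow (i := k) (a := g⁻¹) (b := y), hk]
            group
          rw [this]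
          exact zpow_mem (by simpa using key g⁻¹ (inv_mem hg)) k
      have hle := Subgroup.card_le_of_le hCN
      obtain ⟨P, hP⟩ := M12Nse.exists_sylow_zpowers (H.sylow_five) hy
      rw [h180, ← hP, card_norm_five H P] at hle
      omega
  obtain ⟨e⟩ := Cfsg.Lib.Classical.SixtyGroup.iso_alt_five hsimple hQ
  -- split off the center by a transfer
  obtain ⟨S, hS⟩ := IsPGroup.exists_le_sylow (IsPGroup.of_card (p := 3) (n := 1) (by rw [hZ, pow_one]) : IsPGroup 3 ↥Z)
  have hS9 : Nat.card ↥(S : Subgroup ↥C) = 9 := by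
    simpa using card_sylow_of_factor S (a := 2) (m := 20) (by rw [h180]; norm_num) (by norm_num)
  haveI : IsMulCommutative ↥(S : Subgroup ↥C) :=
    IsPGroup.isMulCommutative_of_card_eq_prime_sq (p := 3) (by rw [hS9]; norm_num)
  letI : CommGroup ↥(S : Subgroup ↥C) :=
    { (inferInstance : Group ↥(S : Subgroup ↥C)) with mul_comm := fun a b => IsMulCommutative.is_comm.comm a b }
  set φ : ↥C →* ↥(S : Subgroup ↥C) := MonoidHom.transfer (MonoidHom.id ↥(S : Subgroup ↥C)) with hφ
  have hkey : ∀ (k : ℕ) (g₀ : ↥C), g₀⁻¹ * xc ^ k * g₀ ∈ (S : Subgroup ↥C) → g₀⁻¹ * xc ^ k * g₀ = xc ^ k :=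
    fun k g₀ _ => by rw [mul_assoc, ← ((show Commute g₀ xc from hcen g₀).pow_right k).eq, inv_mul_cancel_left]
  have hφx : φ xc ≠ 1 := by
    rw [hφ, MonoidHom.transfer_eq_pow _ _ hkey]
    intro h
    have h' : xc ^ (S : Subgroup ↥C).index = 1 := congrArg Subtype.val h
    have hidx := Subgroup.card_mul_index (S : Subgroup ↥C)
    rw [hS9, h180] at hidx
    have := orderOf_dvd_of_pow_eq_one h'
    rw [hxo] at this
    omega
  set K := φ.ker
  have hKx : ∀ k : ↥C, k ∈ K → k ∈ Z → k = 1 := by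
    intro k hk hkZ
    by_contra hne
    have hgen : zpowers k = Z := Subgroup.eq_of_le_of_card_ge (zpowers_le.2 hkZ) (by
      rw [hZ, Nat.card_zpowers]
      have hd : orderOf k ∣ 3 := hZ ▸ Subgroup.orderOf_dvd_natCard Z hkZ
      rcases (Nat.dvd_prime Nat.prime_three).1 hd with e | e
      · exact absurd (orderOf_eq_one_iff.1 e) hne
      · omega)
    exact hφx (MonoidHom.mem_ker.1 ((zpowers_le.2 hk : zpowers k ≤ K) (hgen.symm ▸ mem_zpowers xc)))
  set ρ : ↥K →* (↥C ⧸ Z) := (QuotientGroup.mk' Z).comp K.subtype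
  have hρ : Function.Injective ρ := by
    rw [← MonoidHom.ker_eq_bot_iff, Subgroup.eq_bot_iff_forall]
    intro k hk
    exact Subtype.ext (hKx k k.2 ((QuotientGroup.eq_one_iff _).1 (MonoidHom.mem_ker.1 hk)))
  have hρn : ρ.range.Normal := by
    rw [MonoidHom.range_comp, Subgroup.range_subtype]
    exact Subgroup.Normal.map (MonoidHom.normal_ker φ) _ (QuotientGroup.mk'_surjective Z)
  have hρs : Function.Surjective ρ := by
    rw [← MonoidHom.range_eq_top]
    refine (hsimple.eq_bot_or_eq_top_of_normal _ hρn).resolve_left fun h => ?_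
    have hK : K = ⊥ := (Subgroup.eq_bot_iff_forall _).2 fun k hk => by
      have : ρ ⟨k, hk⟩ = 1 := (Subgroup.eq_bot_iff_forall _).1 h _ ⟨⟨k, hk⟩, rfl⟩
      exact congrArg Subtype.val (hρ (this.trans (map_one ρ).symm))
    have := Nat.card_le_card_of_injective φ ((MonoidHom.ker_eq_bot_iff φ).1 hK)
    omega
  set eK : ↥K ≃* A5 := (MulEquiv.ofBijective ρ ⟨hρ, hρs⟩).trans e
  refine ⟨(C.subtype.comp K.subtype).comp eK.symm.toMonoidHom, ?_, ?_, ?_, ?_⟩
  · exact (C.subtype_injective.comp K.subtype_injective).comp eK.symm.injective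
  · exact fun π => congrArg Subtype.val (hcen _)
  · rintro ⟨π, hπ⟩
    refine hφx (MonoidHom.mem_ker.1 ?_)
    have : ((eK.symm π : ↥K) : ↥C) = xc := Subtype.ext hπ
    exact this ▸ (eK.symm π).2
  · intro g hg
    set gc : ↥C := ⟨g, mem_centralizer_singleton_iff.2 hg⟩
    obtain ⟨k, hk⟩ := hρs (QuotientGroup.mk gc)
    have hz : (k : ↥C)⁻¹ * gc ∈ Z := QuotientGroup.eq.1 hk
    obtain ⟨n, hn⟩ := Submonoid.mem_powers_iff _ _ |>.1 (mem_powers_iff_mem_zpowers.2 hz)
    refine ⟨n % 3, eK k, Nat.mod_lt _ (by norm_num), ?_⟩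
    have hgk : gc = xc ^ n * (k : ↥C) := by
      rw [← ((show Commute (k : ↥C) xc from hcen _).pow_right n).eq, hn, mul_inv_cancel_left]
    show g = x ^ (n % 3) * ((eK.symm (eK k) : ↥K) : ↥C)
    rw [MulEquiv.symm_apply_apply, show g = (gc : G) from rfl, hgk, Subgroup.coe_mul, Subgroup.coe_pow,
      ← hx, pow_mod_orderOf]

theorem five_dvd_cent {x : G} (hx : orderOf x = 3) : 5 ∣ Nat.card ↥(centralizer ({x} : Set G)) := by
  classical
  have := Fintype.ofFinite G
  let f : {v : G // orderOf v = 3} → ℕ := fun v => Nat.card {y : G // orderOf y = 5 ∧ y * v.1 = v.1 * y}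
  let i : {v : G // orderOf v = 3} → ℕ := fun v => Nat.card {y : G // orderOf y = 2 ∧ y * v.1 = v.1 * y}
  have hf : ∑ v, f v = 1360128 := by
    rw [← H.fifteen, cnt, Nat.card_congr (pairEquiv (G := G) 3 5 10 6 (by norm_num) (by norm_num) (by norm_num)
      (by norm_num) (by norm_num) (by norm_num) (by norm_num) (by norm_num)), Nat.card_sigma]
  have hi : ∑ v, i v = 850080 := by
    rw [← H.six, cnt, Nat.card_congr (pairEquiv (G := G) 3 2 4 3 (by norm_num) (by norm_num) (by norm_num)
      (by norm_num) (by norm_num) (by norm_num) (by norm_num) (by norm_num)), Nat.card_sigma]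
  have key : ∀ v : {v : G // orderOf v = 3}, 5 * f v ≤ 8 * i v ∧
      (¬ 5 ∣ Nat.card ↥(centralizer ({v.1} : Set G)) → 5 * f v < 8 * i v) := by
    rintro ⟨v, hv⟩
    by_cases h5 : 5 ∣ Nat.card ↥(centralizer ({v} : Set G))
    · obtain ⟨y, hy, hyo⟩ := exists_elt_prime H Nat.prime_five _ h5
      obtain ⟨ψ, hψ⟩ := exists_side_of_five H hv hyo (mem_centralizer_singleton_iff.1 hy).symm
      refine ⟨?_, fun h => absurd h5 h⟩
      show 5 * Nat.card {y : G // orderOf y = 5 ∧ y * v = v * y} ≤ 8 * Nat.card {y : G // orderOf y = 2 ∧ y * v = v * y}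
      rw [hψ.card_order hv (n := 5) (by norm_num), hψ.card_order hv (n := 2) (by norm_num),
        Nat.card_eq_fintype_card, Nat.card_eq_fintype_card, Fintype.card_subtype, Fintype.card_subtype]
      have h1 : (Finset.univ.filter fun π : A5 => orderOf π = 5).card = 24 := by
        simp only [orderOf_eq_prime_iff (p := 5)]; decide +kernel
      have h2 : (Finset.univ.filter fun π : A5 => orderOf π = 2).card = 15 := by
        simp only [orderOf_eq_prime_iff (p := 2)]; decide +kernel
      omega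
    · have h0 : f ⟨v, hv⟩ = 0 := by
        haveI : IsEmpty {y : G // orderOf y = 5 ∧ y * v = v * y} :=
          ⟨fun y => h5 (y.2.1 ▸ M12Nse.dvd_centralizer_orderOf y.2.2)⟩
        exact Nat.card_of_isEmpty
      obtain ⟨a, c, hcard, hac, -, hc⟩ := cent_three_shape H hv
      have hc0 : c = 0 := by
        by_contra hne
        exact h5 (hcard ▸ Dvd.dvd.mul_left (dvd_pow_self 5 hne) _)
      obtain ⟨t, ht, hto⟩ := exists_elt_prime H Nat.prime_two (centralizer ({v} : Set G))
        (hcard ▸ Dvd.dvd.mul_right (Dvd.dvd.mul_right (dvd_pow_self 2 (by omega)) _) _)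
      have hipos : 0 < i ⟨v, hv⟩ := by
        haveI : Nonempty {y : G // orderOf y = 2 ∧ y * v = v * y} := ⟨⟨t, hto, mem_centralizer_singleton_iff.1 ht⟩⟩
        exact Nat.card_pos
      exact ⟨by omega, fun _ => by omega⟩
  by_contra h5
  have hlt : ∑ v, 5 * f v < ∑ v, 8 * i v :=
    Finset.sum_lt_sum (fun v _ => (key v).1) ⟨⟨x, hx⟩, Finset.mem_univ _, (key ⟨x, hx⟩).2 h5⟩
  rw [← Finset.mul_sum, ← Finset.mul_sum, hf, hi] at hlt
  omega

theorem exists_side {x : G} (hx : orderOf x = 3) : ∃ ψ : A5 →* G, Side x ψ := by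
  obtain ⟨y, hy, hyo⟩ := exists_elt_prime H Nat.prime_five _ (five_dvd_cent H hx)
  exact exists_side_of_five H hx hyo (mem_centralizer_singleton_iff.1 hy).symm

theorem cent_three {x : G} (hx : orderOf x = 3) : Nat.card ↥(centralizer ({x} : Set G)) = 180 := by
  obtain ⟨y, hy, hyo⟩ := exists_elt_prime H Nat.prime_five _ (five_dvd_cent H hx)
  exact (card_cent_of_five H hx hyo (mem_centralizer_singleton_iff.1 hy).symm).1

theorem conj_three {x y : G} (hx : orderOf x = 3) (hy : orderOf y = 3) : IsConj x y := by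
  by_contra hn
  have h := M12Nse.card_isConj_mul x
  rw [H.card, cent_three H hx] at h
  have hlt : Nat.card {z : G // IsConj x z} < cnt G 3 := by
    rw [cnt, ← Set.coe_ofPred, ← Set.coe_ofPred, Nat.card_coe_set_eq, Nat.card_coe_set_eq]
    exact Set.ncard_lt_ncard ⟨fun z hz => (M12Nse.conj_orderOf hz).trans hx, fun hsub => hn (hsub hy)⟩ (Set.toFinite _)
  rw [H.three] at hlt
  omega

end Cfsg.Lib.M23Nse
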