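import Cfsg.Agent.M23Nse.Outer
import Cfsg.Agent.Small.OrderSieve

/-!
The centraliser of an involution: one class, order 2688, and an elementary normal subgroup of order
sixteen.
-/

set_option autoImplicit false
set_option linter.unusedSectionVars false
set_option linter.style.haveILetI false
set_option maxRecDepth 100000
set_option synthInstance.maxSize 4000

namespace Cfsg.Lib.M23Nse

open Subgroup Cfsg.Lib.SameOrder Cfsg.Lib.Small Cfsg.Lib.MathieuEleven

universe u

variable {G : Type u} [Group G] [Finite G]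

local instance fact_two_tw : Fact (Nat.Prime 2) := ⟨Nat.prime_two⟩
local instance fact_three_tw : Fact (Nat.Prime 3) := ⟨Nat.prime_three⟩
local instance fact_seven_tw : Fact (Nat.Prime 7) := ⟨by norm_num⟩

theorem mem_normalizer_of_conj (T : Subgroup G) {g : G} (h : ∀ u ∈ T, g * u * g⁻¹ ∈ T) :
    g ∈ normalizer (T : Set G) := by
  have he : T.map (MulAut.conj g).toMonoidHom = T := Subgroup.eq_of_le_of_card_ge
    (by rintro _ ⟨u, hu, rfl⟩; exact h u hu)
    (le_of_eq (Subgroup.card_map_of_injective (MulAut.conj g).injective).symm)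
  rw [mem_normalizer_iff]
  refine fun u => ⟨h u, fun hu => ?_⟩
  obtain ⟨w, hw, hwe⟩ := (le_of_eq he.symm) hu
  have : w = u := (MulAut.conj g).injective hwe
  exact this ▸ hw

/-- an element of prime order fixes as many points of an invariant subgroup as its order, modulo the prime -/
theorem fix_mod {p : ℕ} [Fact p.Prime] (T : Subgroup G) {z : G} (hz : orderOf z = p)
    (h : ∀ u ∈ T, z * u * z⁻¹ ∈ T) :
    Nat.card ↥T % p = Nat.card ↥(T ⊓ centralizer ({z} : Set G)) % p := by
  have hmod := ncard_conj_mod (p := p) (x := z) (k := 1) (by rw [pow_one, ← hz, pow_orderOf_eq_one])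
    (s := (T : Set G)) h
  have hfix : {m ∈ (T : Set G) | z * m = m * z} = ((T ⊓ centralizer ({z} : Set G) : Subgroup G) : Set G) := by
    ext m
    simp only [Set.mem_ofPred_eq, SetLike.mem_coe, mem_inf, mem_centralizer_singleton_iff, eq_comm]
  rw [hfix, ← Nat.card_coe_set_eq, ← Nat.card_coe_set_eq] at hmod
  exact hmod

/-- Frattini: the index of a normal subgroup containing a Sylow subgroup times the order of any subgroup of
their intersection with the normalizer divides the order of that normalizer. -/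
theorem frattini {C : Type*} [Group C] [Finite C] {p : ℕ} [Fact p.Prime] (M : Subgroup C) [M.Normal]
    (P : Sylow p C) (hP : (P : Subgroup C) ≤ M) (K : Subgroup C)
    (hK : K ≤ normalizer ((P : Subgroup C) : Set C)) (hKM : K ≤ M) :
    M.index * Nat.card ↥K ∣ Nat.card ↥(normalizer ((P : Subgroup C) : Set C)) := by
  set N := normalizer ((P : Subgroup C) : Set C)
  set φ : ↥N →* C ⧸ M := (QuotientGroup.mk' M).comp N.subtype
  have hs : φ.range = ⊤ := by
    rw [MonoidHom.range_comp, Subgroup.range_subtype, eq_top_iff]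
    intro q _
    obtain ⟨c, rfl⟩ := QuotientGroup.mk'_surjective M q
    have hc : c ∈ normalizer (P : Set C) ⊔ M := by rw [Sylow.normalizer_sup_eq_top' P hP]; trivial
    obtain ⟨a, ha, b, hb, rfl⟩ := Subgroup.mem_sup_of_normal_right.1 hc
    refine ⟨a, ha, ?_⟩
    simp [QuotientGroup.eq, hb]
  have h1 : φ.ker.index = M.index := by
    rw [Subgroup.index_ker, hs, Subgroup.card_top, Subgroup.index_eq_card]
  have h2 : Nat.card ↥K ∣ Nat.card ↥φ.ker := by
    rw [← Nat.card_congr (Subgroup.subgroupOfEquivOfLe hK).toEquiv]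
    refine Subgroup.card_dvd_of_le fun k hk => ?_
    rw [MonoidHom.mem_ker]
    exact (QuotientGroup.eq_one_iff _).2 (hKM hk)
  rw [← Subgroup.card_mul_index φ.ker, h1, mul_comm (Nat.card ↥φ.ker)]
  exact Nat.mul_dvd_mul_left _ h2

/-- the part of the centraliser of an element of order three that centralises a given involution -/
theorem Side.card_pair {x : G} {ψ : A5 →* G} (h : Side x ψ) (hx : orderOf x = 3) (τ : A5) :
    Nat.card ↥(centralizer ({x} : Set G) ⊓ centralizer ({ψ τ} : Set G) : Subgroup G) =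
      3 * Nat.card {π : A5 // π * τ = τ * π} := by
  have hxm : ∀ k π, x ^ k * ψ π * x = x * (x ^ k * ψ π) := fun k π => by
    rw [mul_assoc, h.comm, ← mul_assoc, ← pow_succ, pow_succ', mul_assoc]
  rw [show (3 : ℕ) = Nat.card (Fin 3) from (Nat.card_fin 3).symm, ← Nat.card_prod]
  refine (Nat.card_eq_of_bijective (fun p : Fin 3 × {π : A5 // π * τ = τ * π} =>
    (⟨x ^ p.1.val * ψ p.2.1, mem_inf.2 ⟨mem_centralizer_singleton_iff.2 (hxm _ _),
      mem_centralizer_singleton_iff.2 (by
        have hc : Commute (x ^ p.1.val) (ψ τ) := (show Commute (ψ τ) x from h.comm τ).symm.pow_left _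
        rw [mul_assoc, ← map_mul, p.2.2, map_mul, ← mul_assoc, hc.eq, mul_assoc])⟩⟩ :
      ↥(centralizer ({x} : Set G) ⊓ centralizer ({ψ τ} : Set G) : Subgroup G))) ⟨?_, ?_⟩).symm
  · rintro ⟨i, π, hπ⟩ ⟨j, ρ, hρ⟩ e
    have e' : x ^ i.val * ψ π = x ^ j.val * ψ ρ :=
      congrArg (fun w : ↥(centralizer ({x} : Set G) ⊓ centralizer ({ψ τ} : Set G) : Subgroup G) => (w : G)) e
    have e2 : x ^ (i.val + (3 - j.val)) = ψ (ρ * π⁻¹) := by
      have h3 : x ^ (3 - j.val) * x ^ j.val = 1 := by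
        rw [← pow_add, Nat.sub_add_cancel j.isLt.le, ← hx, pow_orderOf_eq_one]
      have hi : x ^ i.val = x ^ j.val * ψ ρ * (ψ π)⁻¹ := eq_mul_inv_iff_mul_eq.2 e'
      rw [add_comm, pow_add, hi, map_mul, map_inv, ← mul_assoc, ← mul_assoc, h3, one_mul]
    have h0 : x ^ (i.val + (3 - j.val)) = 1 := h.pow_eq_one hx ⟨_, e2.symm⟩
    have hd := orderOf_dvd_of_pow_eq_one h0
    rw [hx] at hd
    have hij : i = j := Fin.ext (by have := i.isLt; have := j.isLt; omega)
    subst hij
    have : π = ρ := h.inj (mul_left_cancel e')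
    subst this
    rfl
  · rintro ⟨g, hg⟩
    obtain ⟨hgx, hgt⟩ := mem_inf.1 hg
    obtain ⟨k, π, hk, rfl⟩ := h.cover g (mem_centralizer_singleton_iff.1 hgx)
    have hc : Commute (x ^ k) (ψ τ) := (show Commute (ψ τ) x from h.comm τ).symm.pow_left _
    have hπ : π * τ = τ * π := by
      have e := mem_centralizer_singleton_iff.1 hgt
      rw [mul_assoc, ← mul_assoc (ψ τ), ← hc.eq, mul_assoc] at e
      exact h.inj (by rw [map_mul, map_mul]; exact mul_left_cancel e)
    exact ⟨(⟨k, hk⟩, ⟨π, hπ⟩), rfl⟩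

theorem invol_cent : ∀ τ : A5, τ * τ = 1 → τ ≠ 1 → Fintype.card {π : A5 // π * τ = τ * π} = 4 := by decide +kernel

theorem invol_mem_v : ∀ τ π : A5, τ * τ = 1 → τ ≠ 1 → π * τ = τ * π → π * π = 1 := by decide +kernel

variable (H : Fields G)
include H

theorem cent_seven {y : G} (hy : orderOf y = 7) :
    Nat.card ↥(centralizer ({y} : Set G)) = 14 ∧ Nat.card {t : G // orderOf t = 2 ∧ t * y = y * t} = 1 := by
  classical
  have := Fintype.ofFinite G
  have key : ∀ v : {v : G // orderOf v = 7}, (Nat.card ↥(centralizer ({v.1} : Set G)) = 7 ∨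
      Nat.card ↥(centralizer ({v.1} : Set G)) = 14) ∧
      Nat.card {t : G // orderOf t = 2 ∧ t * v.1 = v.1 * t} ≤ 1 ∧
      (Nat.card ↥(centralizer ({v.1} : Set G)) = 7 → Nat.card {t : G // orderOf t = 2 ∧ t * v.1 = v.1 * t} = 0) := by
    rintro ⟨v, hv⟩
    set C := centralizer ({v} : Set G)
    have hd : Nat.card ↥C ∣ 42 := by
      have h := cent_dvd_of_card H.card (H.sylow_seven) hv
      rw [(H.cnt_seven).2, show (10200960 : ℕ) = 242880 * 42 by norm_num] at h
      exact Nat.dvd_of_mul_dvd_mul_left (by norm_num) h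
    have h3 : ¬ 3 ∣ Nat.card ↥C := fun h => by
      have := prime_dvd_cent H Nat.prime_three (by rw [hv]; norm_num) h
      simp [hv, fieldOrders] at this
    have h7 : 7 ∣ Nat.card ↥C := hv ▸ M12Nse.dvd_centralizer_orderOf rfl
    have hcases : Nat.card ↥C = 7 ∨ Nat.card ↥C = 14 := by
      have : ∀ d ∈ Nat.divisors 42, ¬ 3 ∣ d → 7 ∣ d → d = 7 ∨ d = 14 := by decide +kernel
      exact this _ (Nat.mem_divisors.2 ⟨hd, by norm_num⟩) h3 h7
    have hz : Nat.card ↥C = 7 → Nat.card {t : G // orderOf t = 2 ∧ t * v = v * t} = 0 := fun e => by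
      haveI : IsEmpty {t : G // orderOf t = 2 ∧ t * v = v * t} := ⟨fun t => by
        have := M12Nse.dvd_centralizer_orderOf t.2.2
        rw [t.2.1, e] at this
        norm_num at this⟩
      exact Nat.card_of_isEmpty
    refine ⟨hcases, ?_, hz⟩
    show Nat.card {t : G // orderOf t = 2 ∧ t * v = v * t} ≤ 1
    rcases hcases with e | e
    · rw [hz e]; norm_num
    · obtain ⟨w, hw, hwo⟩ := exists_elt_prime H Nat.prime_two C (by rw [e]; norm_num)
      have hwvC : w * v ∈ C := mul_mem hw (mem_centralizer_singleton_iff.2 rfl)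
      haveI : IsCyclic ↥C := isCyclic_of_orderOf_eq_card ⟨_, hwvC⟩ (by
        rw [Subgroup.orderOf_mk, orderOf_mul_coprime (mem_centralizer_singleton_iff.1 hw) hwo hv (by norm_num), e])
      have := Fintype.ofFinite ↥C
      refine (Nat.card_le_card_of_injective (β := {c : ↥C // orderOf c = 2})
        (fun t => ⟨⟨t.1, mem_centralizer_singleton_iff.2 t.2.2⟩, by rw [Subgroup.orderOf_mk]; exact t.2.1⟩)
        fun a b h => Subtype.ext (congrArg (fun c : {c : ↥C // orderOf c = 2} => (c.1 : G)) h)).trans ?_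
      rw [Nat.card_eq_fintype_card, Fintype.card_subtype,
        IsCyclic.card_orderOf_eq_totient (by rw [← Nat.card_eq_fintype_card, e]; norm_num)]
      decide
  have hsum : ∑ v : {v : G // orderOf v = 7}, Nat.card {t : G // orderOf t = 2 ∧ t * v.1 = v.1 * t} = 1457280 := by
    rw [← H.fourteen, cnt, Nat.card_congr (pairEquiv (G := G) 7 2 8 7 (by norm_num) (by norm_num) (by norm_num)
      (by norm_num) (by norm_num) (by norm_num) (by norm_num) (by norm_num)), Nat.card_sigma]
  have hall := (Finset.sum_eq_sum_iff_of_le (s := Finset.univ)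
    (f := fun v : {v : G // orderOf v = 7} => Nat.card {t : G // orderOf t = 2 ∧ t * v.1 = v.1 * t}) (g := fun _ => 1)
    fun v _ => (key v).2.1).1 (by
      rw [hsum, Finset.sum_const, Finset.card_univ, ← Nat.card_eq_fintype_card, smul_eq_mul, mul_one]
      exact ((H.cnt_seven).1).symm)
  have h1 : Nat.card {t : G // orderOf t = 2 ∧ t * y = y * t} = 1 := hall ⟨y, hy⟩ (Finset.mem_univ _)
  refine ⟨(key ⟨y, hy⟩).1.resolve_left fun e => ?_, h1⟩
  have := (key ⟨y, hy⟩).2.2 e
  simp only [h1] at this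
  exact absurd this (by norm_num)

theorem card_sylow_three (S : Sylow 3 G) : Nat.card ↥(S : Subgroup G) = 9 := by
  simpa using card_sylow_of_factor S (a := 2) (m := 1133440) (by rw [H.card]; norm_num) (by norm_num)

theorem cent_two {t : G} (ht : orderOf t = 2) : Nat.card ↥(centralizer ({t} : Set G)) = 2688 := by
  classical
  set C := centralizer ({t} : Set G) with hC
  have hnot : ∀ q ∈ [5, 11, 23], ¬ q ∣ Nat.card ↥C := by
    intro q hq hd
    simp only [List.mem_cons, List.not_mem_nil, or_false] at hq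
    have hqp : q.Prime := by rcases hq with rfl | rfl | rfl <;> norm_num
    have := prime_dvd_cent H hqp (by rw [ht]; rcases hq with rfl | rfl | rfl <;> norm_num) hd
    rcases hq with rfl | rfl | rfl <;> simp [ht, fieldOrders] at this
  have h9 : ¬ 9 ∣ Nat.card ↥C := by
    intro h9
    obtain ⟨T, hT⟩ := Sylow.exists_subgroup_card_pow_prime (G := ↥C) 3 (n := 2) (by simpa using h9)
    set T' := T.map C.subtype
    have hT' : Nat.card ↥T' = 9 := by rw [Subgroup.card_map_of_injective C.subtype_injective, hT]; norm_num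
    have hTc : ∀ a ∈ T', a * t = t * a := by
      rintro _ ⟨a, -, rfl⟩; exact mem_centralizer_singleton_iff.1 a.2
    haveI := IsPGroup.isMulCommutative_of_card_eq_prime_sq (p := 3) (G := ↥T') (by rw [hT']; norm_num)
    obtain ⟨x, hxT, hxo⟩ := exists_elt_prime H Nat.prime_three T' (by rw [hT']; norm_num)
    obtain ⟨ψ, hψ⟩ := exists_side H hxo
    obtain ⟨k₀, τ, -, hτ⟩ := hψ.cover t (hTc x hxT).symm
    obtain ⟨hk₀, hτo⟩ := hψ.order_pair hxo (n := 2) (k := k₀) (π := τ) (by norm_num) (hτ ▸ ht)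
    rw [hk₀, one_mul] at hτ
    obtain ⟨a, haT, hax⟩ : ∃ a ∈ T', a ∉ zpowers x := by
      by_contra! hall
      have := Subgroup.card_le_of_le (show T' ≤ zpowers x from hall)
      rw [hT', Nat.card_zpowers, hxo] at this
      omega
    have hcx : a * x = x * a := congrArg Subtype.val
      (IsMulCommutative.is_comm.comm (⟨a, haT⟩ : ↥T') ⟨x, hxT⟩)
    obtain ⟨k, ρ, -, rfl⟩ := hψ.cover a hcx
    have hρ1 : ρ ≠ 1 := fun e => hax (by rw [e, map_one, mul_one]; exact pow_mem (mem_zpowers x) k)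
    have ha3 : (x ^ k * ψ ρ) ^ 3 = 1 := by
      obtain ⟨j, hj2, hj⟩ := (Nat.dvd_prime_pow Nat.prime_three).1
        (show orderOf (x ^ k * ψ ρ) ∣ 3 ^ 2 by rw [show 3 ^ 2 = Nat.card ↥T' by rw [hT']; norm_num]; exact Subgroup.orderOf_dvd_natCard T' haT)
      rw [← orderOf_dvd_iff_pow_eq_one, hj]
      interval_cases j <;> [norm_num; norm_num; skip]
      have := order_mem H (x ^ k * ψ ρ)
      rw [hj] at this
      simp [fieldOrders] at this
    have hρ3 : ρ * ρ * ρ = 1 := hψ.inj (by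
      rw [(show Commute (x ^ k) (ψ ρ) from (show Commute (ψ ρ) x from hψ.comm ρ).symm.pow_left k).mul_pow,
        ← pow_mul, mul_comm k, pow_mul, show x ^ 3 = 1 by rw [← hxo, pow_orderOf_eq_one], one_pow, one_mul,
        pow_succ, pow_two] at ha3
      rw [map_one, map_mul, map_mul, ha3])
    have hc : τ * ρ = ρ * τ := hψ.inj (by
      have e := hTc _ haT
      rw [hτ, mul_assoc, ← mul_assoc (ψ τ),
        ← ((show Commute (ψ τ) x from hψ.comm τ).symm.pow_left k).eq, mul_assoc] at e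
      rw [map_mul, map_mul]; exact (mul_left_cancel e).symm)
    have := three_cent τ ρ (by rw [← pow_two, ← hτo, pow_orderOf_eq_one]) hρ3 hρ1 hc
    rw [this, orderOf_one] at hτo
    norm_num at hτo
  have hd : Nat.card ↥C ∣ 2688 := by
    have hdG : Nat.card ↥C ∣ 8064 * 1265 := by
      have h := Subgroup.card_subgroup_dvd_card C
      rw [H.card] at h
      norm_num; exact h
    have hd' : Nat.card ↥C ∣ 8064 := by
      refine Nat.Coprime.dvd_of_dvd_mul_right ?_ hdG
      rw [show (1265 : ℕ) = 5 * 11 * 23 by norm_num]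
      exact Nat.Coprime.mul_right (Nat.Coprime.mul_right
        ((Nat.Prime.coprime_iff_not_dvd (by norm_num)).2 (hnot 5 (by simp))).symm
        ((Nat.Prime.coprime_iff_not_dvd (by norm_num)).2 (hnot 11 (by simp))).symm)
        ((Nat.Prime.coprime_iff_not_dvd (by norm_num)).2 (hnot 23 (by simp))).symm
    have : ∀ d ∈ Nat.divisors 8064, ¬ 9 ∣ d → d ∣ 2688 := by decide +kernel
    exact this _ (Nat.mem_divisors.2 ⟨hd', by norm_num⟩) h9
  have hle := card_class_le ht
  rw [H.card, H.two, ← hC] at hle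
  have := Nat.le_of_dvd (by norm_num) hd
  omega

theorem conj_two {s t : G} (hs : orderOf s = 2) (ht : orderOf t = 2) : IsConj s t := by
  by_contra hn
  have h := M12Nse.card_isConj_mul s
  rw [H.card, cent_two H hs] at h
  have hlt : Nat.card {z : G // IsConj s z} < cnt G 2 := by
    rw [cnt, ← Set.coe_ofPred, ← Set.coe_ofPred, Nat.card_coe_set_eq, Nat.card_coe_set_eq]
    exact Set.ncard_lt_ncard ⟨fun z hz => (M12Nse.conj_orderOf hz).trans hs, fun hsub => hn (hsub ht)⟩ (Set.toFinite _)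
  rw [H.two] at hlt
  omega

theorem exists_tau {x t : G} (hx : orderOf x = 3) {ψ : A5 →* G} (hψ : Side x ψ) (ht : orderOf t = 2)
    (hc : t * x = x * t) : ∃ τ : A5, t = ψ τ ∧ τ * τ = 1 ∧ τ ≠ 1 := by
  obtain ⟨k, τ, -, hτ⟩ := hψ.cover t hc
  obtain ⟨hk, ho⟩ := hψ.order_pair hx (n := 2) (k := k) (π := τ) (by norm_num) (hτ ▸ ht)
  rw [hk, one_mul] at hτ
  exact ⟨τ, hτ, by rw [← pow_two, ← ho, pow_orderOf_eq_one], fun e => by rw [e, orderOf_one] at ho; norm_num at ho⟩

theorem card_pair {x t : G} (hx : orderOf x = 3) (ht : orderOf t = 2) (hc : t * x = x * t) :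
    Nat.card ↥(centralizer ({x} : Set G) ⊓ centralizer ({t} : Set G) : Subgroup G) = 12 := by
  obtain ⟨ψ, hψ⟩ := exists_side H hx
  obtain ⟨τ, rfl, h1, h2⟩ := exists_tau H hx hψ ht hc
  rw [hψ.card_pair hx τ, Nat.card_eq_fintype_card, invol_cent τ h1 h2]

/-- a two-element centralising an element of order three has square one -/
theorem sq_one {x z : G} (hx : orderOf x = 3) (hc : z * x = x * z) {k : ℕ} (hk : orderOf z ∣ 2 ^ k) : z * z = 1 := by
  obtain ⟨j, -, hj⟩ := (Nat.dvd_prime_pow Nat.prime_two).1 hk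
  have hm := comm_order H hc.symm (by rw [hx, hj]; exact Nat.Coprime.pow_right j (by norm_num))
  rw [hx, hj] at hm
  have hj1 : j ≤ 1 := by
    by_contra! hj2
    have h12 : 12 ∣ 3 * 2 ^ j := (show 3 * 2 ^ 2 ∣ 3 * 2 ^ j from Nat.mul_dvd_mul_left 3 (pow_dvd_pow 2 hj2))
    have : ∀ m ∈ fieldOrders, ¬ 12 ∣ m := by decide +kernel
    exact this _ hm h12
  rw [← pow_two, ← orderOf_dvd_iff_pow_eq_one, hj]
  exact pow_dvd_pow 2 hj1

theorem exists_inverter {x t : G} (hx : orderOf x = 3) (ht : orderOf t = 2) (hc : t * x = x * t) :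
    ∃ n : G, n * t = t * n ∧ n * x * n⁻¹ = x⁻¹ := by
  obtain ⟨g, hg⟩ := isConj_iff.1 (conj_three H hx (y := x⁻¹) (by rw [orderOf_inv, hx]))
  obtain ⟨ψ, hψ⟩ := exists_side H hx
  obtain ⟨τ, hτ, h1, h2⟩ := exists_tau H hx hψ ht hc
  have hgc : g * t * g⁻¹ * x = x * (g * t * g⁻¹) := by
    have hc' : Commute (g * t * g⁻¹) (g * x * g⁻¹) := by
      show g * t * g⁻¹ * (g * x * g⁻¹) = g * x * g⁻¹ * (g * t * g⁻¹)
      rw [show g * t * g⁻¹ * (g * x * g⁻¹) = g * (t * x) * g⁻¹ by group, hc]; group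
    rw [hg] at hc'
    simpa using hc'.inv_right.eq
  obtain ⟨τ', hτ', h1', h2'⟩ := exists_tau H hx hψ (t := g * t * g⁻¹)
    (by rw [← MulAut.conj_apply, MulEquiv.orderOf_eq, ht]) hgc
  obtain ⟨s, hs⟩ := invol_conj τ h1 h2 τ' h1' h2'
  refine ⟨ψ s * g, ?_, ?_⟩
  · rw [← mul_inv_eq_iff_eq_mul, show ψ s * g * t * (ψ s * g)⁻¹ = ψ s * (g * t * g⁻¹) * (ψ s)⁻¹ by group,
      hτ', ← map_inv, ← map_mul, ← map_mul, hs, ← hτ]
  · rw [show ψ s * g * x * (ψ s * g)⁻¹ = ψ s * (g * x * g⁻¹) * (ψ s)⁻¹ by group, hg,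
      (show Commute (ψ s) x from hψ.comm s).inv_right.eq, mul_inv_cancel_right]

theorem card_norm_cent {x t : G} (hx : orderOf x = 3) (ht : orderOf t = 2) (hc : t * x = x * t) :
    Nat.card ↥(normalizer (zpowers x : Set G) ⊓ centralizer ({t} : Set G) : Subgroup G) ≤ 24 := by
  classical
  obtain ⟨n, hnt, hnx⟩ := exists_inverter H hx ht hc
  set K := centralizer ({x} : Set G) ⊓ centralizer ({t} : Set G) with hK
  have hinv : ∀ g ∈ normalizer (zpowers x : Set G), g * x * g⁻¹ = x ∨ g * x * g⁻¹ = x⁻¹ := fun g hg => by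
    have hm := (mem_normalizer_iff.1 hg x).1 (mem_zpowers x)
    rw [← mem_powers_iff_mem_zpowers, Submonoid.mem_powers_iff] at hm
    obtain ⟨k, hk⟩ := hm
    rw [← pow_mod_orderOf, hx] at hk
    have h3 : k % 3 < 3 := Nat.mod_lt _ (by norm_num)
    interval_cases h : k % 3
    · exfalso
      rw [pow_zero] at hk
      have := conj_eq_one_iff.1 hk.symm
      simp [this] at hx
    · exact Or.inl (by rw [← hk, pow_one])
    · exact Or.inr (by
        rw [← hk]
        refine eq_inv_of_mul_eq_one_left ?_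
        rw [← pow_succ, show 2 + 1 = 3 from rfl, ← hx, pow_orderOf_eq_one])
  refine (Nat.card_le_card_of_injective (β := Bool × ↥K)
    (fun g : ↥(normalizer (zpowers x : Set G) ⊓ centralizer ({t} : Set G) : Subgroup G) =>
      if h : (g : G) * x * (g : G)⁻¹ = x then (true, ⟨g, mem_inf.2
        ⟨mem_centralizer_singleton_iff.2 (mul_inv_eq_iff_eq_mul.1 h), (mem_inf.1 g.2).2⟩⟩)
      else (false, ⟨n⁻¹ * g, mem_inf.2 ⟨mem_centralizer_singleton_iff.2 (by
          have h' := (hinv g (mem_inf.1 g.2).1).resolve_left h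
          rw [← hnx] at h'
          calc n⁻¹ * (g : G) * x = n⁻¹ * ((g : G) * x * (g : G)⁻¹) * (g : G) := by group
            _ = n⁻¹ * (n * x * n⁻¹) * (g : G) := by rw [h']
            _ = _ := by group),
        mul_mem (inv_mem (mem_centralizer_singleton_iff.2 hnt)) (mem_inf.1 g.2).2⟩⟩)) ?_).trans ?_
  · intro a b e
    dsimp only at e
    split_ifs at e with ha hb hb
    · exact Subtype.ext (congrArg (fun p : Bool × ↥K => (p.2 : G)) e)
    · simp at e
    · simp at e
    · exact Subtype.ext (mul_left_cancel (congrArg (fun p : Bool × ↥K => (p.2 : G)) e))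
  · rw [Nat.card_prod, hK, card_pair H hx ht hc]
    simp

theorem exists_in_cent {t : G} (ht : orderOf t = 2) {q : ℕ} (hq : q.Prime) (h : q ∣ 2688) :
    ∃ w, w * t = t * w ∧ orderOf w = q := by
  obtain ⟨w, hw, hwo⟩ := exists_elt_prime H hq (centralizer ({t} : Set G)) (cent_two H ht ▸ h)
  exact ⟨w, mem_centralizer_singleton_iff.1 hw, hwo⟩

/-- a normal two-subgroup of the centraliser above the span of the involution has order two or sixteen -/
theorem normal_two {t : G} (ht : orderOf t = 2) (R : Subgroup G) (hR : IsPGroup 2 ↥R)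
    (hC : R ≤ centralizer ({t} : Set G)) (htR : t ∈ R)
    (hn : ∀ g : G, g * t = t * g → ∀ u ∈ R, g * u * g⁻¹ ∈ R) : Nat.card ↥R = 2 ∨ Nat.card ↥R = 16 := by
  obtain ⟨a, ha⟩ := IsPGroup.iff_card.1 hR
  have ha7 : a ≤ 7 := by
    have h := Subgroup.card_dvd_of_le hC
    rw [cent_two H ht, ha] at h
    by_contra! h8
    have := (pow_dvd_pow 2 h8).trans h
    norm_num at this
  obtain ⟨y, hyt, hyo⟩ := exists_in_cent H ht (q := 7) (by norm_num) (by norm_num)
  have hmod := fix_mod (p := 7) R hyo fun u hu => hn y hyt u hu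
  set I := R ⊓ centralizer ({y} : Set G)
  have hI : Nat.card ↥I = 2 := by
    obtain ⟨b, -, hb⟩ := (Nat.dvd_prime_pow Nat.prime_two).1 (ha ▸ Subgroup.card_dvd_of_le (inf_le_left : I ≤ R))
    have h14 : Nat.card ↥I ∣ 14 := (cent_seven H hyo).1 ▸ Subgroup.card_dvd_of_le inf_le_right
    have h2 : 2 ∣ Nat.card ↥I :=
      ht ▸ Subgroup.orderOf_dvd_natCard I ⟨htR, mem_centralizer_singleton_iff.2 hyt.symm⟩
    rw [hb] at h14 h2 ⊢
    rcases b with _ | _ | b
    · norm_num at h2
    · norm_num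
    · exfalso
      have := (pow_dvd_pow 2 (show 2 ≤ b + 2 by omega)).trans h14
      norm_num at this
  rw [hI, ha] at hmod
  have hcases : a = 1 ∨ a = 4 ∨ a = 7 := by interval_cases a <;> norm_num at hmod <;> simp
  rcases hcases with rfl | rfl | rfl
  · exact Or.inl (by rw [ha]; norm_num)
  · exact Or.inr (by rw [ha]; norm_num)
  exfalso
  set C := centralizer ({t} : Set G)
  obtain ⟨x, hxt, hxo⟩ := exists_in_cent H ht (q := 3) Nat.prime_three (by norm_num)
  obtain ⟨n, hnt, hnx⟩ := exists_inverter H hxo ht hxt.symm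
  set R' := R.subgroupOf C
  haveI : R'.Normal := ⟨fun u hu g => by
    rw [mem_subgroupOf] at hu ⊢
    simpa using hn g (mem_centralizer_singleton_iff.1 g.2) u hu⟩
  have hq : Nat.card (↥C ⧸ R') = 21 := by
    have := R'.card_eq_card_quotient_mul_card_subgroup
    rw [cent_two H ht, Nat.card_congr (Subgroup.subgroupOfEquivOfLe hC).toEquiv, ha] at this
    omega
  set X : ↥C ⧸ R' := QuotientGroup.mk (⟨x, mem_centralizer_singleton_iff.2 hxt⟩ : ↥C)
  set N : ↥C ⧸ R' := QuotientGroup.mk (⟨n, mem_centralizer_singleton_iff.2 hnt⟩ : ↥C)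
  have hNX : N * X * N⁻¹ = X⁻¹ := by
    simp only [X, N, ← QuotientGroup.mk_inv, ← QuotientGroup.mk_mul]
    exact congrArg QuotientGroup.mk (Subtype.ext hnx)
  have h2 : N * N * X = X * (N * N) := by
    rw [← mul_inv_eq_iff_eq_mul, show N * N * X * (N * N)⁻¹ = N * (N * X * N⁻¹) * N⁻¹ by group, hNX,
      show N * X⁻¹ * N⁻¹ = (N * X * N⁻¹)⁻¹ by group, hNX, inv_inv]
  have hN21 : N = (N * N) ^ 11 := by
    rw [← pow_two, ← pow_mul, show 2 * 11 = 21 + 1 from rfl, pow_succ, ← hq, pow_card_eq_one', one_mul]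
  have hc : N * X = X * N := by rw [hN21]; exact (show Commute (N * N) X from h2).pow_left 11
  rw [hc, mul_inv_cancel_right] at hNX
  have hX1 : X = 1 := by
    have h21 : X ^ 2 = 1 := by rw [pow_two]; exact mul_eq_one_iff_eq_inv.2 hNX
    have h' : X ^ 21 = 1 := by rw [← hq, pow_card_eq_one']
    rwa [show 21 = 2 * 10 + 1 from rfl, pow_succ, pow_mul, h21, one_pow, one_mul] at h'
  have hxR : x ∈ R := mem_subgroupOf.1 ((QuotientGroup.eq_one_iff _).1 hX1)
  have := Subgroup.orderOf_dvd_natCard R hxR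
  rw [hxo, ha] at this
  norm_num at this

/-- the centraliser of an involution has a normal elementary subgroup of order sixteen -/
theorem exists_core {t : G} (ht : orderOf t = 2) :
    ∃ E : Subgroup G, E ≤ centralizer ({t} : Set G) ∧ t ∈ E ∧ Nat.card ↥E = 16 ∧
      ∀ g : G, g * t = t * g → ∀ u ∈ E, g * u * g⁻¹ ∈ E := by
  classical
  set C := centralizer ({t} : Set G) with hC
  have htC : t ∈ C := mem_centralizer_singleton_iff.2 rfl
  set tc : ↥C := ⟨t, htC⟩
  set T := zpowers tc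
  haveI hTn : T.Normal := ⟨fun z hz g => by
    obtain ⟨k, rfl⟩ := mem_zpowers_iff.1 hz
    rw [((show Commute g tc from Subtype.ext (mem_centralizer_singleton_iff.1 g.2)).zpow_right k).eq,
      mul_inv_cancel_right]
    exact zpow_mem (mem_zpowers _) k⟩
  have hT : Nat.card ↥T = 2 := by rw [Nat.card_zpowers, Subgroup.orderOf_mk, ht]
  have hD : Nat.card (↥C ⧸ T) = 1344 := by
    have := T.card_eq_card_quotient_mul_card_subgroup
    rw [hT, cent_two H ht] at this
    omega
  haveI : Nontrivial (↥C ⧸ T) := Finite.one_lt_card_iff_nontrivial.1 (by rw [hD]; norm_num)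
  have hns : ¬ IsSimpleGroup (↥C ⧸ T) := by
    intro hs
    have hnc : ¬ ∀ a b : ↥C ⧸ T, a * b = b * a := fun hc => by
      have := not_comm_of_isSimple (G := ↥C ⧸ T) (by rw [hD]; norm_num)
      exact this hc
    have := Cfsg.Lib.Small.Sieve.mem_of_all hnc (T := [(1344, 7)]) (I := []) (L := []) (lo := 1344) (len := 1)
      (by decide +kernel) (by rw [hD]) (by rw [hD]; norm_num)
    simp at this
  obtain ⟨N, hN, hNbot, hNtop⟩ : ∃ N : Subgroup (↥C ⧸ T), N.Normal ∧ N ≠ ⊥ ∧ N ≠ ⊤ := by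
    by_contra! hall
    exact hns ⟨fun N hN => or_iff_not_imp_left.2 (hall N hN)⟩
  set M := N.comap (QuotientGroup.mk' T)
  haveI hMn : M.Normal := hN.comap _
  have hTM : T ≤ M := fun z hz => by
    show (QuotientGroup.mk' T) z ∈ N
    rw [QuotientGroup.mk'_apply, (QuotientGroup.eq_one_iff z).2 hz]
    exact one_mem _
  have hMi : M.index = N.index := Subgroup.index_comap_of_surjective _ (QuotientGroup.mk'_surjective T)
  have hi1 : M.index ≠ 1 := by
    rw [hMi]; exact fun e => hNtop (Subgroup.index_eq_one.1 e)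
  have hi2 : M.index ≠ 1344 := by
    rw [hMi]; intro e
    refine hNbot (Subgroup.eq_bot_of_card_eq N ?_)
    have := Subgroup.card_mul_index N
    rw [e, hD] at this
    omega
  have hmul := Subgroup.card_mul_index M
  rw [cent_two H ht] at hmul
  obtain ⟨y, hyt, hyo⟩ := exists_in_cent H ht (q := 7) (by norm_num) (by norm_num)
  obtain ⟨x, hxt, hxo⟩ := exists_in_cent H ht (q := 3) Nat.prime_three (by norm_num)
  set yc : ↥C := ⟨y, mem_centralizer_singleton_iff.2 hyt⟩
  set xc : ↥C := ⟨x, mem_centralizer_singleton_iff.2 hxt⟩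
  have hyco : orderOf yc = 7 := by rw [Subgroup.orderOf_mk, hyo]
  have hxco : orderOf xc = 3 := by rw [Subgroup.orderOf_mk, hxo]
  have hnorm : ∀ (w : ↥C), Nat.card ↥(normalizer (zpowers w : Set ↥C)) =
      Nat.card ↥(normalizer (zpowers (w : G) : Set G) ⊓ C : Subgroup G) := fun w => by
    have hmz : ∀ h : ↥C, h ∈ zpowers w ↔ (h : G) ∈ zpowers (w : G) := fun h => by
      rw [mem_zpowers_iff, mem_zpowers_iff]
      exact ⟨fun ⟨k, hk⟩ => ⟨k, by rw [← hk]; simp⟩, fun ⟨k, hk⟩ => ⟨k, Subtype.ext (by simpa using hk)⟩⟩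
    rw [← Subgroup.card_map_of_injective C.subtype_injective]
    refine congrArg (fun K : Subgroup G => Nat.card ↥K) (Subgroup.ext fun g => ?_)
    simp only [Subgroup.mem_map, Subgroup.coe_subtype, mem_inf]
    constructor
    · rintro ⟨g, hg, rfl⟩
      refine ⟨mem_normalizer_of_conj _ fun u hu => ?_, g.2⟩
      have huC : u ∈ C := (zpowers_le.2 w.2 : zpowers (w : G) ≤ C) hu
      simpa using (hmz _).1 ((mem_normalizer_iff.1 hg ⟨u, huC⟩).1 ((hmz _).2 hu))
    · rintro ⟨hg, hgC⟩
      refine ⟨⟨g, hgC⟩, mem_normalizer_iff.2 fun h => ?_, rfl⟩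
      rw [hmz, hmz]
      simpa using mem_normalizer_iff.1 hg (h : G)
  have hsyl : ∀ {p : ℕ} [Fact p.Prime] (P : Sylow p ↥C) {m : ℕ}, 2688 = p * m → ¬ p ∣ m → ∀ w : ↥C, orderOf w = p →
      w ∈ (P : Subgroup ↥C) → (P : Subgroup ↥C) = zpowers w := by
    intro p _ P m hm hpm w hw hwP
    refine (Subgroup.eq_of_le_of_card_ge (zpowers_le.2 hwP) ?_).symm
    rw [Nat.card_zpowers, hw, card_sylow_of_factor P (a := 1) (m := m) (by rw [cent_two H ht, pow_one, hm]) hpm, pow_one]
  by_cases h7 : 7 ∣ Nat.card ↥M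
  · exfalso
    -- an element of order seven inside: the quotient has order three and contains an inverted element
    obtain ⟨P, hP⟩ := IsPGroup.exists_le_sylow
      (IsPGroup.of_card (p := 7) (n := 1) (by rw [Nat.card_zpowers, hyco, pow_one]) : IsPGroup 7 ↥(zpowers yc))
    have hPeq := hsyl P (m := 384) (by norm_num) (by norm_num) yc hyco (hP (mem_zpowers _))
    obtain ⟨⟨w, hwM⟩, hwo⟩ := exists_prime_orderOf_dvd_card' (G := ↥M) 7 h7
    rw [Subgroup.orderOf_mk] at hwo
    obtain ⟨Q, hQ⟩ := IsPGroup.exists_le_sylow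
      (IsPGroup.of_card (p := 7) (n := 1) (by rw [Nat.card_zpowers, hwo, pow_one]) : IsPGroup 7 ↥(zpowers w))
    have hQeq := hsyl Q (m := 384) (by norm_num) (by norm_num) w hwo (hQ (mem_zpowers _))
    obtain ⟨r, hr⟩ := MulAction.exists_smul_eq ↥C Q P
    have hyM : yc ∈ M := by
      have : yc ∈ (P : Subgroup ↥C) := hP (mem_zpowers _)
      rw [← hr, Sylow.coe_subgroup_smul] at this
      obtain ⟨u, hu, hue⟩ := this
      rw [← hue]
      have huM : u ∈ M := (zpowers_le.2 hwM : zpowers w ≤ M) (by rw [← hQeq]; exact hu)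
      exact hMn.conj_mem u huM r
    have htC' : Commute tc yc := Subtype.ext hyt.symm
    have h14 : orderOf (tc * yc) = 14 :=
      orderOf_mul_coprime htC' (by rw [Subgroup.orderOf_mk, ht]) hyco (by norm_num)
    have hd := frattini M P (by rw [hPeq]; exact zpowers_le.2 hyM) (zpowers (tc * yc))
      (zpowers_le.2 (by
        rw [hPeq]
        refine mul_mem (mem_normalizer_of_conj _ fun u hu => ?_) (le_normalizer (mem_zpowers yc))
        obtain ⟨k, rfl⟩ := mem_zpowers_iff.1 hu
        rw [(htC'.zpow_right k).eq, mul_inv_cancel_right]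
        exact zpow_mem (mem_zpowers _) k))
      (zpowers_le.2 (mul_mem (hTM (mem_zpowers _)) hyM))
    obtain ⟨PG, hPG⟩ := M12Nse.exists_sylow_zpowers (H.sylow_seven) hyo
    have h42 : Nat.card ↥(normalizer (zpowers y : Set G)) = 42 := by
      have h := card_normalizer_mul PG
      rw [H.card, (H.cnt_seven).2, hPG] at h
      omega
    have hN42 : Nat.card ↥(normalizer ((P : Subgroup ↥C) : Set ↥C)) ∣ 42 := by
      rw [hPeq, hnorm, ← h42]
      exact Subgroup.card_dvd_of_le inf_le_left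
    rw [Nat.card_zpowers, h14] at hd
    have hd3 : M.index ∣ 3 := Nat.dvd_of_mul_dvd_mul_right (by norm_num : 0 < 14)
      (show M.index * 14 ∣ 3 * 14 from hd.trans hN42)
    have hi3 : M.index = 3 := ((Nat.dvd_prime Nat.prime_three).1 hd3).resolve_left hi1
    obtain ⟨n, hnt, hnx⟩ := exists_inverter H hxo ht hxt.symm
    set nc : ↥C := ⟨n, mem_centralizer_singleton_iff.2 hnt⟩
    have hq : Nat.card (↥C ⧸ M) = 3 := by rw [← Subgroup.index_eq_card, hi3]
    haveI : IsCyclic (↥C ⧸ M) := isCyclic_of_prime_card hq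
    letI := IsCyclic.commGroup (α := ↥C ⧸ M)
    have hinv : (QuotientGroup.mk xc : ↥C ⧸ M) = (QuotientGroup.mk xc)⁻¹ := by
      have e : (QuotientGroup.mk (nc * xc * nc⁻¹) : ↥C ⧸ M) = QuotientGroup.mk xc⁻¹ :=
        congrArg QuotientGroup.mk (Subtype.ext hnx)
      simp only [QuotientGroup.mk_mul, QuotientGroup.mk_inv] at e
      rwa [mul_comm (QuotientGroup.mk nc : ↥C ⧸ M), mul_inv_cancel_right] at e
    have hx3 : (QuotientGroup.mk xc : ↥C ⧸ M) ^ 3 = 1 := by rw [← hq]; exact pow_card_eq_one'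
    have hxM : xc ∈ M := by
      rw [← QuotientGroup.eq_one_iff]
      rwa [pow_succ, pow_two, show (QuotientGroup.mk xc : ↥C ⧸ M) * QuotientGroup.mk xc = 1 from
        mul_eq_one_iff_eq_inv.2 hinv, one_mul] at hx3
    have h3 : 3 ∣ Nat.card ↥M := hxco ▸ Subgroup.orderOf_dvd_natCard M hxM
    rw [hi3] at hmul
    have : Nat.card ↥M = 896 := by omega
    rw [this] at h3
    norm_num at h3
  by_cases h3 : 3 ∣ Nat.card ↥M
  · exfalso
    obtain ⟨⟨w, hwM⟩, hwo⟩ := exists_prime_orderOf_dvd_card' (G := ↥M) 3 h3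
    rw [Subgroup.orderOf_mk] at hwo
    obtain ⟨Q, hQ⟩ := IsPGroup.exists_le_sylow
      (IsPGroup.of_card (p := 3) (n := 1) (by rw [Nat.card_zpowers, hwo, pow_one]) : IsPGroup 3 ↥(zpowers w))
    have hQeq := hsyl Q (m := 896) (by norm_num) (by norm_num) w hwo (hQ (mem_zpowers _))
    have hd := frattini M Q (by rw [hQeq]; exact zpowers_le.2 hwM) ⊥ bot_le bot_le
    rw [Subgroup.card_bot, mul_one, hQeq, hnorm] at hd
    have hle := Subgroup.card_le_of_le (le_refl (normalizer (zpowers (w : G) : Set G) ⊓ C))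
    have h24 := card_norm_cent H (x := (w : G)) (t := t) (by rw [Subgroup.orderOf_coe, hwo]) ht
      (mem_centralizer_singleton_iff.1 w.2).symm
    have hdvd : Nat.card ↥(normalizer (zpowers (w : G) : Set G) ⊓ C : Subgroup G) ∣ 2688 :=
      cent_two H ht ▸ Subgroup.card_dvd_of_le inf_le_right
    have h7i : 7 ∣ M.index := ((Nat.Prime.dvd_mul (by norm_num : Nat.Prime 7)).1 (hmul ▸ (by norm_num : 7 ∣ 2688))).resolve_left h7
    have h7N := h7i.trans hd
    have h3N : 3 ∣ Nat.card ↥(normalizer (zpowers (w : G) : Set G) ⊓ C : Subgroup G) := by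
      refine (show orderOf (w : G) = 3 by rw [Subgroup.orderOf_coe, hwo]) ▸ Subgroup.orderOf_dvd_natCard _ ?_
      exact mem_inf.2 ⟨le_normalizer (mem_zpowers _), w.2⟩
    have h21 : 21 ∣ Nat.card ↥(normalizer (zpowers (w : G) : Set G) ⊓ C : Subgroup G) :=
      Nat.Coprime.mul_dvd_of_dvd_of_dvd (by norm_num : Nat.Coprime 3 7) h3N h7N
    have h21' : Nat.card ↥(normalizer (zpowers (w : G) : Set G) ⊓ C : Subgroup G) = 21 := by
      obtain ⟨c, hc⟩ := h21
      rw [← hC] at h24
      have : 0 < Nat.card ↥(normalizer (zpowers (w : G) : Set G) ⊓ C : Subgroup G) := Nat.card_pos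
      omega
    have h12 : 12 ∣ Nat.card ↥(normalizer (zpowers (w : G) : Set G) ⊓ C : Subgroup G) := by
      rw [← card_pair H (x := (w : G)) (t := t) (by rw [Subgroup.orderOf_coe, hwo]) ht (mem_centralizer_singleton_iff.1 w.2).symm]
      refine Subgroup.card_dvd_of_le fun g hg => ?_
      obtain ⟨hg1, hg2⟩ := mem_inf.1 hg
      refine mem_inf.2 ⟨mem_normalizer_of_conj _ fun u hu => ?_, hg2⟩
      obtain ⟨k, rfl⟩ := mem_zpowers_iff.1 hu
      rw [((show Commute g (w : G) from mem_centralizer_singleton_iff.1 hg1).zpow_right k).eq, mul_inv_cancel_right]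
      exact zpow_mem (mem_zpowers _) k
    rw [h21'] at h12
    norm_num at h12
  have hM2 : Nat.card ↥M ∣ 2 ^ 7 := by
    refine Nat.Coprime.dvd_of_dvd_mul_right ?_ (show Nat.card ↥M ∣ 2 ^ 7 * 21 from ⟨M.index, by rw [hmul]; norm_num⟩)
    rw [show (21 : ℕ) = 3 * 7 by norm_num]
    exact Nat.Coprime.mul_right ((Nat.Prime.coprime_iff_not_dvd Nat.prime_three).2 h3).symm
      ((Nat.Prime.coprime_iff_not_dvd (by norm_num)).2 h7).symm
  obtain ⟨j, -, hj⟩ := (Nat.dvd_prime_pow Nat.prime_two).1 hM2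
  set E := M.map C.subtype
  have hEc : Nat.card ↥E = Nat.card ↥M := Subgroup.card_map_of_injective C.subtype_injective
  have hEC : E ≤ C := by rintro _ ⟨u, -, rfl⟩; exact u.2
  have htE : t ∈ E := ⟨tc, hTM (mem_zpowers _), rfl⟩
  have hEn : ∀ g : G, g * t = t * g → ∀ u ∈ E, g * u * g⁻¹ ∈ E := by
    rintro g hg _ ⟨u, hu, rfl⟩
    exact ⟨⟨g, mem_centralizer_singleton_iff.2 hg⟩ * u * ⟨g, mem_centralizer_singleton_iff.2 hg⟩⁻¹,
      hMn.conj_mem u hu _, by simp⟩
  refine ⟨E, hEC, htE, ?_, hEn⟩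
  refine (normal_two H ht E (IsPGroup.of_card (hEc.trans hj)) hEC htE hEn).resolve_left fun e => ?_
  rw [hEc] at e
  rw [e] at hmul
  exact hi2 (by omega)

end Cfsg.Lib.M23Nse
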